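import Mathlib
import Cfsg.Agent.S0215
import Cfsg.Agent.Characters.CNBasic
import Cfsg.Agent.PLocal.CoprimeLift

/-!
# Groups with an involution centralizer with two commuting `SL₂`-like subgroups: reduction to the simple case

`Facts τ s L₁ L₂ B P₁ P₂` (in a group `X`): `L₁`, `L₂` commute, are normalized by the subgroup `B` of index two,
exchanged by `s`, each has the unique involution `τ` and no subgroup of index two; every involution of `X` commuting
with the Sylow 2-subgroups `P₁`, `P₂` of `L₁`, `L₂` is `τ`; a quotient of `X` in which `P₁`, `P₂` are trivial is trivial if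
it has no subgroup of index two.

* `Facts.map`: the facts go over to quotients by normal subgroups of odd order;
* `isSimpleGroup`: a finite group `H` without nontrivial normal subgroups of odd order and without subgroups of
  index two with an involution `t` such that `C_H(t)` has these facts is simple; `sylow_le` : the Sylow 2-subgroups containing
  `P₁`, `P₂` are in `C_H(t)`.
-/

set_option autoImplicit false

namespace Cfsg.Agent.H313.Red

open Subgroup

/-- Two commuting `SL₂`-like subgroups exchanged by `s`. -/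
structure Facts {X : Type*} [Group X] (τ s : X) (L₁ L₂ B P₁ P₂ : Subgroup X) : Prop where
  ne : τ ≠ 1
  sq : τ * τ = 1
  cen : ∀ x, x * τ = τ * x
  mem₁ : τ ∈ P₁
  mem₂ : τ ∈ P₂
  comm : ∀ a ∈ L₁, ∀ b ∈ L₂, a * b = b * a
  index : B.index = 2
  s_not : s ∉ B
  conj₁ : ∀ a ∈ L₁, s * a * s⁻¹ ∈ L₂
  conj₂ : ∀ a ∈ L₂, s * a * s⁻¹ ∈ L₁
  norm₁ : ∀ b ∈ B, ∀ a ∈ L₁, b * a * b⁻¹ ∈ L₁
  norm₂ : ∀ b ∈ B, ∀ a ∈ L₂, b * a * b⁻¹ ∈ L₂
  le₁ : P₁ ≤ L₁
  le₂ : P₂ ≤ L₂
  pg₁ : IsPGroup 2 P₁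
  pg₂ : IsPGroup 2 P₂
  uniq₁ : ∀ x ∈ L₁, x * x = 1 → x = 1 ∨ x = τ
  uniq₂ : ∀ x ∈ L₂, x * x = 1 → x = 1 ∨ x = τ
  no₁ : ∀ K : Subgroup X, K.relIndex L₁ ≠ 2
  no₂ : ∀ K : Subgroup X, K.relIndex L₂ ≠ 2
  nrm₁ : ∀ N : Subgroup X, N ≤ L₁ → (∀ a ∈ L₁, ∀ x ∈ N, a * x * a⁻¹ ∈ N) → (∀ x ∈ N, x = 1 ∨ x = τ) ∨ P₁ ≤ N
  nrm₂ : ∀ N : Subgroup X, N ≤ L₂ → (∀ a ∈ L₂, ∀ x ∈ N, a * x * a⁻¹ ∈ N) → (∀ x ∈ N, x = 1 ∨ x = τ) ∨ P₂ ≤ N
  nc₁ : ∃ x ∈ L₁, ∃ y ∈ L₁, x * x * y ≠ y * (x * x)
  nc₂ : ∃ x ∈ L₂, ∃ y ∈ L₂, x * x * y ≠ y * (x * x)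
  big₁ : ∃ p ∈ P₁, p ≠ 1 ∧ p ≠ τ
  big₂ : ∃ p ∈ P₂, p ≠ 1 ∧ p ≠ τ
  only : ∀ x : X, x * x = 1 → (∀ y ∈ P₁, x * y = y * x) → (∀ y ∈ P₂, x * y = y * x) → x = 1 ∨ x = τ
  quot : ∀ N : Subgroup X, N.Normal → P₁ ≤ N → P₂ ≤ N → (∀ K : Subgroup X, N ≤ K → K.index ≠ 2) → N = ⊤

section basic

variable {X : Type*} [Group X]

/-- The map `x ↦ [y, x]` with values in `{1, τ}`. -/
theorem comm_of_no {τ : X} (cen : ∀ x, x * τ = τ * x) (sq : τ * τ = 1) {L : Subgroup X}
    (no : ∀ K : Subgroup X, K.relIndex L ≠ 2) {y : X}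
    (h : ∀ x ∈ L, y * x * y⁻¹ * x⁻¹ = 1 ∨ y * x * y⁻¹ * x⁻¹ = τ) : ∀ x ∈ L, y * x = x * y := by
  by_contra hc
  push Not at hc
  obtain ⟨a, ha, hay⟩ := hc
  have key : ∀ x ∈ L, y * x * y⁻¹ = x ∨ y * x * y⁻¹ = τ * x := by
    intro x hx
    rcases h x hx with e | e
    · left; exact mul_inv_eq_one.mp e
    · right; exact mul_inv_eq_iff_eq_mul.mp e
  have hane : y * a * y⁻¹ ≠ a := by
    intro e
    exact hay (mul_inv_eq_iff_eq_mul.mp e)
  have hat : y * a * y⁻¹ = τ * a := (key a ha).resolve_left hane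
  have hτ1 : τ ≠ 1 := by
    intro e
    rw [e, one_mul] at hat
    exact hane hat
  have mem : ∀ x, x ∈ centralizer ({y} : Set X) ↔ y * x * y⁻¹ = x := by
    intro x
    rw [mem_centralizer_singleton_iff]
    constructor
    · intro e; rw [← e]; group
    · intro e; rw [mul_inv_eq_iff_eq_mul] at e; exact e.symm
  apply no (centralizer ({y} : Set X))
  rw [relIndex_eq_two_iff]
  refine ⟨a, ha, fun b hb => ?_⟩
  rw [mem, mem]
  have e1 : y * (b * a) * y⁻¹ = (y * b * y⁻¹) * (y * a * y⁻¹) := by group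
  rcases key b hb with e | e
  · right
    refine ⟨e, ?_⟩
    rw [e1, e, hat]
    intro h2
    rw [← mul_assoc, cen b, mul_assoc] at h2
    exact hτ1 (mul_eq_right.mp h2)
  · left
    constructor
    · rw [e1, e, hat]
      calc τ * b * (τ * a) = (τ * (b * τ)) * a := by group
        _ = (τ * (τ * b)) * a := by rw [cen b]
        _ = (τ * τ) * b * a := by group
        _ = b * a := by rw [sq, one_mul]
    · intro h2
      rw [e] at h2
      exact hτ1 (mul_eq_right.mp h2)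

end basic

section pg

variable {G : Type*} [Group G]

/-- An element of 2-power order different from 1 has a power of order two. -/
theorem exists_pow_inv {w : G} (hw : w ≠ 1) {k : ℕ} (hk : w ^ 2 ^ k = 1) : ∃ m : ℕ, w ^ m ≠ 1 ∧ w ^ m * w ^ m = 1 := by
  induction k generalizing w with
  | zero => exact absurd (by simpa using hk) hw
  | succ k ih =>
    by_cases h : w * w = 1
    · exact ⟨1, by simpa using hw, by simpa using h⟩
    · obtain ⟨m, h1, h2⟩ := ih (w := w * w) h (by rw [← pow_two, ← pow_mul, ← pow_succ']; exact hk)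
      refine ⟨2 * m, ?_, ?_⟩
      · rwa [pow_mul, pow_two]
      · rw [pow_mul, pow_two w]; exact h2

/-- A nontrivial 2-subgroup normalized by a 2-subgroup contains an involution centralized by it. -/
theorem exists_central_inv [Finite G] (T D : Subgroup G) (hT : IsPGroup 2 T) (hD : IsPGroup 2 D) (hD1 : D ≠ ⊥)
    (hn : ∀ t ∈ T, ∀ d ∈ D, t * d * t⁻¹ ∈ D) : ∃ u ∈ D, u ≠ 1 ∧ u * u = 1 ∧ ∀ t ∈ T, t * u = u * t := by
  have : Fact (Nat.Prime 2) := ⟨Nat.prime_two⟩
  obtain ⟨w, hwD, hw1, hw⟩ := Characters.CNBasic.exists_mem_center_of_normal T hT D hD hD1 hn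
  obtain ⟨k, hk⟩ := hD ⟨w, hwD⟩
  have hk' : w ^ 2 ^ k = 1 := by simpa using congrArg Subtype.val hk
  obtain ⟨m, h1, h2⟩ := exists_pow_inv hw1 hk'
  refine ⟨w ^ m, D.pow_mem hwD m, h1, h2, fun t ht => ?_⟩
  exact (Commute.pow_right (hw t ht) m)

/-- A subgroup of even order contains an element of order two. -/
theorem exists_inv_of_not_odd [Finite G] (N : Subgroup G) (h2 : ¬ Odd (Nat.card N)) :
    ∃ x ∈ N, x ≠ 1 ∧ x * x = 1 := by
  have : Fact (Nat.Prime 2) := ⟨Nat.prime_two⟩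
  have h3 : 2 ∣ Nat.card N := by
    rcases Nat.even_or_odd (Nat.card N) with h | h
    · exact h.two_dvd
    · exact absurd h h2
  obtain ⟨x, hx⟩ := exists_prime_orderOf_dvd_card' 2 h3
  refine ⟨x, x.2, ?_, ?_⟩
  · intro h
    have : x = 1 := Subtype.ext h
    rw [this, orderOf_one] at hx
    omega
  · have h4 : x * x = 1 := by rw [← pow_two, ← hx, pow_orderOf_eq_one]
    simpa using congrArg Subtype.val h4

/-- An involution generates a 2-group. -/
theorem isPGroup_zpowers {x : G} (hx : x * x = 1) : IsPGroup 2 (zpowers x) := by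
  intro y
  obtain ⟨y, hy⟩ := y
  obtain ⟨k, rfl⟩ := mem_zpowers_iff.mp hy
  refine ⟨1, Subtype.ext ?_⟩
  rw [pow_one]
  push_cast
  rw [← zpow_natCast, ← zpow_mul, mul_comm, zpow_mul]
  norm_num [pow_two, hx]

/-- Every 2-element is conjugate into a given Sylow 2-subgroup. -/
theorem exists_conj_mem [Finite G] (S : Sylow 2 G) {x : G} (hx : x * x = 1) : ∃ g : G, g * x * g⁻¹ ∈ S := by
  have : Fact (Nat.Prime 2) := ⟨Nat.prime_two⟩
  obtain ⟨Q, hQ⟩ := (isPGroup_zpowers hx).exists_le_sylow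
  obtain ⟨g, hg⟩ := MulAction.exists_smul_eq G Q S
  refine ⟨g, ?_⟩
  rw [← hg]
  have := Sylow.smul_def (g := g) (P := Q)
  show g * x * g⁻¹ ∈ ((g • Q : Sylow 2 G) : Subgroup G)
  rw [Sylow.coe_subgroup_smul]
  exact Subgroup.smul_mem_pointwise_smul x (MulAut.conj g) _ (hQ (mem_zpowers x))

theorem inf_sylow_ne_bot [Finite G] (S : Sylow 2 G) (N : Subgroup G) [hN : N.Normal] (h2 : ¬ Odd (Nat.card N)) :
    (S : Subgroup G) ⊓ N ≠ ⊥ := by
  obtain ⟨x, hxN, hx1, hx⟩ := exists_inv_of_not_odd N h2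
  obtain ⟨g, hg⟩ := exists_conj_mem S hx
  intro hb
  have h4 : g * x * g⁻¹ ∈ (S : Subgroup G) ⊓ N := ⟨hg, hN.conj_mem x hxN g⟩
  rw [hb, mem_bot] at h4
  apply hx1
  rw [mul_inv_eq_one] at h4
  exact mul_eq_left.mp h4

end pg
section main

variable {H : Type*} [Group H] {t : H}
  {τ s : ↥(centralizer ({t} : Set H))} {L₁ L₂ B P₁ P₂ : Subgroup ↥(centralizer ({t} : Set H))}

theorem Facts.symm {X : Type*} [Group X] {τ s : X} {L₁ L₂ B P₁ P₂ : Subgroup X} (h : Facts τ s L₁ L₂ B P₁ P₂) :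
    Facts τ s L₂ L₁ B P₂ P₁ :=
  { ne := h.ne, sq := h.sq, cen := h.cen, mem₁ := h.mem₂, mem₂ := h.mem₁
    comm := fun a ha b hb => (h.comm b hb a ha).symm
    index := h.index, s_not := h.s_not, conj₁ := h.conj₂, conj₂ := h.conj₁, norm₁ := h.norm₂, norm₂ := h.norm₁
    le₁ := h.le₂, le₂ := h.le₁, pg₁ := h.pg₂, pg₂ := h.pg₁, uniq₁ := h.uniq₂, uniq₂ := h.uniq₁, no₁ := h.no₂, no₂ := h.no₁
    nrm₁ := h.nrm₂, nrm₂ := h.nrm₁, nc₁ := h.nc₂, nc₂ := h.nc₁, big₁ := h.big₂, big₂ := h.big₁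
    only := fun x hx h1 h2 => h.only x hx h2 h1
    quot := fun N hN h1 h2 hK => h.quot N hN h2 h1 hK }

section X

variable {X : Type*} [Group X] {τ s : X} {L₁ L₂ B P₁ P₂ : Subgroup X}

theorem Facts.L_le_B (h : Facts τ s L₁ L₂ B P₁ P₂) : L₁ ≤ B := by
  have hn : B.Normal := normal_of_index_eq_two h.index
  have h1 : B.relIndex L₁ ∣ 2 := by
    rw [← h.index]; exact relIndex_dvd_index_of_normal B L₁
  rcases (Nat.dvd_prime Nat.prime_two).mp h1 with h2 | h2
  · exact relIndex_eq_one.mp h2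
  · exact absurd h2 (h.no₁ B)

/-- Elements outside `B` exchange `L₁` and `L₂`. -/
theorem Facts.swap (h : Facts τ s L₁ L₂ B P₁ P₂) {y : X} (hy : y ∉ B) {x : X} (hx : x ∈ L₁) : y * x * y⁻¹ ∈ L₂ := by
  have h1 : y * s⁻¹ ∈ B := by
    rw [mul_mem_iff_of_index_two h.index]
    constructor
    · intro h2; exact absurd h2 hy
    · intro h2; exact absurd (by simpa using h2) h.s_not
  have h2 := h.norm₂ _ h1 _ (h.conj₁ x hx)
  have e : y * s⁻¹ * (s * x * s⁻¹) * (y * s⁻¹)⁻¹ = y * x * y⁻¹ := by group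
  rwa [e] at h2

/-- A normal subgroup meeting `L₁` in a subgroup of `{1, τ}`: its elements in `B` centralize `L₁`. -/
theorem Facts.comm_of_inf (h : Facts τ s L₁ L₂ B P₁ P₂) (Y : Subgroup X) (hY : Y.Normal)
    (h1 : ∀ x ∈ Y, x ∈ L₁ → x = 1 ∨ x = τ) {y : X} (hy : y ∈ Y) (hyB : y ∈ B) : ∀ x ∈ L₁, y * x = x * y := by
  apply comm_of_no h.cen h.sq h.no₁
  intro x hx
  apply h1
  · have h2 := Y.mul_mem hy (hY.conj_mem _ (Y.inv_mem hy) x)
    have e : y * (x * y⁻¹ * x⁻¹) = y * x * y⁻¹ * x⁻¹ := by group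
    rwa [e] at h2
  · exact L₁.mul_mem (h.norm₁ y hyB x hx) (L₁.inv_mem hx)

/-- A normal subgroup meeting `L₁` and `L₂` in subgroups of `{1, τ}` is contained in `B` and centralizes `L₁`. -/
theorem Facts.le_of_inf (h : Facts τ s L₁ L₂ B P₁ P₂) (Y : Subgroup X) (hY : Y.Normal)
    (h1 : ∀ x ∈ Y, x ∈ L₁ → x = 1 ∨ x = τ) {y : X} (hy : y ∈ Y) : y ∈ B := by
  by_contra hyB
  obtain ⟨x, hx, w, hw, hxw⟩ := h.nc₁
  apply hxw
  have key : ∀ x ∈ L₁, ∀ w ∈ L₁, x * w = w * x := by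
    intro x hx w hw
    have hc : y * x * y⁻¹ ∈ L₂ := h.swap hyB hx
    have hz : y * x * y⁻¹ * x⁻¹ ∈ Y := by
      have h2 := Y.mul_mem hy (hY.conj_mem _ (Y.inv_mem hy) x)
      have e : y * (x * y⁻¹ * x⁻¹) = y * x * y⁻¹ * x⁻¹ := by group
      rwa [e] at h2
    have hzB : y * x * y⁻¹ * x⁻¹ ∈ B := B.mul_mem (h.symm.L_le_B hc) (B.inv_mem (h.L_le_B hx))
    have h3 := h.comm_of_inf Y hY h1 hz hzB w hw
    have h4 := h.comm w hw _ hc
    -- `c x⁻¹ w = w c x⁻¹ = c w x⁻¹`
    have h5 : y * x * y⁻¹ * (x⁻¹ * w) = y * x * y⁻¹ * (w * x⁻¹) := by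
      calc y * x * y⁻¹ * (x⁻¹ * w) = y * x * y⁻¹ * x⁻¹ * w := by group
        _ = w * (y * x * y⁻¹ * x⁻¹) := h3
        _ = w * (y * x * y⁻¹) * x⁻¹ := by group
        _ = (y * x * y⁻¹) * w * x⁻¹ := by rw [h4]
        _ = y * x * y⁻¹ * (w * x⁻¹) := by group
    have h6 := mul_left_cancel h5
    calc x * w = x * (w * x⁻¹) * x := by group
      _ = x * (x⁻¹ * w) * x := by rw [h6]
      _ = w * x := by group
  exact key _ (L₁.mul_mem hx hx) _ hw

/-- A normal elementary abelian 2-subgroup is contained in `{1, τ}`. -/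
theorem Facts.elem (h : Facts τ s L₁ L₂ B P₁ P₂) (Y : Subgroup X) (hY : Y.Normal)
    (h2 : ∀ x ∈ Y, x * x = 1) {y : X} (hy : y ∈ Y) : y = 1 ∨ y = τ := by
  have a1 : ∀ x ∈ Y, x ∈ L₁ → x = 1 ∨ x = τ := fun x hx hx1 => h.uniq₁ x hx1 (h2 x hx)
  have a2 : ∀ x ∈ Y, x ∈ L₂ → x = 1 ∨ x = τ := fun x hx hx1 => h.uniq₂ x hx1 (h2 x hx)
  have hB := h.le_of_inf Y hY a1 hy
  apply h.only y (h2 y hy)
  · intro x hx; exact h.comm_of_inf Y hY a1 hy hB x (h.le₁ hx)
  · intro x hx; exact h.symm.comm_of_inf Y hY a2 hy hB x (h.le₂ hx)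

end X

theorem Facts.only' (h : Facts τ s L₁ L₂ B P₁ P₂) (hτ : (τ : H) = t) {x : H} (hx : x * x = 1) (hc : x * t = t * x)
    (h1 : ∀ y ∈ P₁, x * (y : H) = y * x) (h2 : ∀ y ∈ P₂, x * (y : H) = y * x) : x = 1 ∨ x = t := by
  have hxC : x ∈ centralizer ({t} : Set H) := mem_centralizer_singleton_iff.mpr hc
  rcases h.only ⟨x, hxC⟩ (Subtype.ext hx) (fun y hy => Subtype.ext (h1 y hy)) (fun y hy => Subtype.ext (h2 y hy)) with e | e
  · left; exact congrArg Subtype.val e
  · right; rw [← hτ]; exact congrArg Subtype.val e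

/-- `t` is central in every 2-subgroup containing `P₁`, `P₂`. -/
theorem Facts.central [Finite H] (h : Facts τ s L₁ L₂ B P₁ P₂) (hτ : (τ : H) = t) (S : Subgroup H) (hS : IsPGroup 2 S)
    (h1 : ∀ y ∈ P₁, (y : H) ∈ S) (h2 : ∀ y ∈ P₂, (y : H) ∈ S) :
    (∀ x ∈ S, x * t = t * x) ∧ ∀ u ∈ S, u * u = 1 → (∀ x ∈ S, x * u = u * x) → u = 1 ∨ u = t := by
  have htS : t ∈ S := by rw [← hτ]; exact h1 τ h.mem₁
  have key : ∀ u ∈ S, u * u = 1 → (∀ x ∈ S, x * u = u * x) → u = 1 ∨ u = t := by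
    intro u hu hu2 hc
    exact h.only' hτ hu2 (hc t htS).symm (fun y hy => (hc y (h1 y hy)).symm) (fun y hy => (hc y (h2 y hy)).symm)
  have hb : S ≠ ⊥ := by
    intro e
    rw [e, mem_bot] at htS
    exact h.ne (Subtype.ext (hτ.trans htS))
  obtain ⟨u, hu, hu1, hu2, hc⟩ := exists_central_inv S S hS hS hb
    (fun a ha b hb => S.mul_mem (S.mul_mem ha hb) (S.inv_mem ha))
  refine ⟨?_, key⟩
  rcases key u hu hu2 hc with e | e
  · exact absurd e hu1
  · rw [← e]; exact hc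

theorem Facts.isPGroup_sup {X : Type*} [Group X] {τ s : X} {L₁ L₂ B P₁ P₂ : Subgroup X}
    (h : Facts τ s L₁ L₂ B P₁ P₂) : IsPGroup 2 ↥(P₁ ⊔ P₂) := by
  have h3 : P₁ ≤ normalizer (P₂ : Set X) := by
    intro a ha
    rw [mem_normalizer_iff]
    intro b
    constructor
    · intro hb
      rw [h.comm a (h.le₁ ha) b (h.le₂ hb)]
      simpa using hb
    · intro hb
      have h4 := h.comm _ (h.le₁ (P₁.inv_mem ha)) _ (h.le₂ hb)
      have : b = a * b * a⁻¹ := by
        calc b = a⁻¹ * (a * b * a⁻¹) * a := by group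
          _ = (a * b * a⁻¹) * a⁻¹ * a := by rw [h4]
          _ = a * b * a⁻¹ := by group
      rw [this]; exact hb
  exact h.pg₁.to_sup_of_normal_right' h.pg₂ h3

/-- There is a Sylow 2-subgroup containing `P₁`, `P₂`. -/
theorem Facts.exists_sylow (h : Facts τ s L₁ L₂ B P₁ P₂) :
    ∃ S : Sylow 2 H, (∀ y ∈ P₁, (y : H) ∈ S) ∧ ∀ y ∈ P₂, (y : H) ∈ S := by
  obtain ⟨S, hS⟩ := (h.isPGroup_sup.map (centralizer ({t} : Set H)).subtype).exists_le_sylow
  exact ⟨S, fun y hy => hS (mem_map_of_mem _ (mem_sup_left hy)), fun y hy => hS (mem_map_of_mem _ (mem_sup_right hy))⟩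

/-- If `t` is central there is a subgroup of index two. -/
theorem Facts.not_central (h : Facts τ s L₁ L₂ B P₁ P₂) (hno : ∀ K : Subgroup H, K.index ≠ 2)
    (hc : ∀ g : H, g * t = t * g) : False := by
  apply hno (B.map (centralizer ({t} : Set H)).subtype)
  rw [index_map_of_injective _ (subtype_injective _), h.index, range_subtype]
  have : centralizer ({t} : Set H) = ⊤ := by
    rw [eq_top_iff]
    intro g _
    exact mem_centralizer_singleton_iff.mpr (hc g)
  rw [this, index_top]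

/-- A nontrivial normal subgroup contains `t`. -/
theorem Facts.mem_of_normal [Finite H] (h : Facts τ s L₁ L₂ B P₁ P₂) (hτ : (τ : H) = t)
    (hodd : ∀ N : Subgroup H, N.Normal → Odd (Nat.card N) → N = ⊥) (N : Subgroup H) (hN : N.Normal) (hN1 : N ≠ ⊥) :
    t ∈ N := by
  obtain ⟨S, h1, h2⟩ := h.exists_sylow
  have h3 := inf_sylow_ne_bot S N (fun h4 => hN1 (hodd N hN h4))
  obtain ⟨u, hu, hu1, hu2, hc⟩ := exists_central_inv (S : Subgroup H) ((S : Subgroup H) ⊓ N) S.2
    (IsPGroup.to_le S.2 inf_le_left) h3 (fun a ha b hb => ⟨S.mul_mem (S.mul_mem ha hb.1) (S.inv_mem ha), hN.conj_mem _ hb.2 _⟩)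
  rcases (h.central hτ S S.2 h1 h2).2 u hu.1 hu2 hc with e | e
  · exact absurd e hu1
  · rw [← e]; exact hu.2

/-- There is no nontrivial normal elementary abelian 2-subgroup. -/
theorem Facts.no_elem [Finite H] (h : Facts τ s L₁ L₂ B P₁ P₂) (hτ : (τ : H) = t)
    (hodd : ∀ N : Subgroup H, N.Normal → Odd (Nat.card N) → N = ⊥) (hno : ∀ K : Subgroup H, K.index ≠ 2)
    (A : Subgroup H) (hA : A.Normal) (hA1 : A ≠ ⊥) (hA2 : ∀ a ∈ A, a * a = 1) : False := by
  have htA := h.mem_of_normal hτ hodd A hA hA1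
  have hcomm : ∀ a ∈ A, ∀ b ∈ A, a * b = b * a := by
    intro a ha b hb
    have h1 := hA2 _ (A.mul_mem ha hb)
    have h2 := hA2 a ha
    have h3 := hA2 b hb
    calc a * b = b⁻¹ * a⁻¹ := by rw [← mul_inv_rev]; exact eq_inv_of_mul_eq_one_left h1
      _ = b * a := by rw [inv_eq_of_mul_eq_one_left h2, inv_eq_of_mul_eq_one_left h3]
  have key : ∀ a ∈ A, a = 1 ∨ a = t := by
    intro a ha
    have haC : a ∈ centralizer ({t} : Set H) := mem_centralizer_singleton_iff.mpr (hcomm a ha t htA)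
    rcases h.elem (A.subgroupOf (centralizer ({t} : Set H))) inferInstance
      (fun x hx => Subtype.ext (hA2 _ hx)) (y := ⟨a, haC⟩) ha with e | e
    · left; exact congrArg Subtype.val e
    · right; rw [← hτ]; exact congrArg Subtype.val e
  apply h.not_central hno
  intro g
  rcases key _ (hA.conj_mem t htA g) with e | e
  · exfalso
    apply h.ne
    apply Subtype.ext
    rw [hτ]
    rw [mul_inv_eq_one] at e
    exact mul_eq_left.mp e
  · exact mul_inv_eq_iff_eq_mul.mp e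

end main
section main2

variable {H : Type*} [Group H] [Finite H] {t : H}
  {τ s : ↥(centralizer ({t} : Set H))} {L₁ L₂ B P₁ P₂ : Subgroup ↥(centralizer ({t} : Set H))}

/-- `P₁`, `P₂` are contained in every normal subgroup containing `t`. -/
theorem Facts.P_le (h : Facts τ s L₁ L₂ B P₁ P₂) (hτ : (τ : H) = t)
    (hodd : ∀ N : Subgroup H, N.Normal → Odd (Nat.card N) → N = ⊥) (hno : ∀ K : Subgroup H, K.index ≠ 2)
    (N : Subgroup H) (hN : N.Normal) (htN : t ∈ N) : (∀ y ∈ P₁, (y : H) ∈ N) ∧ ∀ y ∈ P₂, (y : H) ∈ N := by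
  set Y := N.subgroupOf (centralizer ({t} : Set H)) with hYdef
  have hY : Y.Normal := inferInstance
  have memY : ∀ y : ↥(centralizer ({t} : Set H)), y ∈ Y ↔ (y : H) ∈ N := fun y => mem_subgroupOf
  -- one contained implies the other
  have one : ∀ {L₁ L₂ P₁ P₂ : Subgroup ↥(centralizer ({t} : Set H))}, Facts τ s L₁ L₂ B P₁ P₂ →
      P₁ ≤ Y → P₂ ≤ Y := by
    intro L₁ L₂ P₁ P₂ h h1
    rcases h.nrm₂ (Y ⊓ L₂) inf_le_right (fun a ha x hx => ⟨hY.conj_mem _ hx.1 _,
      L₂.mul_mem (L₂.mul_mem ha hx.2) (L₂.inv_mem ha)⟩) with h2 | h2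
    · exfalso
      obtain ⟨p, hp, hp1, hp2⟩ := h.big₁
      rcases h2 _ ⟨hY.conj_mem _ (h1 hp) s, h.conj₁ p (h.le₁ hp)⟩ with e | e
      · apply hp1
        rw [mul_inv_eq_one] at e
        exact mul_eq_left.mp e
      · apply hp2
        rw [mul_inv_eq_iff_eq_mul, ← h.cen s] at e
        exact mul_left_cancel e
    · exact h2.trans inf_le_left
  rcases h.nrm₁ (Y ⊓ L₁) inf_le_right (fun a ha x hx => ⟨hY.conj_mem _ hx.1 _,
      L₁.mul_mem (L₁.mul_mem ha hx.2) (L₁.inv_mem ha)⟩) with h1 | h1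
  · rcases h.nrm₂ (Y ⊓ L₂) inf_le_right (fun a ha x hx => ⟨hY.conj_mem _ hx.1 _,
      L₂.mul_mem (L₂.mul_mem ha hx.2) (L₂.inv_mem ha)⟩) with h2 | h2
    · exfalso
      -- involutions of `Y` are equal to `t`
      have key : ∀ u : H, u ∈ N → u * t = t * u → u * u = 1 → u = 1 ∨ u = t := by
        intro u hu hut huu
        have huC : u ∈ centralizer ({t} : Set H) := mem_centralizer_singleton_iff.mpr hut
        have huY : (⟨u, huC⟩ : ↥(centralizer ({t} : Set H))) ∈ Y := (memY _).mpr hu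
        have hB := h.le_of_inf Y hY (fun x hx hx1 => h1 x ⟨hx, hx1⟩) huY
        rcases h.only ⟨u, huC⟩ (Subtype.ext huu)
          (fun x hx => h.comm_of_inf Y hY (fun x hx hx1 => h1 x ⟨hx, hx1⟩) huY hB x (h.le₁ hx))
          (fun x hx => h.symm.comm_of_inf Y hY (fun x hx hx1 => h2 x ⟨hx, hx1⟩) huY hB x (h.le₂ hx)) with e | e
        · left; exact congrArg Subtype.val e
        · right; rw [← hτ]; exact congrArg Subtype.val e
      obtain ⟨S, hS1, hS2⟩ := h.exists_sylow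
      have hc := (h.central hτ S S.2 hS1 hS2).1
      have htS : t ∈ S := by rw [← hτ]; exact hS1 τ h.mem₁
      have ht1 : t ≠ 1 := fun e => h.ne (Subtype.ext (hτ.trans e))
      have ht2 : t * t = 1 := by
        have := congrArg Subtype.val h.sq
        simpa [hτ] using this
      have hord : orderOf t = 2 := by
        have : Fact (Nat.Prime 2) := ⟨Nat.prime_two⟩
        exact orderOf_eq_prime (by rw [pow_two]; exact ht2) ht1
      obtain ⟨M, hM, hModd, hMc⟩ := Cfsg.Agent.S0215.result S t hord htS (by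
        intro g hg
        have h3 : g * t * g⁻¹ ≠ 1 := by
          intro e; apply ht1; rw [mul_inv_eq_one] at e; exact mul_eq_left.mp e
        refine (key _ (hN.conj_mem t htN g) (hc _ hg) ?_).resolve_left h3
        calc g * t * g⁻¹ * (g * t * g⁻¹) = g * (t * t) * g⁻¹ := by group
          _ = 1 := by rw [ht2]; group)
      rw [hodd M hM hModd] at hMc
      apply h.not_central hno
      intro g
      have h5 := hMc g
      rw [mem_bot, mul_inv_eq_one, mul_inv_eq_iff_eq_mul] at h5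
      exact h5.symm
    · have h3 : P₂ ≤ Y := h2.trans inf_le_left
      have h4 : P₁ ≤ Y := one h.symm h3
      exact ⟨fun y hy => (memY y).mp (h4 hy), fun y hy => (memY y).mp (h3 hy)⟩
  · have h3 : P₁ ≤ Y := h1.trans inf_le_left
    have h4 : P₂ ≤ Y := one h h3
    exact ⟨fun y hy => (memY y).mp (h3 hy), fun y hy => (memY y).mp (h4 hy)⟩

/-- A normal subgroup containing `t` is the whole group. -/
theorem Facts.eq_top (h : Facts τ s L₁ L₂ B P₁ P₂) (hτ : (τ : H) = t)
    (hodd : ∀ N : Subgroup H, N.Normal → Odd (Nat.card N) → N = ⊥) (hno : ∀ K : Subgroup H, K.index ≠ 2)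
    (N : Subgroup H) (hN : N.Normal) (htN : t ∈ N) : N = ⊤ := by
  have : Fact (Nat.Prime 2) := ⟨Nat.prime_two⟩
  obtain ⟨h1, h2⟩ := h.P_le hτ hodd hno N hN htN
  -- a Sylow 2-subgroup of `N` containing `P₁`, `P₂`
  obtain ⟨S, hS1, hS2⟩ := h.exists_sylow
  have hp : IsPGroup 2 ↥((S : Subgroup H).subgroupOf N) :=
    (IsPGroup.to_le S.2 (inf_le_left : (S : Subgroup H) ⊓ N ≤ S)).of_injective
      ((N.subtype.comp ((S : Subgroup H).subgroupOf N).subtype).codRestrict _ (fun x => ⟨mem_subgroupOf.mp x.2, x.1.2⟩))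
      (by
        intro a b e
        have := congrArg Subtype.val e
        exact Subtype.ext (Subtype.ext this))
  obtain ⟨R, hR⟩ := hp.exists_le_sylow
  have hR1 : ∀ y ∈ P₁, (y : H) ∈ (R : Subgroup N).map N.subtype := fun y hy =>
    ⟨⟨y, h1 y hy⟩, hR (mem_subgroupOf.mpr (hS1 y hy)), rfl⟩
  have hR2 : ∀ y ∈ P₂, (y : H) ∈ (R : Subgroup N).map N.subtype := fun y hy =>
    ⟨⟨y, h2 y hy⟩, hR (mem_subgroupOf.mpr (hS2 y hy)), rfl⟩
  obtain ⟨hc, hu⟩ := h.central hτ ((R : Subgroup N).map N.subtype) (R.2.map _) hR1 hR2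
  have ht1 : t ≠ 1 := fun e => h.ne (Subtype.ext (hτ.trans e))
  have ht2 : t * t = 1 := by
    have := congrArg Subtype.val h.sq
    simpa [hτ] using this
  have htR : t ∈ (R : Subgroup N).map N.subtype := by rw [← hτ]; exact hR1 τ h.mem₁
  have hnorm : normalizer (((R : Subgroup N).map N.subtype : Subgroup H) : Set H) ≤ centralizer ({t} : Set H) := by
    intro g hg
    rw [mem_normalizer_iff] at hg
    have h3 : g * t * g⁻¹ ≠ 1 := by
      intro e; apply ht1; rw [mul_inv_eq_one] at e; exact mul_eq_left.mp e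
    have h4 : g * t * g⁻¹ = t := by
      refine (hu _ ((hg t).mp htR) ?_ ?_).resolve_left h3
      · calc g * t * g⁻¹ * (g * t * g⁻¹) = g * (t * t) * g⁻¹ := by group
          _ = 1 := by rw [ht2]; group
      · intro x hx
        have h5 : g⁻¹ * x * g ∈ (R : Subgroup N).map N.subtype := by
          rw [hg]
          have e : g * (g⁻¹ * x * g) * g⁻¹ = x := by group
          rw [e]; exact hx
        have h6 := hc _ h5
        calc x * (g * t * g⁻¹) = g * (g⁻¹ * x * g * t) * g⁻¹ := by group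
          _ = g * (t * (g⁻¹ * x * g)) * g⁻¹ := by rw [h6]
          _ = g * t * g⁻¹ * x := by group
    exact mem_centralizer_singleton_iff.mpr (mul_inv_eq_iff_eq_mul.mp h4)
  have hfr : centralizer ({t} : Set H) ⊔ N = ⊤ := by
    rw [eq_top_iff, ← Sylow.normalizer_sup_eq_top R]
    exact sup_le_sup_right hnorm N
  -- the quotient
  set f : ↥(centralizer ({t} : Set H)) →* H ⧸ N := (QuotientGroup.mk' N).comp (centralizer ({t} : Set H)).subtype with hf
  have hker : f.ker = N.subgroupOf (centralizer ({t} : Set H)) := by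
    ext x
    rw [MonoidHom.mem_ker, hf, MonoidHom.comp_apply, mem_subgroupOf, QuotientGroup.mk'_apply, QuotientGroup.eq_one_iff]
    rfl
  have hsurj : Function.Surjective f := by
    rw [← MonoidHom.range_eq_top, hf, MonoidHom.range_comp, range_subtype]
    rw [← comap_injective (QuotientGroup.mk'_surjective N) |>.eq_iff, comap_map_eq, comap_top, QuotientGroup.ker_mk']
    exact hfr
  have htop : N.subgroupOf (centralizer ({t} : Set H)) = ⊤ := by
    apply h.quot _ inferInstance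
    · intro y hy; exact mem_subgroupOf.mpr (h1 y hy)
    · intro y hy; exact mem_subgroupOf.mpr (h2 y hy)
    · intro K hK hK2
      apply hno ((K.map f).comap (QuotientGroup.mk' N))
      rw [index_comap_of_surjective _ (QuotientGroup.mk'_surjective N), index_map_eq K hsurj (hker ▸ hK), hK2]
  rw [subgroupOf_eq_top] at htop
  rwa [sup_eq_right.mpr htop] at hfr

/-- **The group is simple.** -/
theorem Facts.isSimpleGroup (h : Facts τ s L₁ L₂ B P₁ P₂) (hτ : (τ : H) = t)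
    (hodd : ∀ N : Subgroup H, N.Normal → Odd (Nat.card N) → N = ⊥) (hno : ∀ K : Subgroup H, K.index ≠ 2) :
    IsSimpleGroup H := by
  have ht1 : t ≠ 1 := fun e => h.ne (Subtype.ext (hτ.trans e))
  have : Nontrivial H := ⟨t, 1, ht1⟩
  refine ⟨fun N hN => ?_⟩
  by_cases hb : N = ⊥
  · exact Or.inl hb
  · exact Or.inr (h.eq_top hτ hodd hno N hN (h.mem_of_normal hτ hodd N hN hb))

omit [Finite H] in
theorem Facts.not_comm (h : Facts τ s L₁ L₂ B P₁ P₂) : ∃ a b : H, a * b ≠ b * a := by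
  obtain ⟨x, hx, y, hy, e⟩ := h.nc₁
  exact ⟨x * x, y, fun h1 => e (Subtype.ext h1)⟩

end main2
section map

variable {X Y : Type*} [Group X] [Group Y] [Finite X]

/-- Elements centralizing the image of a 2-subgroup lift. -/
theorem exists_lift_cent (f : X →* Y) (hf : Function.Surjective f) (hk : Odd (Nat.card f.ker)) (P : Subgroup X)
    (hP : IsPGroup 2 P) {y : Y} (hy : ∀ p ∈ P, y * f p = f p * y) : ∃ x, f x = y ∧ ∀ p ∈ P, x * p = p * x := by
  have : Fact (Nat.Prime 2) := ⟨Nat.prime_two⟩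
  obtain ⟨x0, rfl⟩ := hf y
  have h1 := PLocal.CoprimeLift.map_centralizer_mk (p := 2) f.ker P (Nat.coprime_two_right.mpr hk) hP
  have h2 : QuotientGroup.mk' f.ker x0 ∈ Subgroup.centralizer (P.map (QuotientGroup.mk' f.ker) : Set (X ⧸ f.ker)) := by
    rw [mem_centralizer_iff]
    rintro _ ⟨p, hp, rfl⟩
    rw [← map_mul, ← map_mul, QuotientGroup.mk'_apply, QuotientGroup.mk'_apply, QuotientGroup.eq, MonoidHom.mem_ker]
    rw [map_mul, map_inv, map_mul, map_mul, ← hy p hp]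
    group
  rw [← h1] at h2
  obtain ⟨x, hx, e⟩ := h2
  refine ⟨x, ?_, ?_⟩
  · rw [QuotientGroup.mk'_apply, QuotientGroup.mk'_apply, QuotientGroup.eq, MonoidHom.mem_ker, map_mul, map_inv,
      inv_mul_eq_one] at e
    exact e
  · intro p hp
    exact ((mem_centralizer_iff.mp hx) p hp).symm

omit [Finite X] in
/-- An involution lifts to an involution, preserving commutation relations. -/
theorem exists_lift_inv (f : X →* Y) (hk : Odd (Nat.card f.ker)) {x : X} (hx : f x * f x = 1) :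
    ∃ m : ℕ, x ^ m * x ^ m = 1 ∧ f (x ^ m) = f x := by
  have h1 : x * x ∈ f.ker := by rw [MonoidHom.mem_ker, map_mul, hx]
  obtain ⟨k, hk⟩ := hk
  refine ⟨2 * k + 1, ?_, ?_⟩
  · have h2 : (⟨x * x, h1⟩ : f.ker) ^ Nat.card f.ker = 1 := pow_card_eq_one'
    have h3 : (x * x) ^ (2 * k + 1) = 1 := by
      rw [hk] at h2
      simpa using congrArg Subtype.val h2
    rw [← pow_add, ← two_mul, pow_mul, pow_two]
    exact h3
  · rw [map_pow, pow_add, pow_mul, pow_two, hx, one_pow, one_mul, pow_one]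

variable {τ s : X} {L₁ L₂ B P₁ P₂ : Subgroup X}

omit [Finite X] in
theorem Facts.tau_not_mem (h : Facts τ s L₁ L₂ B P₁ P₂) (N : Subgroup X) (hN : Odd (Nat.card N)) : τ ∉ N := by
  intro hm
  have h1 : orderOf (⟨τ, hm⟩ : N) ∣ Nat.card N := orderOf_dvd_natCard _
  have h2 : orderOf (⟨τ, hm⟩ : N) = 2 := by
    have : Fact (Nat.Prime 2) := ⟨Nat.prime_two⟩
    apply orderOf_eq_prime
    · apply Subtype.ext; simpa [pow_two] using h.sq
    · intro e; exact h.ne (congrArg Subtype.val e)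
  rw [h2] at h1
  exact (Nat.not_even_iff_odd.mpr hN) (even_iff_two_dvd.mpr h1)

omit [Finite X] in
/-- Normal subgroups of odd order meet `L₁` trivially. -/
theorem Facts.inf_odd (h : Facts τ s L₁ L₂ B P₁ P₂) (N : Subgroup X) (hNn : N.Normal) (hN : Odd (Nat.card N)) {x : X}
    (hx : x ∈ N) (hx1 : x ∈ L₁) : x = 1 := by
  rcases h.nrm₁ (N ⊓ L₁) inf_le_right (fun a ha x hx => ⟨hNn.conj_mem _ hx.1 _,
    L₁.mul_mem (L₁.mul_mem ha hx.2) (L₁.inv_mem ha)⟩) with h1 | h1
  · rcases h1 x ⟨hx, hx1⟩ with e | e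
    · exact e
    · rw [e] at hx; exact absurd hx (h.tau_not_mem N hN)
  · exact absurd (h1 h.mem₁).1 (h.tau_not_mem N hN)

omit [Finite X] in
/-- Normal subgroups of odd order are contained in `B`. -/
theorem Facts.odd_le (h : Facts τ s L₁ L₂ B P₁ P₂) (N : Subgroup X) (hN : Odd (Nat.card N)) : N ≤ B := by
  intro x hx
  obtain ⟨k, hk⟩ := hN
  have h2 : x ^ (2 * k + 1) = 1 := by
    have h3 : (⟨x, hx⟩ : N) ^ Nat.card N = 1 := pow_card_eq_one'
    rw [hk] at h3
    simpa using congrArg Subtype.val h3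
  have h3 : x * x ∈ B := mul_self_mem_of_index_two h.index x
  have h4 : x = ((x * x) ^ k)⁻¹ := by
    rw [eq_inv_iff_mul_eq_one, ← pow_two, ← pow_mul, ← pow_succ']
    exact h2
  rw [h4]
  exact B.inv_mem (B.pow_mem h3 k)

private theorem map_aux (h : Facts τ s L₁ L₂ B P₁ P₂) (f : X →* Y) (hk : Odd (Nat.card f.ker)) {x : X} (hx : x ∈ L₁)
    (h1 : f x = 1 ∨ f x = f τ) : x = 1 ∨ x = τ := by
  rcases h1 with e | e
  · left; exact h.inf_odd f.ker inferInstance hk (MonoidHom.mem_ker.mpr e) hx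
  · right
    have h2 : x * τ⁻¹ ∈ f.ker := by rw [MonoidHom.mem_ker, map_mul, map_inv, e, mul_inv_cancel]
    have h3 := h.inf_odd f.ker inferInstance hk h2 (L₁.mul_mem hx (L₁.inv_mem (h.le₁ h.mem₁)))
    exact mul_inv_eq_one.mp h3

/-- **The facts go over to quotients by normal subgroups of odd order.** -/
theorem Facts.map (h : Facts τ s L₁ L₂ B P₁ P₂) (f : X →* Y) (hf : Function.Surjective f) (hk : Odd (Nat.card f.ker)) :
    Facts (f τ) (f s) (L₁.map f) (L₂.map f) (B.map f) (P₁.map f) (P₂.map f) := by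
  have half : ∀ {L₁ L₂ P₁ P₂ : Subgroup X}, Facts τ s L₁ L₂ B P₁ P₂ →
      (∀ x ∈ L₁.map f, x * x = 1 → x = 1 ∨ x = f τ) ∧
      (∀ K : Subgroup Y, K.relIndex (L₁.map f) ≠ 2) ∧
      (∀ N : Subgroup Y, N ≤ L₁.map f → (∀ a ∈ L₁.map f, ∀ x ∈ N, a * x * a⁻¹ ∈ N) →
        (∀ x ∈ N, x = 1 ∨ x = f τ) ∨ P₁.map f ≤ N) ∧
      (∃ x ∈ L₁.map f, ∃ y ∈ L₁.map f, x * x * y ≠ y * (x * x)) ∧
      (∃ p ∈ P₁.map f, p ≠ 1 ∧ p ≠ f τ) := by
    intro L₁ L₂ P₁ P₂ h
    refine ⟨?_, ?_, ?_, ?_, ?_⟩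
    · rintro _ ⟨x, hx, rfl⟩ h2
      rw [← map_mul] at h2
      have h3 := h.inf_odd f.ker inferInstance hk (MonoidHom.mem_ker.mpr h2) (L₁.mul_mem hx hx)
      rcases h.uniq₁ x hx h3 with e | e
      · left; rw [e, map_one]
      · right; rw [e]
    · intro K hK
      rw [← relIndex_comap] at hK
      exact h.no₁ _ hK
    · intro N hN hn
      have hna : ∀ a ∈ L₁, ∀ x ∈ N.comap f ⊓ L₁, a * x * a⁻¹ ∈ N.comap f ⊓ L₁ := by
        intro a ha x hx
        refine ⟨?_, L₁.mul_mem (L₁.mul_mem ha hx.2) (L₁.inv_mem ha)⟩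
        show f (a * x * a⁻¹) ∈ N
        rw [map_mul, map_mul, map_inv]
        exact hn _ (mem_map_of_mem f ha) _ hx.1
      rcases h.nrm₁ (N.comap f ⊓ L₁) inf_le_right hna with h1 | h1
      · left
        intro y hy
        obtain ⟨x, hx, rfl⟩ := hN hy
        rcases h1 x ⟨hy, hx⟩ with e | e
        · left; rw [e, map_one]
        · right; rw [e]
      · right
        rintro _ ⟨p, hp, rfl⟩
        exact (h1 hp).1
    · obtain ⟨x, hx, y, hy, e⟩ := h.nc₁
      refine ⟨f x, mem_map_of_mem f hx, f y, mem_map_of_mem f hy, ?_⟩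
      rw [← map_mul, ← map_mul, ← map_mul]
      intro e2
      apply e
      have h2 : (x * x * y) * (y * (x * x))⁻¹ ∈ f.ker := by
        rw [MonoidHom.mem_ker, map_mul, e2, map_inv, mul_inv_cancel]
      exact mul_inv_eq_one.mp (h.inf_odd f.ker inferInstance hk h2 (L₁.mul_mem (L₁.mul_mem (L₁.mul_mem hx hx) hy)
        (L₁.inv_mem (L₁.mul_mem hy (L₁.mul_mem hx hx)))))
    · obtain ⟨p, hp, hp1, hp2⟩ := h.big₁
      refine ⟨f p, mem_map_of_mem f hp, ?_, ?_⟩
      · intro e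
        rcases map_aux h f hk (h.le₁ hp) (Or.inl e) with e | e
        · exact hp1 e
        · exact hp2 e
      · intro e
        rcases map_aux h f hk (h.le₁ hp) (Or.inr e) with e | e
        · exact hp1 e
        · exact hp2 e
  obtain ⟨u1, u2, u3, u4, u5⟩ := half h
  obtain ⟨v1, v2, v3, v4, v5⟩ := half h.symm
  have hkB : f.ker ≤ B := h.odd_le f.ker hk
  exact
  { ne := by
      intro e
      exact h.tau_not_mem f.ker hk (MonoidHom.mem_ker.mpr e)
    sq := by rw [← map_mul, h.sq, map_one]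
    cen := by
      intro y
      obtain ⟨x, rfl⟩ := hf y
      rw [← map_mul, ← map_mul, h.cen]
    mem₁ := mem_map_of_mem f h.mem₁
    mem₂ := mem_map_of_mem f h.mem₂
    comm := by
      rintro _ ⟨a, ha, rfl⟩ _ ⟨b, hb, rfl⟩
      rw [← map_mul, ← map_mul, h.comm a ha b hb]
    index := by rw [index_map_eq B hf hkB, h.index]
    s_not := by
      rintro ⟨b, hb, e⟩
      apply h.s_not
      have h2 : b⁻¹ * s ∈ f.ker := by rw [MonoidHom.mem_ker, map_mul, map_inv, e, inv_mul_cancel]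
      have h3 := B.mul_mem hb (hkB h2)
      rwa [mul_inv_cancel_left] at h3
    conj₁ := by
      rintro _ ⟨a, ha, rfl⟩
      rw [← map_mul, ← map_inv, ← map_mul]
      exact mem_map_of_mem f (h.conj₁ a ha)
    conj₂ := by
      rintro _ ⟨a, ha, rfl⟩
      rw [← map_mul, ← map_inv, ← map_mul]
      exact mem_map_of_mem f (h.conj₂ a ha)
    norm₁ := by
      rintro _ ⟨b, hb, rfl⟩ _ ⟨a, ha, rfl⟩
      rw [← map_mul, ← map_inv, ← map_mul]
      exact mem_map_of_mem f (h.norm₁ b hb a ha)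
    norm₂ := by
      rintro _ ⟨b, hb, rfl⟩ _ ⟨a, ha, rfl⟩
      rw [← map_mul, ← map_inv, ← map_mul]
      exact mem_map_of_mem f (h.norm₂ b hb a ha)
    le₁ := map_mono h.le₁
    le₂ := map_mono h.le₂
    pg₁ := h.pg₁.map f
    pg₂ := h.pg₂.map f
    uniq₁ := u1
    uniq₂ := v1
    no₁ := u2
    no₂ := v2
    nrm₁ := u3
    nrm₂ := v3
    nc₁ := u4
    nc₂ := v4
    big₁ := u5
    big₂ := v5
    only := by
      intro y hy h1 h2
      have hP : IsPGroup 2 ↥(P₁ ⊔ P₂) := h.isPGroup_sup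
      obtain ⟨x, rfl, hx⟩ := exists_lift_cent f hf hk (P₁ ⊔ P₂) hP (y := y) (by
        intro p hp
        have h3 : P₁ ⊔ P₂ ≤ (centralizer ({y} : Set Y)).comap f := by
          apply sup_le
          · intro p hp
            rw [mem_comap, mem_centralizer_singleton_iff]
            exact (h1 _ (mem_map_of_mem f hp)).symm
          · intro p hp
            rw [mem_comap, mem_centralizer_singleton_iff]
            exact (h2 _ (mem_map_of_mem f hp)).symm
        exact (mem_centralizer_singleton_iff.mp (h3 hp)).symm)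
      obtain ⟨m, hm1, hm2⟩ := exists_lift_inv f hk hy
      rw [← hm2]
      rcases h.only (x ^ m) hm1 (fun p hp => ((Commute.pow_left (hx p (mem_sup_left hp)) m) : _))
        (fun p hp => ((Commute.pow_left (hx p (mem_sup_right hp)) m) : _)) with e | e
      · left; rw [e, map_one]
      · right; rw [e]
    quot := by
      intro N hN h1 h2 hK
      have h3 : N.comap f = ⊤ := by
        apply h.quot _ inferInstance
        · intro p hp; exact h1 (mem_map_of_mem f hp)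
        · intro p hp; exact h2 (mem_map_of_mem f hp)
        · intro K hNK hK2
          have hkK : f.ker ≤ K := le_trans (by
            intro x hx
            rw [mem_comap, MonoidHom.mem_ker.mp hx]
            exact N.one_mem) hNK
          apply hK (K.map f)
          · intro n hn
            obtain ⟨x, rfl⟩ := hf n
            exact mem_map_of_mem f (hNK hn)
          · rw [index_map_eq K hf hkK, hK2]
      rw [eq_top_iff]
      intro y _
      obtain ⟨x, rfl⟩ := hf y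
      have : x ∈ N.comap f := by rw [h3]; trivial
      exact this }

end map
section syl

variable {X Y : Type*} [Group X] [Group Y] [Finite X]

/-- Sylow 2-subgroups of quotients by normal subgroups of odd order. -/
theorem sylow_equiv_of_odd (f : X →* Y) (hf : Function.Surjective f) (hk : Odd (Nat.card f.ker)) (S : Sylow 2 X)
    (R : Sylow 2 Y) : Nonempty (↥(S : Subgroup X) ≃* ↥(R : Subgroup Y)) := by
  have : Fact (Nat.Prime 2) := ⟨Nat.prime_two⟩
  have hfin : Finite Y := Finite.of_surjective f hf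
  have hinj : Function.Injective (f.subgroupMap (S : Subgroup X)) := by
    rw [← MonoidHom.ker_eq_bot_iff, eq_bot_iff]
    intro x hx
    rw [MonoidHom.mem_ker] at hx
    have h1 : f x = 1 := congrArg Subtype.val hx
    have h2 : (x : X) ∈ f.ker := MonoidHom.mem_ker.mpr h1
    rw [mem_bot]
    by_contra hx1
    obtain ⟨k, hk2⟩ := S.2 x
    obtain ⟨m, hm1, hm2⟩ := exists_pow_inv hx1 hk2
    apply hm1
    apply Subtype.ext
    have h3 : ((x : X) ^ m) ∈ f.ker := f.ker.pow_mem h2 m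
    obtain ⟨j, hj⟩ := hk
    have h4 : (⟨(x : X) ^ m, h3⟩ : f.ker) ^ Nat.card f.ker = 1 := pow_card_eq_one'
    rw [hj, pow_add, pow_mul, pow_two] at h4
    have h5 : (x : X) ^ m * (x : X) ^ m = 1 := by simpa using congrArg Subtype.val hm2
    have h6 : (⟨(x : X) ^ m, h3⟩ : f.ker) * ⟨(x : X) ^ m, h3⟩ = 1 := Subtype.ext h5
    rw [h6, one_pow, one_mul, pow_one] at h4
    simpa using congrArg Subtype.val h4
  have e1 : ↥(S : Subgroup X) ≃* ↥((S : Subgroup X).map f) :=
    MulEquiv.ofBijective (f.subgroupMap (S : Subgroup X)) ⟨hinj, f.subgroupMap_surjective _⟩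
  have e2 : ↥((Sylow.mapSurjective hf S : Sylow 2 Y) : Subgroup Y) ≃* ↥(R : Subgroup Y) := Sylow.equiv _ _
  exact ⟨e1.trans e2⟩

/-- Sylow 2-subgroups of the centralizer are Sylow 2-subgroups of the group. -/
theorem Facts.sylow_equiv {H : Type*} [Group H] [Finite H] {t : H}
    {τ s : ↥(centralizer ({t} : Set H))} {L₁ L₂ B P₁ P₂ : Subgroup ↥(centralizer ({t} : Set H))}
    (h : Facts τ s L₁ L₂ B P₁ P₂) (hτ : (τ : H) = t) (S : Sylow 2 H) (R : Sylow 2 ↥(centralizer ({t} : Set H))) :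
    Nonempty (↥(S : Subgroup H) ≃* ↥(R : Subgroup ↥(centralizer ({t} : Set H)))) := by
  have : Fact (Nat.Prime 2) := ⟨Nat.prime_two⟩
  obtain ⟨S0, h1, h2⟩ := h.exists_sylow
  have hc := (h.central hτ S0 S0.2 h1 h2).1
  have hle : (S0 : Subgroup H) ≤ centralizer ({t} : Set H) := fun x hx => mem_centralizer_singleton_iff.mpr (hc x hx)
  have e1 : ↥(S : Subgroup H) ≃* ↥(S0 : Subgroup H) := Sylow.equiv _ _
  have e2 : ↥((S0 : Subgroup H).subgroupOf (centralizer ({t} : Set H))) ≃* ↥(S0 : Subgroup H) := subgroupOfEquivOfLe hle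
  have e3 : ↥((S0.subtype hle : Sylow 2 ↥(centralizer ({t} : Set H))) : Subgroup ↥(centralizer ({t} : Set H))) ≃*
    ↥(R : Subgroup ↥(centralizer ({t} : Set H))) := Sylow.equiv _ _
  exact ⟨e1.trans (e2.symm.trans e3)⟩

end syl

section quot

variable {G X : Type*} [Group G] [Finite G] [Group X] {τ s : X} {L₁ L₂ B P₁ P₂ : Subgroup X} {t : G}

omit [Finite G] in
/-- An isomorphism `C_G(t) ≃* X` maps `t` to `τ`. -/
theorem Facts.map_t (h : Facts τ s L₁ L₂ B P₁ P₂) (ht : orderOf t = 2) (e : ↥(centralizer ({t} : Set G)) ≃* X) :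
    e ⟨t, mem_centralizer_singleton_iff.mpr rfl⟩ = τ := by
  have ht2 : t * t = 1 := by rw [← pow_two, ← ht, pow_orderOf_eq_one]
  have hcen : ∀ x : X, e ⟨t, mem_centralizer_singleton_iff.mpr rfl⟩ * x = x * e ⟨t, mem_centralizer_singleton_iff.mpr rfl⟩ := by
    intro x
    obtain ⟨y, rfl⟩ := e.surjective x
    rw [← map_mul, ← map_mul]
    congr 1
    exact Subtype.ext (mem_centralizer_singleton_iff.mp y.2).symm
  rcases h.only (e ⟨t, mem_centralizer_singleton_iff.mpr rfl⟩) (by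
      rw [← map_mul, ← map_one e]; congr 1; exact Subtype.ext ht2) (fun y _ => hcen y) (fun y _ => hcen y) with e1 | e1
  · exfalso
    rw [EmbeddingLike.map_eq_one_iff] at e1
    have : t = 1 := congrArg Subtype.val e1
    rw [this, orderOf_one] at ht
    omega
  · exact e1

/-- The centralizer in the quotient by a normal subgroup of odd order. -/
theorem Facts.exists_pi (h : Facts τ s L₁ L₂ B P₁ P₂) (ht : orderOf t = 2) (e : ↥(centralizer ({t} : Set G)) ≃* X)
    (M : Subgroup G) [M.Normal] (hM : Odd (Nat.card M)) :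
    ∃ π : X →* ↥(centralizer ({(QuotientGroup.mk' M t)} : Set (G ⧸ M))), Function.Surjective π ∧ Odd (Nat.card π.ker) ∧
      ((π τ : ↥(centralizer ({(QuotientGroup.mk' M t)} : Set (G ⧸ M)))) : G ⧸ M) = QuotientGroup.mk' M t ∧
      ∀ x : X, x ∈ π.ker ↔ ((e.symm x : ↥(centralizer ({t} : Set G))) : G) ∈ M := by
  have : Fact (Nat.Prime 2) := ⟨Nat.prime_two⟩
  have ht2 : t * t = 1 := by rw [← pow_two, ← ht, pow_orderOf_eq_one]
  let f : ↥(centralizer ({t} : Set G)) →* ↥(centralizer ({(QuotientGroup.mk' M t)} : Set (G ⧸ M))) :=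
    ((QuotientGroup.mk' M).comp (centralizer ({t} : Set G)).subtype).codRestrict _ (fun x => by
      rw [mem_centralizer_singleton_iff, MonoidHom.comp_apply, ← map_mul, ← map_mul]
      congr 1
      exact mem_centralizer_singleton_iff.mp x.2)
  have hf : ∀ x, ((f x : ↥(centralizer ({(QuotientGroup.mk' M t)} : Set (G ⧸ M)))) : G ⧸ M) = QuotientGroup.mk' M x := fun _ => rfl
  have hsurj : Function.Surjective f := by
    intro y
    have h1 := PLocal.CoprimeLift.map_centralizer_mk (p := 2) M (zpowers t) (Nat.coprime_two_right.mpr hM)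
      (isPGroup_zpowers ht2)
    have h2 : (y : G ⧸ M) ∈ centralizer ((zpowers t).map (QuotientGroup.mk' M) : Set (G ⧸ M)) := by
      rw [MonoidHom.map_zpowers]
      rw [mem_centralizer_iff]
      rintro _ ⟨k, rfl⟩
      have h3 := mem_centralizer_singleton_iff.mp y.2
      exact (Commute.zpow_left (show Commute (QuotientGroup.mk' M t) (y : G ⧸ M) from h3.symm) k)
    rw [← h1] at h2
    obtain ⟨x, hx, e1⟩ := h2
    refine ⟨⟨x, ?_⟩, Subtype.ext e1⟩
    exact mem_centralizer_singleton_iff.mpr (((mem_centralizer_iff.mp hx) t (mem_zpowers t)).symm)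
  refine ⟨f.comp e.symm.toMonoidHom, hsurj.comp e.symm.surjective, ?_, ?_, ?_⟩
  · -- odd kernel
    have hinj : Function.Injective (fun x : (f.comp e.symm.toMonoidHom).ker => (⟨((e.symm x.1 : ↥(centralizer ({t} : Set G))) : G), by
        have h1 : f (e.symm x.1) = 1 := MonoidHom.mem_ker.mp x.2
        have h2 := congrArg Subtype.val h1
        rw [hf] at h2
        exact (QuotientGroup.eq_one_iff _).mp h2⟩ : M)) := by
      intro a b hab
      have h1 := congrArg Subtype.val hab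
      exact Subtype.ext (e.symm.injective (Subtype.ext h1))
    let g : (f.comp e.symm.toMonoidHom).ker →* M :=
      { toFun := fun x => (⟨((e.symm x.1 : ↥(centralizer ({t} : Set G))) : G), by
          have h1 : f (e.symm x.1) = 1 := MonoidHom.mem_ker.mp x.2
          have h2 := congrArg Subtype.val h1
          rw [hf] at h2
          exact (QuotientGroup.eq_one_iff _).mp h2⟩ : M)
        map_one' := by apply Subtype.ext; simp
        map_mul' := by
          intro a b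
          apply Subtype.ext
          show ((e.symm (a.1 * b.1) : ↥(centralizer ({t} : Set G))) : G) = (e.symm a.1 : G) * (e.symm b.1 : G)
          rw [map_mul]; rfl }
    have hd : Nat.card (f.comp e.symm.toMonoidHom).ker ∣ Nat.card M := Subgroup.card_dvd_of_injective g hinj
    exact Odd.of_dvd_nat hM hd
  · rw [MonoidHom.comp_apply, MulEquiv.coe_toMonoidHom, hf]
    congr 1
    have := h.map_t ht e
    rw [← this, MulEquiv.symm_apply_apply]
  · intro x
    rw [MonoidHom.mem_ker, MonoidHom.comp_apply, MulEquiv.coe_toMonoidHom]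
    constructor
    · intro h1
      have h2 := congrArg Subtype.val h1
      rw [hf] at h2
      exact (QuotientGroup.eq_one_iff _).mp h2
    · intro h1
      exact Subtype.ext ((QuotientGroup.eq_one_iff _).mpr h1)

end quot

/-- `O(G)`: the quotient by the odd core. -/
theorem oddCore_odd {G : Type*} [Group G] [Finite G] : Odd (Nat.card (Cfsg.pPrimeCore 2 G)) :=
  Nat.coprime_two_right.mp (Cfsg.Agent.Lib.Cores.pPrimeCore_coprime 2)

theorem quot_no_odd {G : Type*} [Group G] [Finite G] (N : Subgroup (G ⧸ Cfsg.pPrimeCore 2 G)) (hN : N.Normal)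
    (ho : Odd (Nat.card N)) : N = ⊥ := by
  rw [eq_bot_iff, ← Cfsg.Agent.Lib.Cores.pPrimeCore_quotient_pPrimeCore (G := G) 2]
  exact Cfsg.Agent.Lib.Cores.le_pPrimeCore hN (Nat.coprime_two_right.mpr ho)

theorem quot_no_two {G : Type*} [Group G] (M : Subgroup G) [M.Normal] (hno : ∀ K : Subgroup G, K.index ≠ 2)
    (K : Subgroup (G ⧸ M)) : K.index ≠ 2 := by
  intro h
  apply hno (K.comap (QuotientGroup.mk' M))
  rw [index_comap_of_surjective _ (QuotientGroup.mk'_surjective M), h]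

/-- A normal subgroup `M` of odd order on which `t` has no fixed points is trivial if `G / M` is simple and not abelian. -/
theorem eq_bot_of_fixedPointFree {G : Type*} [Group G] [Finite G] (M : Subgroup G) [hM : M.Normal]
    (ho : Odd (Nat.card M)) {t : G} (ht2 : t * t = 1) (ht1 : t ≠ 1) (hs : IsSimpleGroup (G ⧸ M))
    (hna : ∃ a b : G ⧸ M, a * b ≠ b * a) (hfix : ∀ m ∈ M, m * t = t * m → m = 1) : M = ⊥ := by
  have hti : t⁻¹ = t := inv_eq_of_mul_eq_one_left ht2
  -- `t` inverts `M`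
  let φ : ↥M →* ↥M := ((MulAut.conjNormal t : MulAut ↥M) : ↥M →* ↥M)
  have hφ : ∀ m : M, ((φ m : M) : G) = t * m * t⁻¹ := fun m => rfl
  have hfp : MonoidHom.FixedPointFree φ := by
    intro m hm
    apply Subtype.ext
    apply hfix m m.2
    have h1 := congrArg Subtype.val hm
    rw [hφ] at h1
    exact (mul_inv_eq_iff_eq_mul.mp h1).symm
  have hinv : Function.Involutive φ := by
    intro m
    apply Subtype.ext
    rw [hφ, hφ, hti]
    calc t * (t * m * t) * t = (t * t) * m * (t * t) := by group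
      _ = m := by rw [ht2]; group
  have h1 : ∀ m ∈ M, t * m * t⁻¹ = m⁻¹ := by
    intro m hm
    have := congrFun (hfp.coe_eq_inv_of_involutive hinv) ⟨m, hm⟩
    exact congrArg Subtype.val this
  have hcomm : ∀ a ∈ M, ∀ b ∈ M, a * b = b * a := by
    intro a ha b hb
    have e1 := h1 _ (M.mul_mem ha hb)
    have e2 : t * (a * b) * t⁻¹ = (t * a * t⁻¹) * (t * b * t⁻¹) := by group
    rw [e2, h1 a ha, h1 b hb] at e1
    have e3 : (a⁻¹ * b⁻¹)⁻¹ = ((a * b)⁻¹)⁻¹ := by rw [e1]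
    rw [mul_inv_rev, inv_inv, inv_inv, inv_inv] at e3
    exact e3.symm
  set N := centralizer (M : Set G) with hN
  have hNn : N.Normal := inferInstance
  have hMN : M ≤ N := by
    intro a ha
    rw [hN, mem_centralizer_iff]
    intro b hb
    exact hcomm b hb a ha
  rcases hs.2 (N.map (QuotientGroup.mk' M)) (hNn.map _ (QuotientGroup.mk'_surjective M)) with h2 | h2
  · -- `N = M`
    exfalso
    rw [Subgroup.map_eq_bot_iff, QuotientGroup.ker_mk'] at h2
    have h3 : ∀ g : G, t * g * t⁻¹ * g⁻¹ ∈ M := by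
      intro g
      apply h2
      rw [hN, mem_centralizer_iff]
      intro m hm
      have h4 : g⁻¹ * m * g ∈ M := by simpa using hM.conj_mem m hm g⁻¹
      have h5 := h1 _ h4
      have h6 := h1 m hm
      -- conjugation by `t` is inversion
      have h7 : g * (t * (g⁻¹ * m * g) * t⁻¹) * g⁻¹ = m⁻¹ := by rw [h5]; group
      have h8 : t * (g * (t⁻¹ * (g⁻¹ * m * g) * t) * g⁻¹) * t⁻¹ = m := by
        rw [hti]
        have h9 : g * (t * (g⁻¹ * m * g) * t) * g⁻¹ = m⁻¹ := by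
          rw [← h7, hti]
        have h10 := h1 _ (M.inv_mem hm)
        rw [hti] at h10
        rw [h9, h10, inv_inv]
      have h11 : t * g * t⁻¹ * g⁻¹ * m * (t * g * t⁻¹ * g⁻¹)⁻¹ = m := by
        calc t * g * t⁻¹ * g⁻¹ * m * (t * g * t⁻¹ * g⁻¹)⁻¹ = t * (g * (t⁻¹ * (g⁻¹ * m * g) * t) * g⁻¹) * t⁻¹ := by group
          _ = m := h8
      rw [mul_inv_eq_iff_eq_mul] at h11
      exact h11.symm
    have hc : (QuotientGroup.mk' M t) ∈ center (G ⧸ M) := by
      rw [mem_center_iff]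
      intro y
      obtain ⟨g, rfl⟩ := QuotientGroup.mk'_surjective M y
      rw [← map_mul, ← map_mul, QuotientGroup.mk'_apply, QuotientGroup.mk'_apply, eq_comm, QuotientGroup.eq]
      have h7 := M.inv_mem (hM.conj_mem _ (h3 g) (g⁻¹ * t⁻¹))
      have e3 : ((g⁻¹ * t⁻¹) * (t * g * t⁻¹ * g⁻¹) * (g⁻¹ * t⁻¹)⁻¹)⁻¹ = g⁻¹ * t⁻¹ * g * t := by group
      rw [e3] at h7
      have e4 : (t * g)⁻¹ * (g * t) = g⁻¹ * t⁻¹ * g * t := by group
      rw [e4]; exact h7
    rcases hs.2 (center (G ⧸ M)) inferInstance with h4 | h4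
    · rw [h4, mem_bot, QuotientGroup.mk'_apply, QuotientGroup.eq_one_iff] at hc
      have h5 : orderOf (⟨t, hc⟩ : M) ∣ Nat.card M := orderOf_dvd_natCard _
      have h6 : orderOf (⟨t, hc⟩ : M) = 2 := by
        have : Fact (Nat.Prime 2) := ⟨Nat.prime_two⟩
        apply orderOf_eq_prime
        · apply Subtype.ext; simpa [pow_two] using ht2
        · intro e; exact ht1 (congrArg Subtype.val e)
      rw [h6] at h5
      exact (Nat.not_even_iff_odd.mpr ho) (even_iff_two_dvd.mpr h5)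
    · obtain ⟨a, b, hab⟩ := hna
      apply hab
      have ha : a ∈ center (G ⧸ M) := by rw [h4]; trivial
      exact ((mem_center_iff.mp ha) b).symm
  · -- `N = G`
    have h3 : N = ⊤ := by
      have h4 := congrArg (comap (QuotientGroup.mk' M)) h2
      rw [comap_map_eq, QuotientGroup.ker_mk', comap_top, sup_eq_left.mpr hMN] at h4
      exact h4
    rw [eq_bot_iff]
    intro m hm
    rw [mem_bot]
    apply hfix m hm
    have h5 : t ∈ N := by rw [h3]; trivial
    rw [hN, mem_centralizer_iff] at h5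
    exact h5 m hm

/-- **The reduction**: `G / O(G)` is simple. -/
theorem Facts.main {G X : Type*} [Group G] [Finite G] [Group X] {τ s : X} {L₁ L₂ B P₁ P₂ : Subgroup X} {t : G}
    (h : Facts τ s L₁ L₂ B P₁ P₂) (ht : orderOf t = 2) (e : ↥(centralizer ({t} : Set G)) ≃* X)
    (hno : ∀ K : Subgroup G, K.index ≠ 2) :
    IsSimpleGroup (G ⧸ Cfsg.pPrimeCore 2 G) ∧ (∃ a b : G ⧸ Cfsg.pPrimeCore 2 G, a * b ≠ b * a) ∧
    ∃ π : X →* ↥(centralizer ({(QuotientGroup.mk' (Cfsg.pPrimeCore 2 G) t)} : Set (G ⧸ Cfsg.pPrimeCore 2 G))),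
      Function.Surjective π ∧ Odd (Nat.card π.ker) ∧
      Facts (π τ) (π s) (L₁.map π) (L₂.map π) (B.map π) (P₁.map π) (P₂.map π) ∧
      ((π τ : ↥(centralizer ({(QuotientGroup.mk' (Cfsg.pPrimeCore 2 G) t)} : Set (G ⧸ Cfsg.pPrimeCore 2 G)))) :
        G ⧸ Cfsg.pPrimeCore 2 G) = QuotientGroup.mk' (Cfsg.pPrimeCore 2 G) t ∧
      (∀ (S : Sylow 2 (G ⧸ Cfsg.pPrimeCore 2 G)) (R : Sylow 2 X),
        Nonempty (↥(S : Subgroup (G ⧸ Cfsg.pPrimeCore 2 G)) ≃* ↥(R : Subgroup X))) ∧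
      (Function.Injective π → Cfsg.pPrimeCore 2 G = ⊥) := by
  have hX : Finite X := Finite.of_equiv _ e.toEquiv
  obtain ⟨π, h1, h2, h3, h4⟩ := h.exists_pi ht e (Cfsg.pPrimeCore 2 G) oddCore_odd
  have hF := h.map π h1 h2
  have hs : IsSimpleGroup (G ⧸ Cfsg.pPrimeCore 2 G) :=
    hF.isSimpleGroup h3 (fun N hN ho => quot_no_odd N hN ho) (quot_no_two _ hno)
  have ht2 : t * t = 1 := by rw [← pow_two, ← ht, pow_orderOf_eq_one]
  have ht1 : t ≠ 1 := by intro e1; rw [e1, orderOf_one] at ht; omega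
  refine ⟨hs, hF.not_comm, π, h1, h2, hF, h3, ?_, ?_⟩
  · intro S R
    obtain ⟨R'⟩ : Nonempty (Sylow 2 ↥(centralizer ({(QuotientGroup.mk' (Cfsg.pPrimeCore 2 G) t)} : Set (G ⧸ Cfsg.pPrimeCore 2 G)))) :=
      inferInstance
    obtain ⟨e1⟩ := hF.sylow_equiv h3 S R'
    obtain ⟨e2⟩ := sylow_equiv_of_odd π h1 h2 R R'
    exact ⟨e1.trans e2.symm⟩
  · intro hinj
    apply eq_bot_of_fixedPointFree _ oddCore_odd ht2 ht1 hs hF.not_comm
    intro m hm hmt
    have hmC : m ∈ centralizer ({t} : Set G) := mem_centralizer_singleton_iff.mpr hmt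
    have h5 : e ⟨m, hmC⟩ ∈ π.ker := by
      rw [h4, MulEquiv.symm_apply_apply]
      exact hm
    rw [(MonoidHom.ker_eq_bot_iff π).mpr hinj, mem_bot, EmbeddingLike.map_eq_one_iff] at h5
    exact congrArg Subtype.val h5


end Cfsg.Agent.H313.Red
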