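import Mathlib
import Cfsg.Agent.H313.AltFr
import Cfsg.Agent.H313.Red
import Cfsg.Agent.S1322
import Cfsg.Agent.S0205
import Cfsg.Agent.FixBN.BCoreFree
import Cfsg.Agent.Cit.Comp
import Cfsg.Agent.OddTab.Base
import Cfsg.Agent.CTwoTab.Good
import Cfsg.Agent.GH.WRank

/-!
# Reduction to an almost simple group for the centralizers of type `A_m` (helper313)

`FX t A E`: the facts on the centralizer of the involution `t` of `X`; `FX.main`: a finite group without normal subgroups
of odd order and without subgroups of index two has a simple normal subgroup `M` with `C_X(M) = 1` and `A < M`.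
-/

set_option autoImplicit false
set_option linter.unusedSectionVars false

namespace Cfsg.Agent.H313.AltRed

open Subgroup Cfsg
open Cfsg.Agent.Cit (cj mem_cj conj_mem_cj conj_mem_cj_iff cj_one cj_mul cj_inv_cj cj_cj_inv cj_mono cj_le_cj cj_inj)

/-- The facts on the centralizer `C` of an involution `t` at the level of the group `X`. -/
structure FX {X : Type*} [Group X] (t : X) (A E : Subgroup X) : Prop where
  ne : t ≠ 1
  sq : t * t = 1
  cA : ∀ a ∈ A, a * t = t * a
  nA : ∀ c, c * t = t * c → ∀ a ∈ A, c * a * c⁻¹ ∈ A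
  simple : IsSimpleGroup A
  na : ∃ a ∈ A, ∃ b ∈ A, a * b ≠ b * a
  umin : ∀ N : Subgroup X, (∀ n ∈ N, n * t = t * n) → (∀ n ∈ N, ∀ a ∈ A, n * a = a * n) →
    (∀ c, c * t = t * c → ∀ n ∈ N, c * n * c⁻¹ ∈ N) → N ≠ ⊥ → t ∈ N
  abel : ∀ N : Subgroup X, (∀ n ∈ N, n * t = t * n) → (∀ n ∈ N, ∀ a ∈ A, n * a = a * n) →
    (∀ c, c * t = t * c → ∀ n ∈ N, c * n * c⁻¹ ∈ N) → ∀ y ∈ N, y ≠ 1 → y ≠ t → (∀ n ∈ N, n * y = y * n) →
    ∀ n ∈ N, n * n = 1
  Et : ∀ e ∈ E, e * t = t * e
  EA : ∀ e ∈ E, ∀ a ∈ A, e * a = a * e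
  nE : ∀ c, c * t = t * c → ∀ e ∈ E, c * e * c⁻¹ ∈ E
  Esq : ∀ e ∈ E, e * e = 1
  self : ∀ x, x * t = t * x → (∀ a ∈ A, x * a = a * x) → (∀ e ∈ E, x * e = e * x) → x ∈ E
  odd : ∃ c, c * t = t * c ∧ c * c = 1 ∧ ∀ a ∈ A, ¬ ∀ b ∈ A, c * a * b = b * (c * a)
  cm : ∃ a b, a * t = t * a ∧ b * t = t * b ∧ a * a = 1 ∧ b * b = 1 ∧
    (∀ x ∈ A, a * b * a⁻¹ * b⁻¹ * x = x * (a * b * a⁻¹ * b⁻¹)) ∧ a * b * a⁻¹ * b⁻¹ ≠ 1
  rich : ∀ u ∈ A, u ≠ 1 → u * u = 1 → ∃ x ∈ A, x * u = u * x ∧ x * x ≠ 1

section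

variable {X : Type*} [Group X]

theorem simple_dichotomy {A N : Subgroup X} (hA : IsSimpleGroup A) (hn : ∀ a ∈ A, ∀ n ∈ N, a * n * a⁻¹ ∈ N) :
    A ≤ N ∨ ∀ x ∈ A, x ∈ N → x = 1 := by
  have h1 : (N.subgroupOf A).Normal := ⟨fun n hn' g => mem_subgroupOf.2 (by simpa using hn g g.2 n (mem_subgroupOf.1 hn'))⟩
  rcases h1.eq_bot_or_eq_top with h2 | h2
  · right
    intro x hx hxN
    have h3 : (⟨x, hx⟩ : A) ∈ N.subgroupOf A := mem_subgroupOf.2 hxN
    rw [h2, mem_bot] at h3
    exact congrArg Subtype.val h3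
  · left
    intro x hx
    have h3 : (⟨x, hx⟩ : A) ∈ N.subgroupOf A := by rw [h2]; trivial
    exact mem_subgroupOf.1 h3

theorem conj_comm {c n t : X} (h1 : c * t = t * c) (h2 : n * t = t * n) : c * n * c⁻¹ * t = t * (c * n * c⁻¹) := by
  have h3 : Commute c t := h1
  have h4 : Commute n t := h2
  exact ((h3.mul_left h4).mul_left h3.inv_left)

/-- A fixed point free involution inverts. -/
theorem inv_of_fpf [Finite X] {t : X} (sq : t * t = 1) {N : Subgroup X} (hn : ∀ n ∈ N, t * n * t⁻¹ ∈ N)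
    (hf : ∀ n ∈ N, n * t = t * n → n = 1) : ∀ n ∈ N, t * n * t⁻¹ = n⁻¹ := by
  have hti : t⁻¹ = t := inv_eq_of_mul_eq_one_left sq
  let φ : ↥N →* ↥N :=
    { toFun := fun n => ⟨t * n * t⁻¹, hn n n.2⟩
      map_one' := by apply Subtype.ext; simp
      map_mul' := by
        intro a b; apply Subtype.ext
        show t * ((a : X) * b) * t⁻¹ = t * a * t⁻¹ * (t * b * t⁻¹)
        group }
  have hφ : ∀ m : N, ((φ m : N) : X) = t * m * t⁻¹ := fun m => rfl
  have hfp : MonoidHom.FixedPointFree φ := by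
    intro m hm
    apply Subtype.ext
    apply hf m m.2
    have h1 := congrArg Subtype.val hm
    rw [hφ] at h1
    exact (mul_inv_eq_iff_eq_mul.mp h1).symm
  have hinv : Function.Involutive φ := by
    intro m
    apply Subtype.ext
    rw [hφ, hφ, hti]
    calc t * (t * m * t) * t = (t * t) * m * (t * t) := by group
      _ = m := by rw [sq]; group
  intro m hm
  have := congrFun (hfp.coe_eq_inv_of_involutive hinv) ⟨m, hm⟩
  exact congrArg Subtype.val this

theorem comm_of_inv {t : X} {N : Subgroup X} (h1 : ∀ n ∈ N, t * n * t⁻¹ = n⁻¹) : ∀ a ∈ N, ∀ b ∈ N, a * b = b * a := by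
  intro a ha b hb
  have e1 := h1 _ (N.mul_mem ha hb)
  have e2 : t * (a * b) * t⁻¹ = (t * a * t⁻¹) * (t * b * t⁻¹) := by group
  rw [e2, h1 a ha, h1 b hb] at e1
  have e3 : (a⁻¹ * b⁻¹)⁻¹ = ((a * b)⁻¹)⁻¹ := by rw [e1]
  rw [mul_inv_rev, inv_inv, inv_inv, inv_inv] at e3
  exact e3.symm

/-- two conjugates: a subgroup of index two -/
theorem index_of_two [Finite X] (hno : ∀ K : Subgroup X, K.index ≠ 2) {D D' : Subgroup X} (hne : D' ≠ D)
    (h1 : ∃ g, cj g D = D') (h2 : ∀ g, cj g D = D ∨ cj g D = D') : False := by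
  obtain ⟨g0, hg0⟩ := h1
  apply hno (normalizer (D : Set X))
  rw [index_eq_two_iff]
  have mem : ∀ g, g ∈ normalizer (D : Set X) ↔ cj g D = D := by
    intro g
    rw [mem_normalizer_iff]
    constructor
    · intro h
      ext x
      rw [mem_cj]
      have := h (g⁻¹ * x * g)
      rw [this]
      have e : g * (g⁻¹ * x * g) * g⁻¹ = x := by group
      rw [e]
    · intro h x
      constructor
      · intro hx
        rw [← h]; exact conj_mem_cj hx
      · intro hx
        rw [← h] at hx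
        exact conj_mem_cj_iff.1 hx
  have hsw : ∀ g, cj g D = D' → ∀ k, cj k D = D' → cj (k * g⁻¹) D' = D' := by
    intro g hg k hk
    rw [cj_mul, ← hg, cj_inv_cj, hk, hg]
  refine ⟨g0, fun b => ?_⟩
  rw [mem, mem, cj_mul, hg0]
  rcases h2 b with h3 | h3
  · right
    refine ⟨h3, fun h4 => ?_⟩
    exact hne (cj_inj.1 (h4.trans h3.symm))
  · left
    refine ⟨?_, fun h4 => hne (h3.symm.trans h4)⟩
    rcases h2 (b * g0) with h5 | h5
    · rwa [cj_mul, hg0] at h5
    · exfalso
      rw [cj_mul, hg0] at h5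
      exact hne (cj_inj.1 (h5.trans h3.symm))

end

section main

variable {X : Type*} [Group X] [Finite X] {t : X} {A E : Subgroup X}

theorem FX.star (h : FX t A E) (hodd : ∀ N : Subgroup X, N.Normal → Odd (Nat.card N) → N = ⊥) (N : Subgroup X)
    (hN : N.Normal) (hN1 : N ≠ ⊥) : A ≤ N ∨ t ∈ N := by
  rcases simple_dichotomy h.simple (N := N ⊓ centralizer ({t} : Set X)) (fun a ha n hn => ⟨hN.conj_mem n hn.1 a,
    mem_centralizer_singleton_iff.2 (conj_comm (h.cA a ha) (mem_centralizer_singleton_iff.1 hn.2))⟩) with h1 | h1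
  · left; exact h1.trans inf_le_left
  · right
    have hn : ∀ n ∈ N ⊓ centralizer ({t} : Set X), n ∈ N ∧ n * t = t * n := fun n hn =>
      ⟨hn.1, mem_centralizer_singleton_iff.1 hn.2⟩
    have hc : ∀ n ∈ N ⊓ centralizer ({t} : Set X), ∀ a ∈ A, n * a = a * n := by
      intro n hn' a ha
      obtain ⟨h2, h3⟩ := hn n hn'
      have h4 : n * a * n⁻¹ * a⁻¹ ∈ A := A.mul_mem (h.nA n h3 a ha) (A.inv_mem ha)
      have h5 : n * a * n⁻¹ * a⁻¹ ∈ N := by
        have e : n * a * n⁻¹ * a⁻¹ = n * (a * n⁻¹ * a⁻¹) := by group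
        rw [e]
        exact N.mul_mem h2 (hN.conj_mem _ (N.inv_mem h2) a)
      have h6 : n * a * n⁻¹ * a⁻¹ * t = t * (n * a * n⁻¹ * a⁻¹) := h.cA _ h4
      have h7 := h1 _ h4 ⟨h5, mem_centralizer_singleton_iff.2 h6⟩
      rw [mul_inv_eq_one] at h7
      exact mul_inv_eq_iff_eq_mul.1 h7
    by_cases hb : N ⊓ centralizer ({t} : Set X) = ⊥
    · exfalso
      have h2 := inv_of_fpf h.sq (N := N) (fun n hn => hN.conj_mem n hn t) (fun n hn hc => by
        have : n ∈ N ⊓ centralizer ({t} : Set X) := ⟨hn, mem_centralizer_singleton_iff.2 hc⟩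
        rwa [hb, mem_bot] at this)
      apply hN1
      apply hodd N hN
      by_contra hev
      obtain ⟨x, hx, hx1, hx2⟩ := Red.exists_inv_of_not_odd N hev
      have h3 := h2 x hx
      rw [inv_eq_of_mul_eq_one_left hx2, mul_inv_eq_iff_eq_mul] at h3
      have : x ∈ N ⊓ centralizer ({t} : Set X) := ⟨hx, mem_centralizer_singleton_iff.2 h3.symm⟩
      rw [hb, mem_bot] at this
      exact hx1 this
    · exact (hn t (h.umin _ (fun n hn' => (hn n hn').2) hc (fun c hcc n hn' => ⟨hN.conj_mem n hn'.1 c,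
        mem_centralizer_singleton_iff.2 (conj_comm hcc (hn n hn').2)⟩) hb)).1

theorem FX.quasi (h : FX t A E) : IsQuasisimple A := by
  have := h.simple
  apply CTwoTab.isQuasisimple_of_simple
  rintro ⟨⟨hc⟩⟩
  obtain ⟨a, ha, b, hb, hab⟩ := h.na
  exact hab (congrArg Subtype.val (hc ⟨a, ha⟩ ⟨b, hb⟩))

theorem FX.compA (h : FX t A E) : IsComponentOf A (centralizer ({t} : Set X)) :=
  OddTab.isComponentOf_of_normalized (fun a ha => mem_centralizer_singleton_iff.2 (h.cA a ha)) h.quasi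
    (fun g hg x hx => h.nA g (mem_centralizer_singleton_iff.1 hg) x hx)

/-- the only component of the centralizer is `A` -/
theorem FX.comp_eq (h : FX t A E) {D : Subgroup X} (hD : IsComponentOf D (centralizer ({t} : Set X))) : D = A := by
  by_contra hne
  have h1 : ∀ d ∈ D, ∀ a ∈ A, d * a = a * d := by
    intro d hd a ha
    have h2 := Cit.Comp.comm_of_ne hD.2 h.compA.2 (fun e => hne (by
      have := congrArg (Subgroup.map (centralizer ({t} : Set X)).subtype) e
      rwa [subgroupOf_map_subtype, subgroupOf_map_subtype, inf_eq_left.2 hD.1, inf_eq_left.2 h.compA.1] at this))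
      (x := ⟨d, hD.1 hd⟩) (y := ⟨a, h.compA.1 ha⟩) (mem_subgroupOf.2 hd) (mem_subgroupOf.2 ha)
    exact congrArg Subtype.val h2
  have hEc : ∀ a ∈ E, ∀ b ∈ E, a * b = b * a := by
    intro a ha b hb
    have h1 := h.Esq _ (E.mul_mem ha hb)
    have h2 := h.Esq a ha
    have h3 := h.Esq b hb
    calc a * b = b⁻¹ * a⁻¹ := by rw [← mul_inv_rev]; exact eq_inv_of_mul_eq_one_left h1
      _ = b * a := by rw [inv_eq_of_mul_eq_one_left h2, inv_eq_of_mul_eq_one_left h3]
  have hcomm : ∀ a b : E, a * b = b * a := fun a b => Subtype.ext (hEc a a.2 b b.2)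
  have hsol : Group.IsSolvable ↥E := by
    exact Group.isSolvable_of_comm hcomm
  have h4 := CTwoTab.comp_comm_solvable hD (R := E) (fun e he => mem_centralizer_singleton_iff.2 (h.Et e he))
    (fun c hc e he => h.nE c (mem_centralizer_singleton_iff.1 hc) e he) hsol
  have h5 : D ≤ E := fun d hd => h.self d (mem_centralizer_singleton_iff.1 (hD.1 hd)) (h1 d hd) (fun e he => h4 d hd e he)
  have h6 : IsQuasisimple D := OddTab.isQuasisimple_of_isComponentOf hD
  apply SignalizersComponents.Components.quasisimple_not_isSolvable h6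
  exact Group.isSolvable_of_isSolvable_injective (f := Subgroup.inclusion h5) (Subgroup.inclusion_injective h5)

/-- a component of `X` in the centralizer of `t` is `A` -/
theorem FX.eq_of_le (h : FX t A E) {D : Subgroup X} (hD : IsComponent D) (hc : ∀ d ∈ D, d * t = t * d) : D = A := by
  have h1 : D ≤ centralizer ({t} : Set X) := fun d hd => mem_centralizer_singleton_iff.2 (hc d hd)
  exact h.comp_eq ⟨h1, SignalizersComponents.Components.isComponent_subgroupOf h1 hD⟩

/-- `A` is not normal in `X` -/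
theorem FX.not_normal (h : FX t A E) (hno : ∀ K : Subgroup X, K.index ≠ 2)
    (hOut : ∀ α : MulAut A, ∃ k : ℕ, α ^ 2 ^ k ∈ (MulAut.conj : A →* MulAut A).range) : ¬ A.Normal := by
  intro hA
  have hRn : ((MulAut.conj : A →* MulAut A).range).Normal := by
    constructor
    rintro _ ⟨a, rfl⟩ g
    refine ⟨g a, ?_⟩
    ext x
    simp [MulAut.mul_apply, map_mul]
  set K : Subgroup X := ((MulAut.conj : A →* MulAut A).range).comap (MulAut.conjNormal : X →* MulAut A) with hK
  have hKn : K.Normal := hRn.comap _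
  have hp : IsPGroup 2 (X ⧸ K) := by
    intro a
    obtain ⟨x, rfl⟩ := QuotientGroup.mk'_surjective K a
    obtain ⟨k, hk⟩ := hOut (MulAut.conjNormal x)
    refine ⟨k, ?_⟩
    rw [← map_pow, QuotientGroup.mk'_apply, QuotientGroup.eq_one_iff, hK, mem_comap, map_pow]
    exact hk
  obtain ⟨c, hct, hc2, hcA⟩ := h.odd
  have hcK : c ∉ K := by
    rintro ⟨a, ha⟩
    have h1 : ∀ b ∈ A, (a : X) * b * (a : X)⁻¹ = c * b * c⁻¹ := by
      intro b hb
      have h2 := congrArg (fun f : MulAut A => ((f ⟨b, hb⟩ : A) : X)) ha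
      simpa using h2
    have h3 : c⁻¹ * (a : X)⁻¹ * c ∈ A := by simpa using hA.conj_mem _ (A.inv_mem a.2) c⁻¹
    apply hcA _ h3
    intro b hb
    have e : c * (c⁻¹ * (a : X)⁻¹ * c) = (a : X)⁻¹ * c := by group
    rw [e]
    have h4 := h1 b hb
    have h5 : c * b = a * b * (a : X)⁻¹ * c := by rw [h4]; group
    calc (a : X)⁻¹ * c * b = (a : X)⁻¹ * (c * b) := by group
      _ = b * ((a : X)⁻¹ * c) := by rw [h5]; group
  obtain ⟨N, -, hN⟩ := GH.WRank.exists_index_two hp (H := ⊥) (by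
    intro e
    have h1 : QuotientGroup.mk' K c ∈ (⊥ : Subgroup (X ⧸ K)) := by rw [e]; trivial
    rw [mem_bot, QuotientGroup.mk'_apply, QuotientGroup.eq_one_iff] at h1
    exact hcK h1)
  exact Red.quot_no_two K hno N hN

/-- a class of components not centralizing `t` -/
theorem FX.exists_not_comm (h : FX t A E) (hA : ¬ A.Normal) {D : Subgroup X} (hD : IsComponent D) :
    ∃ g, ∃ d ∈ cj g D, d * t ≠ t * d := by
  by_contra hc
  push Not at hc
  have h1 : ∀ g, cj g D = A := fun g => h.eq_of_le (Cit.Comp.isComponent_cj hD g) (hc g)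
  apply hA
  constructor
  intro n hn g
  have h2 : cj g A = A := by rw [← h1 1, cj_one]; exact (h1 g).trans (by rw [← h1 1, cj_one])
  rw [← h2]
  exact conj_mem_cj hn

theorem quasi_not_comm {D : Subgroup X} (hD : IsQuasisimple D) : ¬ ∀ a ∈ D, ∀ b ∈ D, a * b = b * a := by
  intro hc
  apply SignalizersComponents.Components.quasisimple_not_isSolvable hD
  exact Group.isSolvable_of_comm fun a b => Subtype.ext (hc a a.2 b b.2)

theorem le_cent_of_ne {D K : Subgroup X} (hD : IsComponent D) (hK : IsComponent K) (hne : D ≠ K) :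
    D ≤ centralizer (K : Set X) := by
  intro x hx
  rw [mem_centralizer_iff]
  intro y hy
  exact (Cit.Comp.comm_of_ne hD hK hne hx hy).symm

theorem FX.cj_c (h : FX t A E) {D : Subgroup X} (hD : IsComponent D) (hle : A ≤ D ⊔ cj t D) :
    ∀ c, c * t = t * c → cj c D = D ∨ cj c D = cj t D := by
  intro c hc
  by_contra hne
  push Not at hne
  obtain ⟨hne1, hne2⟩ := hne
  have e1 : cj c (cj t D) = cj t (cj c D) := by rw [← cj_mul, ← cj_mul, hc]
  have e2 : ∀ K : Subgroup X, cj t (cj t K) = K := fun K => by rw [← cj_mul, h.sq, cj_one]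
  have hne3 : cj t (cj c D) ≠ D := fun e => hne2 (by rw [← e2 (cj c D), e])
  have hne4 : cj t (cj c D) ≠ cj t D := fun e => hne1 (cj_inj.1 e)
  have c1 := Cit.Comp.isComponent_cj hD t
  have c2 := Cit.Comp.isComponent_cj hD c
  have c3 := Cit.Comp.isComponent_cj c2 t
  have h1 : D ⊔ cj t D ≤ centralizer ((cj c D ⊔ cj t (cj c D) : Subgroup X) : Set X) := by
    apply sup_le
    · rw [le_centralizer_iff]
      exact sup_le (le_cent_of_ne c2 hD hne1) (le_cent_of_ne c3 hD hne3)
    · rw [le_centralizer_iff]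
      exact sup_le (le_cent_of_ne c2 c1 hne2) (le_cent_of_ne c3 c1 hne4)
  have h2 : A ≤ cj c D ⊔ cj t (cj c D) := by
    intro a ha
    have hcI : c⁻¹ * t = t * c⁻¹ := (show Commute c t from hc).inv_left
    have h3 : c⁻¹ * a * c ∈ A := by simpa using h.nA c⁻¹ hcI a ha
    have h4 := conj_mem_cj (g := c) (hle h3)
    have e : c * (c⁻¹ * a * c) * c⁻¹ = a := by group
    rw [e, Cfsg.Agent.Cit.cj_sup, e1] at h4
    exact h4
  obtain ⟨a, ha, b, hb, hab⟩ := h.na
  exact hab ((mem_centralizer_iff.1 (h1 (hle ha))) b (h2 hb)).symm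

/-- a component containing (the diagonal containing) `A` -/
theorem FX.normal_of_le (h : FX t A E) (hno : ∀ K : Subgroup X, K.index ≠ 2) {D : Subgroup X} (hD : IsComponent D)
    (hle : A ≤ D ⊔ cj t D) (hnc : ∃ d ∈ D, d * t ≠ t * d) : D.Normal := by
  have hcl := h.cj_c hD hle
  have key : ∀ g, cj g D = D ∨ cj g D = cj t D := by
    intro g0
    by_contra hne
    push Not at hne
    obtain ⟨hne1, hne2⟩ := hne
    set R : Subgroup X := sSup {K | (∃ g, K = cj g D) ∧ K ≠ D ∧ K ≠ cj t D} with hR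
    have hK0 : cj g0 D ≤ R := le_sSup ⟨⟨g0, rfl⟩, hne1, hne2⟩
    have hRc : ∀ c, c * t = t * c → ∀ n ∈ R, c * n * c⁻¹ ∈ R := by
      intro c hc
      have hle' : R ≤ R.comap (MulAut.conj c).toMonoidHom := by
        rw [hR]
        apply sSup_le
        rintro _ ⟨⟨g, rfl⟩, h1, h2⟩
        rw [← map_le_iff_le_comap]
        apply le_sSup
        have hcI : c⁻¹ * t = t * c⁻¹ := (show Commute c t from hc).inv_left
        refine ⟨⟨c * g, (cj_mul c g D).symm⟩, ?_, ?_⟩
        · intro e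
          have e1 : cj g D = cj c⁻¹ D := (cj_inv_cj c (cj g D)).symm.trans (congrArg (cj c⁻¹) e)
          rcases hcl c⁻¹ hcI with e2 | e2
          · exact h1 (e1.trans e2)
          · exact h2 (e1.trans e2)
        · intro e
          have e1 : cj g D = cj (c⁻¹ * t) D :=
            (cj_inv_cj c (cj g D)).symm.trans ((congrArg (cj c⁻¹) e).trans (cj_mul c⁻¹ t D).symm)
          rcases hcl (c⁻¹ * t) (by rw [hcI, mul_assoc, hcI, ← mul_assoc]) with e2 | e2
          · exact h1 (e1.trans e2)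
          · exact h2 (e1.trans e2)
      intro n hn
      exact mem_comap.1 (hle' hn)
    have hRD : R ≤ centralizer ((D ⊔ cj t D : Subgroup X) : Set X) := by
      rw [hR]
      apply sSup_le
      rintro _ ⟨⟨g, rfl⟩, h1, h2⟩
      rw [le_centralizer_iff]
      exact sup_le (le_cent_of_ne hD (Cit.Comp.isComponent_cj hD g) h1.symm)
        (le_cent_of_ne (Cit.Comp.isComponent_cj hD t) (Cit.Comp.isComponent_cj hD g) h2.symm)
    by_cases hb : R ⊓ centralizer ({t} : Set X) = ⊥
    · have h2 := inv_of_fpf h.sq (N := R) (hRc t rfl) (fun n hn hc => by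
        have : n ∈ R ⊓ centralizer ({t} : Set X) := ⟨hn, mem_centralizer_singleton_iff.2 hc⟩
        rwa [hb, mem_bot] at this)
      have h3 := comm_of_inv h2
      exact quasi_not_comm (Cit.Comp.isComponent_cj hD g0).2 (fun a ha b hb => h3 a (hK0 ha) b (hK0 hb))
    · have h2 := h.umin (R ⊓ centralizer ({t} : Set X)) (fun n hn => mem_centralizer_singleton_iff.1 hn.2)
        (fun n hn a ha => ((mem_centralizer_iff.1 (hRD hn.1)) a (hle ha)).symm)
        (fun c hc n hn => ⟨hRc c hc n hn.1, mem_centralizer_singleton_iff.2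
          (conj_comm hc (mem_centralizer_singleton_iff.1 hn.2))⟩) hb
      obtain ⟨d, hd, hdt⟩ := hnc
      exact hdt ((mem_centralizer_iff.1 (hRD h2.1)) d (mem_sup_left hd))
  by_cases htD : cj t D = D
  · have h1 : ∀ g, cj g D = D := by
      intro g
      rcases key g with e | e
      · exact e
      · exact e.trans htD
    constructor
    intro n hn g
    rw [← h1 g]
    exact conj_mem_cj hn
  · exact (index_of_two hno htD ⟨t, rfl⟩ key).elim

/-- the case of a component `A` of `X` -/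
theorem FX.not_comp (h : FX t A E) (hno : ∀ K : Subgroup X, K.index ≠ 2) (hAn : ¬ A.Normal) (hA : IsComponent A) : False := by
  -- the product of the other conjugates
  set R : Subgroup X := sSup {K | (∃ g, K = cj g A) ∧ K ≠ A} with hR
  have hcA : ∀ c, c * t = t * c → cj c A = A := by
    intro c hc
    apply le_antisymm
    · rintro _ ⟨a, ha, rfl⟩
      exact h.nA c hc a ha
    · intro a ha
      rw [mem_cj]
      have hcI : c⁻¹ * t = t * c⁻¹ := (show Commute c t from hc).inv_left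
      simpa using h.nA c⁻¹ hcI a ha
  have hRc : ∀ c, c * t = t * c → ∀ n ∈ R, c * n * c⁻¹ ∈ R := by
    intro c hc
    have hle' : R ≤ R.comap (MulAut.conj c).toMonoidHom := by
      rw [hR]
      apply sSup_le
      rintro _ ⟨⟨g, rfl⟩, h1⟩
      rw [← map_le_iff_le_comap]
      apply le_sSup
      refine ⟨⟨c * g, (cj_mul c g A).symm⟩, ?_⟩
      intro e
      have hcI : c⁻¹ * t = t * c⁻¹ := (show Commute c t from hc).inv_left
      exact h1 ((cj_inv_cj c (cj g A)).symm.trans ((congrArg (cj c⁻¹) e).trans (hcA c⁻¹ hcI)))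
    intro n hn
    exact mem_comap.1 (hle' hn)
  have hRA : R ≤ centralizer (A : Set X) := by
    rw [hR]
    apply sSup_le
    rintro _ ⟨⟨g, rfl⟩, h1⟩
    exact le_cent_of_ne (Cit.Comp.isComponent_cj hA g) hA h1
  -- a conjugate not centralizing `t`
  obtain ⟨g1, d1, hd1, hd1t⟩ := h.exists_not_comm hAn hA
  have hne1 : cj g1 A ≠ A := by
    intro e
    rw [e] at hd1
    exact hd1t (h.cA d1 hd1)
  have hK1 : cj g1 A ≤ R := le_sSup ⟨⟨g1, rfl⟩, hne1⟩
  have htR : t ∈ R := by
    by_cases hb : R ⊓ centralizer ({t} : Set X) = ⊥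
    · exfalso
      have h2 := inv_of_fpf h.sq (N := R) (hRc t rfl) (fun n hn hc => by
        have : n ∈ R ⊓ centralizer ({t} : Set X) := ⟨hn, mem_centralizer_singleton_iff.2 hc⟩
        rwa [hb, mem_bot] at this)
      have h3 := comm_of_inv h2
      exact quasi_not_comm (Cit.Comp.isComponent_cj hA g1).2 (fun a ha b hb => h3 a (hK1 ha) b (hK1 hb))
    · exact (h.umin (R ⊓ centralizer ({t} : Set X)) (fun n hn => mem_centralizer_singleton_iff.1 hn.2)
        (fun n hn a ha => ((mem_centralizer_iff.1 (hRA hn.1)) a ha).symm)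
        (fun c hc n hn => ⟨hRc c hc n hn.1, mem_centralizer_singleton_iff.2
          (conj_comm hc (mem_centralizer_singleton_iff.1 hn.2))⟩) hb).1
  -- `R = K * R'`
  set K : Subgroup X := cj g1 A with hK
  set R' : Subgroup X := sSup {L | (∃ g, L = cj g A) ∧ L ≠ A ∧ L ≠ K} with hR'
  have hKc : IsComponent K := Cit.Comp.isComponent_cj hA g1
  have hR'K : R' ≤ centralizer (K : Set X) := by
    rw [hR']
    apply sSup_le
    rintro _ ⟨⟨g, rfl⟩, h1, h2⟩
    exact le_cent_of_ne (Cit.Comp.isComponent_cj hA g) hKc h2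
  have hKR' : ∀ a ∈ K, ∀ b ∈ R', a * b = b * a := fun a ha b hb => (mem_centralizer_iff.1 (hR'K hb)) a ha
  have hRle : R ≤ K ⊔ R' := by
    rw [hR]
    apply sSup_le
    rintro _ ⟨⟨g, rfl⟩, h1⟩
    by_cases h2 : cj g A = K
    · rw [h2]; exact le_sup_left
    · have h3 : cj g A ≤ R' := le_sSup ⟨⟨g, rfl⟩, h1, h2⟩
      exact h3.trans le_sup_right
  have hsimpK : ∀ x ∈ K, (∀ y ∈ K, x * y = y * x) → x = 1 := by
    intro x hx hc
    have h1 : g1⁻¹ * x * g1 ∈ A := mem_cj.1 hx
    have h2 : ∀ a ∈ A, g1⁻¹ * x * g1 * a = a * (g1⁻¹ * x * g1) := by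
      intro a ha
      have h3 := hc _ (conj_mem_cj (g := g1) ha)
      calc g1⁻¹ * x * g1 * a = g1⁻¹ * (x * (g1 * a * g1⁻¹)) * g1 := by group
        _ = g1⁻¹ * ((g1 * a * g1⁻¹) * x) * g1 := by rw [h3]
        _ = a * (g1⁻¹ * x * g1) := by group
    have h4 : g1⁻¹ * x * g1 = 1 := by
      have hs := h.simple
      rcases (inferInstance : (center A).Normal).eq_bot_or_eq_top with h5 | h5
      · have h6 : (⟨g1⁻¹ * x * g1, h1⟩ : A) ∈ center A := by
          rw [mem_center_iff]
          intro y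
          exact Subtype.ext (h2 y y.2).symm
        rw [h5, mem_bot] at h6
        exact congrArg Subtype.val h6
      · exfalso
        obtain ⟨a, ha, b, hb, hab⟩ := h.na
        have h6 : (⟨b, hb⟩ : A) ∈ center A := by rw [h5]; trivial
        exact hab (congrArg Subtype.val ((mem_center_iff.1 h6) ⟨a, ha⟩))
    have h5 : x = g1 * (g1⁻¹ * x * g1) * g1⁻¹ := by group
    rw [h5, h4]; group
  have hint : ∀ x ∈ K, x ∈ R' → x = 1 := fun x hx hx' => hsimpK x hx (fun y hy => (hKR' y hy x hx').symm)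
  obtain ⟨k, hk, r, hr, hkr⟩ := Cit.Comp.mem_sup_comm hKR' (hRle htR)
  have hkt : k * t = t * k := by rw [← hkr, mul_assoc, ← hKR' k hk r hr]
  have hk1 : k ≠ 1 := by
    intro e
    rw [e, one_mul] at hkr
    exact hd1t (by rw [← hkr]; exact hKR' d1 hd1 r hr)
  have hk2 : k * k = 1 := by
    apply hint _ (K.mul_mem hk hk)
    have h1 : k * k * (r * r) = 1 := by
      rw [← h.sq, ← hkr]
      calc k * k * (r * r) = k * (k * r) * r := by group
        _ = k * (r * k) * r := by rw [hKR' k hk r hr]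
        _ = k * r * (k * r) := by group
    rw [eq_inv_of_mul_eq_one_left h1]
    exact R'.inv_mem (R'.mul_mem hr hr)
  have hKA : ∀ a ∈ K, ∀ b ∈ A, a * b = b * a := fun a ha b hb => Cit.Comp.comm_of_ne hKc hA hne1 ha hb
  by_cases hkt' : k = t
  · -- no third conjugate
    apply index_of_two hno hne1 ⟨g1, rfl⟩
    intro g
    by_contra hne
    push Not at hne
    apply hne.1
    apply h.eq_of_le (Cit.Comp.isComponent_cj hA g)
    intro d hd
    rw [← hkt']
    exact Cit.Comp.comm_of_ne (Cit.Comp.isComponent_cj hA g) hKc hne.2 hd hk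
  · -- a centralizer
    obtain ⟨x, hx, hxu, hxx⟩ := h.rich (g1⁻¹ * k * g1) (mem_cj.1 hk) (fun e => hk1 (by
        have e2 : k = g1 * (g1⁻¹ * k * g1) * g1⁻¹ := by group
        rw [e2, e]; group)) (by
        have e2 : g1⁻¹ * k * g1 * (g1⁻¹ * k * g1) = g1⁻¹ * (k * k) * g1 := by group
        rw [e2, hk2]; group)
    have hx1 : g1 * x * g1⁻¹ ∈ K := conj_mem_cj hx
    have hx2 : g1 * x * g1⁻¹ * k = k * (g1 * x * g1⁻¹) := by
      calc g1 * x * g1⁻¹ * k = g1 * (x * (g1⁻¹ * k * g1)) * g1⁻¹ := by group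
        _ = g1 * ((g1⁻¹ * k * g1) * x) * g1⁻¹ := by rw [hxu]
        _ = k * (g1 * x * g1⁻¹) := by group
    have hx3 : g1 * x * g1⁻¹ * t = t * (g1 * x * g1⁻¹) := by
      rw [← hkr, ← mul_assoc, hx2, mul_assoc k, hKR' _ hx1 r hr, ← mul_assoc]
    have h3 := h.abel (R ⊓ centralizer ({t} : Set X)) (fun n hn => mem_centralizer_singleton_iff.1 hn.2)
        (fun n hn a ha => ((mem_centralizer_iff.1 (hRA hn.1)) a ha).symm)
        (fun c hc n hn => ⟨hRc c hc n hn.1, mem_centralizer_singleton_iff.2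
          (conj_comm hc (mem_centralizer_singleton_iff.1 hn.2))⟩) k ⟨hK1 hk, mem_centralizer_singleton_iff.2 hkt⟩ hk1 hkt'
        (by
          intro n hn
          have hnt := mem_centralizer_singleton_iff.1 hn.2
          obtain ⟨m, hm, m', hm', e⟩ := Cit.Comp.mem_sup_comm hKR' (hRle hn.1)
          have h4 : (k * m)⁻¹ * (m * k) = (r * m') * (m' * r)⁻¹ := by
            rw [inv_mul_eq_iff_eq_mul, ← mul_assoc, eq_mul_inv_iff_mul_eq]
            calc m * k * (m' * r) = m * (k * m') * r := by group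
              _ = m * (m' * k) * r := by rw [hKR' k hk m' hm']
              _ = n * t := by rw [← hkr, ← e]; group
              _ = t * n := hnt
              _ = k * (r * m) * m' := by rw [← hkr, ← e]; group
              _ = k * (m * r) * m' := by rw [hKR' m hm r hr]
              _ = k * m * (r * m') := by group
          have h5 := hint ((k * m)⁻¹ * (m * k)) (K.mul_mem (K.inv_mem (K.mul_mem hk hm)) (K.mul_mem hm hk)) (by
            rw [h4]
            exact R'.mul_mem (R'.mul_mem hr hm') (R'.inv_mem (R'.mul_mem hm' hr)))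
          rw [inv_mul_eq_one] at h5
          rw [← e, mul_assoc, ← hKR' k hk m' hm', ← mul_assoc, ← h5, mul_assoc])
        (g1 * x * g1⁻¹) ⟨hK1 hx1, mem_centralizer_singleton_iff.2 hx3⟩
    apply hxx
    have e2 : g1 * x * g1⁻¹ * (g1 * x * g1⁻¹) = g1 * (x * x) * g1⁻¹ := by group
    rw [e2, mul_inv_eq_one] at h3
    exact mul_eq_left.1 h3

theorem pLayer_eq (hodd : ∀ N : Subgroup X, N.Normal → Odd (Nat.card N) → N = ⊥) : pLayer 2 X = layer X := by
  apply FixBN.BCoreFree.pLayer_eq_layer (fun N hN => Cfsg.Agent.S0205.result hN)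
  have h1 : oddCore X = ⊥ := hodd _ inferInstance Red.oddCore_odd
  rw [h1, commutator_bot_right]

/-- **The group is almost simple.** -/
theorem FX.exists_simple (h : FX t A E) (hodd : ∀ N : Subgroup X, N.Normal → Odd (Nat.card N) → N = ⊥)
    (hno : ∀ K : Subgroup X, K.index ≠ 2)
    (hOut : ∀ α : MulAut A, ∃ k : ℕ, α ^ 2 ^ k ∈ (MulAut.conj : A →* MulAut A).range) :
    ∃ M : Subgroup X, M.Normal ∧ IsSimpleGroup M ∧ (∃ a ∈ M, ∃ b ∈ M, a * b ≠ b * a) ∧
      centralizer (M : Set X) = ⊥ ∧ A < M := by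
  have hAn := h.not_normal hno hOut
  have ht : orderOf t = 2 := by
    have : Fact (Nat.Prime 2) := ⟨Nat.prime_two⟩
    exact orderOf_eq_prime (by rw [pow_two]; exact h.sq) h.ne
  have h0 : A ≤ centralizer ({t} : Set X) := fun a ha => mem_centralizer_singleton_iff.2 (h.cA a ha)
  obtain ⟨D, hD, hcase⟩ := Cfsg.Agent.S1322.result (pLayer_eq hodd) t ht A h0 h.compA.2
  have fin : ∀ D : Subgroup X, IsComponent D → A ≤ D ⊔ cj t D → (∃ d ∈ D, d * t ≠ t * d) → 
      D.Normal ∧ IsSimpleGroup D ∧ (∃ a ∈ D, ∃ b ∈ D, a * b ≠ b * a) ∧ centralizer (D : Set X) = ⊥ ∧ A ≤ D := by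
    intro D hD hle hnc
    have hDn := h.normal_of_le hno hD hle hnc
    have hcj : cj t D = D := by
      apply le_antisymm
      · rintro _ ⟨a, ha, rfl⟩
        exact hDn.conj_mem a ha t
      · intro a ha
        rw [mem_cj]
        simpa using hDn.conj_mem a ha t⁻¹
    rw [hcj, sup_idem] at hle
    have hc : centralizer (D : Set X) = ⊥ := by
      by_contra hne
      rcases h.star hodd (centralizer (D : Set X)) inferInstance hne with h1 | h1
      · obtain ⟨a, ha, b, hb, hab⟩ := h.na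
        exact hab ((mem_centralizer_iff.1 (h1 ha)) b (hle hb)).symm
      · obtain ⟨d, hd, hdt⟩ := hnc
        exact hdt ((mem_centralizer_iff.1 h1) d hd)
    refine ⟨hDn, ?_, ?_, hc, hle⟩
    · have hq := hD.2.2
      have hz : center D = ⊥ := by
        rw [eq_bot_iff]
        intro x hx
        rw [mem_bot]
        have h1 : (x : X) ∈ centralizer (D : Set X) := by
          rw [mem_centralizer_iff]
          intro y hy
          exact congrArg Subtype.val ((mem_center_iff.1 hx) ⟨y, hy⟩)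
        rw [hc, mem_bot] at h1
        exact Subtype.ext h1
      have e : D ⧸ center D ≃* D := (QuotientGroup.quotientMulEquivOfEq hz).trans QuotientGroup.quotientBot
      have hnt : Nontrivial (D ⧸ center D) := hq.toNontrivial
      have hnt' : Nontrivial D := e.symm.toEquiv.nontrivial
      exact IsSimpleGroup.isSimpleGroup_of_surjective e.toMonoidHom e.surjective
    · by_contra hcon
      push Not at hcon
      exact quasi_not_comm hD.2 hcon
  rcases hcase with h1 | ⟨h1, h2⟩ | ⟨h1, h2⟩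
  · rw [← h1] at hD
    exact (h.not_comp hno hAn hD).elim
  · obtain ⟨f1, f2, f3, f4, f5⟩ := fin D hD (h1.le.trans le_sup_left) (by
      by_contra hcon
      push Not at hcon
      have h3 : ⁅D, zpowers t⁆ = ⊥ := by
        rw [commutator_eq_bot_iff_le_centralizer, le_centralizer_iff, zpowers_le]
        rw [mem_centralizer_iff]
        intro d hd
        exact hcon d hd
      rw [h3] at h2
      rw [h2] at h1
      exact not_lt_bot h1)
    exact ⟨D, f1, f2, f3, f4, h1⟩
  · exfalso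
    have h3 : ∃ d ∈ D, d * t ≠ t * d := by
      by_contra hcon
      push Not at hcon
      apply h1
      apply le_antisymm
      · rintro _ ⟨d, hd, rfl⟩
        have e : (MulAut.conj t).toMonoidHom d = d := by
          show t * d * t⁻¹ = d
          rw [← hcon d hd]; group
        rw [e]; exact hd
      · intro d hd
        refine ⟨d, hd, ?_⟩
        show t * d * t⁻¹ = d
        rw [← hcon d hd]; group
    have h4 : A ≤ D ⊔ cj t D := by
      rw [h2]
      rintro _ ⟨x, hx, rfl⟩
      exact x.2.1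
    obtain ⟨f1, f2, f3, f4, f5⟩ := fin D hD h4 h3
    apply h1
    apply le_antisymm
    · rintro _ ⟨a, ha, rfl⟩
      exact f1.conj_mem a ha t
    · intro a ha
      refine ⟨t⁻¹ * a * t, by simpa using f1.conj_mem a ha t⁻¹, ?_⟩
      show t * (t⁻¹ * a * t) * t⁻¹ = a
      group

end main

end Cfsg.Agent.H313.AltRed
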