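import Mathlib
import Cfsg.Agent.H313.AltRed
import Cfsg.Agent.StdAlt.Six.AutLemmas

/-!
# Transport of the frame of the centralizer (helper313)
-/

set_option autoImplicit false
set_option linter.unusedSectionVars false

namespace Cfsg.Agent.H313.AltTrans

open Subgroup Cfsg
open Cfsg.Agent.H313.Alt (Fr)
open Cfsg.Agent.H313.AltRed

section map

variable {C C' : Type*} [Group C] [Group C'] {z : C} {A S E : Subgroup C}

theorem mem_map_iff (e : C ≃* C') (K : Subgroup C) (x : C') : x ∈ K.map e.toMonoidHom ↔ e.symm x ∈ K := by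
  constructor
  · rintro ⟨k, hk, rfl⟩; simpa using hk
  · intro h; exact ⟨e.symm x, h, by simp⟩

theorem Fr.map (h : Fr C z A S E) (e : C ≃* C') :
    Fr C' (e z) (A.map e.toMonoidHom) (S.map e.toMonoidHom) (E.map e.toMonoidHom) := by
  have mm : ∀ (K : Subgroup C') (x : C), x ∈ K.map e.symm.toMonoidHom ↔ e x ∈ K := fun K x => by
    rw [mem_map_iff, MulEquiv.symm_symm]
  have hle : ∀ N : Subgroup C', N ≤ S.map e.toMonoidHom → N.map e.symm.toMonoidHom ≤ S := by
    intro N hN x hx
    have := hN ((mm N x).1 hx)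
    rw [mem_map_iff] at this
    simpa using this
  exact
  { ne := fun e1 => h.ne (by simpa using e1)
    sq := by rw [← map_mul, h.sq, map_one]
    cen := fun x => by
      obtain ⟨y, rfl⟩ := e.surjective x
      rw [← map_mul, ← map_mul, h.cen]
    memS := mem_map_of_mem _ h.memS
    An := h.An.map _ e.surjective
    simple := by
      have := h.simple
      exact ((A.equivMapOfInjective e.toMonoidHom e.injective).symm).isSimpleGroup
    na := by
      obtain ⟨a, ha, b, hb, hab⟩ := h.na
      exact ⟨e a, mem_map_of_mem _ ha, e b, mem_map_of_mem _ hb, fun e1 => hab (e.injective (by simpa using e1))⟩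
    cenA := by
      intro x
      rw [mem_map_iff, h.cenA]
      constructor
      · rintro h1 _ ⟨a, ha, rfl⟩
        have := congrArg e (h1 a ha)
        simpa using this
      · intro h1 a ha
        have := congrArg e.symm (h1 (e a) (mem_map_of_mem _ ha))
        simpa using this
    umin := by
      intro N hN hNS hN1
      have h1 := h.umin (N.map e.symm.toMonoidHom) (hN.map _ e.symm.surjective) (hle N hNS) (by
        rw [Ne, Subgroup.map_eq_bot_iff]
        intro h2
        apply hN1
        rw [eq_bot_iff]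
        refine h2.trans ?_
        intro x hx
        rw [MonoidHom.mem_ker] at hx
        rw [mem_bot]
        exact e.symm.injective (by simpa using hx))
      exact (mm N z).1 h1
    abel := by
      intro N hN hNS y hy hy1 hyz hc n hn
      have h1 := h.abel (N.map e.symm.toMonoidHom) (hN.map _ e.symm.surjective) (hle N hNS) (e.symm y)
        (mem_map_of_mem _ hy) (fun e1 => hy1 (by simpa using e1)) (fun e1 => hyz (by rw [← e1]; simp)) (by
          rintro _ ⟨m, hm, rfl⟩
          have := congrArg e.symm (hc m hm)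
          simpa using this) (e.symm n) (mem_map_of_mem _ hn)
      have := congrArg e h1
      simpa using this
    En := h.En.map _ e.surjective
    ES := map_mono h.ES
    Esq := by
      rintro _ ⟨x, hx, rfl⟩
      have := congrArg e (h.Esq x hx)
      simpa using this
    self := by
      intro x hx hc
      rw [mem_map_iff] at hx ⊢
      apply h.self _ hx
      intro y hy
      have := congrArg e.symm (hc (e y) (mem_map_of_mem _ hy))
      simpa using this
    odd := by
      obtain ⟨c, hc, hcA⟩ := h.odd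
      refine ⟨e c, by rw [← map_mul, hc, map_one], ?_⟩
      rintro _ ⟨a, ha, rfl⟩ h1
      rw [mem_map_iff] at h1
      exact hcA a ha (by simpa using h1)
    cm := by
      obtain ⟨a, b, ha, hb, h1, h2⟩ := h.cm
      refine ⟨e a, e b, by rw [← map_mul, ha, map_one], by rw [← map_mul, hb, map_one], ?_, ?_⟩
      · rw [mem_map_iff]; simpa using h1
      · intro h3
        apply h2
        apply e.injective
        simpa using h3
    rich := by
      rintro _ ⟨u, hu, rfl⟩ hu1 hu2
      obtain ⟨x, hx, hxu, hxx⟩ := h.rich u hu (fun e1 => hu1 (by rw [e1]; exact map_one e))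
        (e.injective (by simpa using hu2))
      refine ⟨e x, mem_map_of_mem _ hx, ?_, ?_⟩
      · have := congrArg e hxu
        simpa using this
      · intro e1
        exact hxx (e.injective (by simpa using e1)) }

/-- the central involution -/
theorem Fr.eq_z (h : Fr C z A S E) {w : C} (hw : w * w = 1) (hw1 : w ≠ 1) (hc : ∀ x, x * w = w * x) : w = z := by
  have h1 : ∀ x ∈ zpowers w, x = 1 ∨ x = w := by
    rintro _ ⟨k, rfl⟩
    rcases Int.even_or_odd' k with ⟨m, rfl | rfl⟩
    · left
      show w ^ (2 * m) = 1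
      rw [zpow_mul, zpow_two, hw, one_zpow]
    · right
      show w ^ (2 * m + 1) = w
      rw [zpow_add, zpow_mul, zpow_two, hw, one_zpow, one_mul, zpow_one]
  have h2 := h.umin (zpowers w) ⟨fun n hn g => by
      rcases h1 n hn with e | e
      · rw [e]; simp
      · rw [e, hc g, mul_inv_cancel_right]; exact mem_zpowers w⟩ (by
        rw [zpowers_le, h.cenA]
        intro a _
        exact (hc a).symm) (fun e => hw1 (by
          have := mem_zpowers w
          rwa [e, mem_bot] at this))
  rcases h1 z h2 with e | e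
  · exact absurd e h.ne
  · exact e.symm

/-- no normal subgroup of odd order -/
theorem Fr.odd_bot [Finite C] (h : Fr C z A S E) (N : Subgroup C) (hN : N.Normal) (ho : Odd (Nat.card N)) : N = ⊥ := by
  by_contra hne
  rcases simple_dichotomy h.simple (N := N) (fun a _ n hn => hN.conj_mem n hn a) with h1 | h1
  · have h2 : Odd (Nat.card A) := Odd.of_dvd_nat ho (card_dvd_of_le h1)
    have h3 : Group.IsSolvable A := Cfsg.Agent.S0205.result h2
    have h4 : IsQuasisimple A := by
      have := h.simple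
      apply CTwoTab.isQuasisimple_of_simple
      rintro ⟨⟨hc⟩⟩
      obtain ⟨a, ha, b, hb, hab⟩ := h.na
      exact hab (congrArg Subtype.val (hc ⟨a, ha⟩ ⟨b, hb⟩))
    exact SignalizersComponents.Components.quasisimple_not_isSolvable h4 h3
  · have h2 : z ∈ N := h.umin N hN (by
      intro n hn
      rw [h.cenA]
      intro a ha
      have h3 : n * a * n⁻¹ * a⁻¹ ∈ A := A.mul_mem (h.An.conj_mem a ha n) (A.inv_mem ha)
      have h4 : n * a * n⁻¹ * a⁻¹ ∈ N := by
        have e : n * a * n⁻¹ * a⁻¹ = n * (a * n⁻¹ * a⁻¹) := by group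
        rw [e]
        exact N.mul_mem hn (hN.conj_mem _ (N.inv_mem hn) a)
      have h5 := h1 _ h3 h4
      rw [mul_inv_eq_one] at h5
      exact mul_inv_eq_iff_eq_mul.1 h5) hne
    have h5 : orderOf (⟨z, h2⟩ : N) ∣ Nat.card N := orderOf_dvd_natCard _
    have h6 : orderOf (⟨z, h2⟩ : N) = 2 := by
      have : Fact (Nat.Prime 2) := ⟨Nat.prime_two⟩
      apply orderOf_eq_prime
      · apply Subtype.ext; simpa [pow_two] using h.sq
      · intro e; exact h.ne (congrArg Subtype.val e)
    rw [h6] at h5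
    exact (Nat.not_even_iff_odd.mpr ho) (even_iff_two_dvd.mpr h5)

end map

section cent

variable {X : Type*} [Group X] {t : X} {z : ↥(centralizer ({t} : Set X))} {A S E : Subgroup ↥(centralizer ({t} : Set X))}

theorem FX.of_fr (h : Fr ↥(centralizer ({t} : Set X)) z A S E) (hz : (z : X) = t) :
    FX t (A.map (centralizer ({t} : Set X)).subtype) (E.map (centralizer ({t} : Set X)).subtype) := by
  have mc : ∀ {x : X}, x * t = t * x → x ∈ centralizer ({t} : Set X) := fun hx => mem_centralizer_singleton_iff.2 hx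
  have cm : ∀ x : ↥(centralizer ({t} : Set X)), (x : X) * t = t * x := fun x => mem_centralizer_singleton_iff.1 x.2
  -- subgroups of `C`
  have sub : ∀ N : Subgroup X, (∀ n ∈ N, n * t = t * n) → (∀ n ∈ N, ∀ a ∈ A.map (centralizer ({t} : Set X)).subtype, n * a = a * n) →
    (∀ c, c * t = t * c → ∀ n ∈ N, c * n * c⁻¹ ∈ N) → (N.subgroupOf (centralizer ({t} : Set X))).Normal ∧
      N.subgroupOf (centralizer ({t} : Set X)) ≤ S := by
    intro N h1 h2 h3
    refine ⟨⟨fun n hn g => mem_subgroupOf.2 ?_⟩, fun n hn => ?_⟩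
    · exact h3 g (cm g) n (mem_subgroupOf.1 hn)
    · rw [h.cenA]
      intro a ha
      exact Subtype.ext (h2 n (mem_subgroupOf.1 hn) a (mem_map_of_mem _ ha))
  exact
  { ne := fun e => h.ne (Subtype.ext (hz.trans e))
    sq := by
      have := congrArg Subtype.val h.sq
      simpa [hz] using this
    cA := by rintro _ ⟨a, ha, rfl⟩; exact cm a
    nA := by
      rintro c hc _ ⟨a, ha, rfl⟩
      exact ⟨⟨c, mc hc⟩ * a * ⟨c, mc hc⟩⁻¹, h.An.conj_mem a ha _, rfl⟩
    simple := by
      have := h.simple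
      exact ((A.equivMapOfInjective _ (subtype_injective _)).symm).isSimpleGroup
    na := by
      obtain ⟨a, ha, b, hb, hab⟩ := h.na
      exact ⟨a, mem_map_of_mem _ ha, b, mem_map_of_mem _ hb, fun e1 => hab (Subtype.ext e1)⟩
    umin := by
      intro N h1 h2 h3 hN
      obtain ⟨h4, h5⟩ := sub N h1 h2 h3
      have h6 := h.umin _ h4 h5 (by
        intro e
        apply hN
        rw [eq_bot_iff]
        intro n hn
        have : (⟨n, mc (h1 n hn)⟩ : ↥(centralizer ({t} : Set X))) ∈ N.subgroupOf (centralizer ({t} : Set X)) := mem_subgroupOf.2 hn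
        rw [e, mem_bot] at this
        exact mem_bot.2 (congrArg Subtype.val this))
      rw [← hz]; exact mem_subgroupOf.1 h6
    abel := by
      intro N h1 h2 h3 y hy hy1 hyt hc n hn
      obtain ⟨h4, h5⟩ := sub N h1 h2 h3
      have h6 := h.abel _ h4 h5 ⟨y, mc (h1 y hy)⟩ (mem_subgroupOf.2 hy) (fun e => hy1 (congrArg Subtype.val e))
        (fun e => hyt (by rw [← hz, ← e])) (fun m hm => Subtype.ext (hc m (mem_subgroupOf.1 hm)))
        ⟨n, mc (h1 n hn)⟩ (mem_subgroupOf.2 hn)
      exact congrArg Subtype.val h6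
    Et := by rintro _ ⟨a, ha, rfl⟩; exact cm a
    EA := by
      rintro _ ⟨e, he, rfl⟩ _ ⟨a, ha, rfl⟩
      exact congrArg Subtype.val ((h.cenA e).1 (h.ES he) a ha)
    nE := by
      rintro c hc _ ⟨a, ha, rfl⟩
      exact ⟨⟨c, mc hc⟩ * a * ⟨c, mc hc⟩⁻¹, h.En.conj_mem a ha _, rfl⟩
    Esq := by
      rintro _ ⟨e, he, rfl⟩
      exact congrArg Subtype.val (h.Esq e he)
    self := by
      intro x hx h1 h2
      refine ⟨⟨x, mc hx⟩, ?_, rfl⟩
      apply h.self
      · rw [h.cenA]
        intro a ha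
        exact Subtype.ext (h1 a (mem_map_of_mem _ ha))
      · intro e he
        exact Subtype.ext (h2 e (mem_map_of_mem _ he))
    odd := by
      obtain ⟨c, hc, hcA⟩ := h.odd
      refine ⟨c, cm c, congrArg Subtype.val hc, ?_⟩
      rintro _ ⟨a, ha, rfl⟩ h1
      apply hcA a ha
      rw [h.cenA]
      intro b hb
      exact Subtype.ext (h1 b (mem_map_of_mem _ hb))
    cm := by
      obtain ⟨a, b, ha, hb, h1, h2⟩ := h.cm
      refine ⟨a, b, cm a, cm b, congrArg Subtype.val ha, congrArg Subtype.val hb, ?_, fun e => h2 (Subtype.ext e)⟩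
      rintro _ ⟨x, hx, rfl⟩
      exact congrArg Subtype.val ((h.cenA _).1 h1 x hx)
    rich := by
      rintro _ ⟨u, hu, rfl⟩ hu1 hu2
      obtain ⟨x, hx, hxu, hxx⟩ := h.rich u hu (fun e => hu1 (by rw [e]; rfl)) (Subtype.ext hu2)
      exact ⟨x, mem_map_of_mem _ hx, congrArg Subtype.val hxu, fun e => hxx (Subtype.ext e)⟩ }

end cent

section quot

variable {G : Type*} [Group G] [Finite G] {z : G}

/-- The centralizer in the quotient by a normal subgroup of odd order on which `z` has no fixed points. -/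
theorem cent_quot (M : Subgroup G) [M.Normal] (hM : Odd (Nat.card M)) (hz : z * z = 1)
    (hfree : ∀ m ∈ M, m * z = z * m → m = 1) :
    ∃ f : ↥(centralizer ({z} : Set G)) ≃* ↥(centralizer ({(QuotientGroup.mk' M z)} : Set (G ⧸ M))),
      ∀ x, ((f x : ↥(centralizer ({(QuotientGroup.mk' M z)} : Set (G ⧸ M)))) : G ⧸ M) = QuotientGroup.mk' M x := by
  have : Fact (Nat.Prime 2) := ⟨Nat.prime_two⟩
  let f : ↥(centralizer ({z} : Set G)) →* ↥(centralizer ({(QuotientGroup.mk' M z)} : Set (G ⧸ M))) :=
    ((QuotientGroup.mk' M).comp (centralizer ({z} : Set G)).subtype).codRestrict _ (fun x => by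
      rw [mem_centralizer_singleton_iff, MonoidHom.comp_apply, ← map_mul, ← map_mul]
      congr 1
      exact mem_centralizer_singleton_iff.mp x.2)
  have hf : ∀ x, ((f x : ↥(centralizer ({(QuotientGroup.mk' M z)} : Set (G ⧸ M)))) : G ⧸ M) = QuotientGroup.mk' M x := fun _ => rfl
  have hsurj : Function.Surjective f := by
    intro y
    have h1 := PLocal.CoprimeLift.map_centralizer_mk (p := 2) M (zpowers z) (Nat.coprime_two_right.mpr hM)
      (Red.isPGroup_zpowers hz)
    have h2 : (y : G ⧸ M) ∈ centralizer ((zpowers z).map (QuotientGroup.mk' M) : Set (G ⧸ M)) := by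
      rw [MonoidHom.map_zpowers]
      rw [mem_centralizer_iff]
      rintro _ ⟨k, rfl⟩
      have h3 := mem_centralizer_singleton_iff.mp y.2
      exact (Commute.zpow_left (show Commute (QuotientGroup.mk' M z) (y : G ⧸ M) from h3.symm) k)
    rw [← h1] at h2
    obtain ⟨x, hx, e1⟩ := h2
    refine ⟨⟨x, ?_⟩, Subtype.ext e1⟩
    exact mem_centralizer_singleton_iff.mpr (((mem_centralizer_iff.mp hx) z (mem_zpowers z)).symm)
  have hinj : Function.Injective f := by
    rw [injective_iff_map_eq_one]
    intro a ha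
    have h1 := congrArg Subtype.val ha
    rw [hf] at h1
    exact Subtype.ext (hfree a ((QuotientGroup.eq_one_iff _).mp h1) (mem_centralizer_singleton_iff.1 a.2))
  exact ⟨MulEquiv.ofBijective f ⟨hinj, hsurj⟩, fun x => rfl⟩

end quot

section out

open Equiv Equiv.Perm

theorem sq_range {n : ℕ} {α : MulAut (alternatingGroup (Fin n))} (h : ∃ σ : Perm (Fin n),
    ∀ x : alternatingGroup (Fin n), (α x : Perm (Fin n)) = σ * x * σ⁻¹) :
    α * α ∈ (MulAut.conj : alternatingGroup (Fin n) →* MulAut (alternatingGroup (Fin n))).range := by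
  obtain ⟨σ, hσ⟩ := h
  have hs : σ * σ ∈ alternatingGroup (Fin n) := by
    rw [Perm.mem_alternatingGroup, map_mul]
    rcases Int.units_eq_one_or (Perm.sign σ) with h | h <;> rw [h] <;> decide
  refine ⟨⟨σ * σ, hs⟩, ?_⟩
  apply MulEquiv.ext
  intro x
  apply Subtype.ext
  rw [MulAut.mul_apply, hσ, hσ, MulAut.conj_apply]
  push_cast
  group

/-- `Out(A_n)` is a 2-group. -/
theorem out_alt {n : ℕ} (hn : 6 ≤ n) (α : MulAut (alternatingGroup (Fin n))) :
    ∃ k : ℕ, α ^ 2 ^ k ∈ (MulAut.conj : alternatingGroup (Fin n) →* MulAut (alternatingGroup (Fin n))).range := by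
  rcases Nat.lt_or_ge n 7 with h7 | h7
  · obtain rfl : n = 6 := by omega
    refine ⟨2, ?_⟩
    have h1 : StdAlt.Six.NS (α * α) := by
      by_cases h : StdAlt.Six.NS α
      · exact h.mul h
      · exact StdAlt.Six.NS.mul_of_not h h
    have h2 := sq_range h1
    have e : α ^ 2 ^ 2 = α * α * (α * α) := by
      rw [show (2 ^ 2 : ℕ) = 2 + 2 by norm_num, pow_add, pow_two]
    rw [e]; exact h2
  · obtain ⟨m, rfl⟩ := Nat.exists_eq_add_of_le' (show 2 ≤ n by omega)
    refine ⟨1, ?_⟩
    have h2 := sq_range (Cfsg.Agent.StandardComponent.AltAut.exists_conj (by omega) α)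
    rw [pow_one, pow_two]; exact h2

theorem out_equiv {A B : Type*} [Group A] [Group B] (e : A ≃* B)
    (h : ∀ α : MulAut B, ∃ k : ℕ, α ^ 2 ^ k ∈ (MulAut.conj : B →* MulAut B).range) (α : MulAut A) :
    ∃ k : ℕ, α ^ 2 ^ k ∈ (MulAut.conj : A →* MulAut A).range := by
  obtain ⟨k, b, hb⟩ := h (MulAut.congr e α)
  refine ⟨k, e.symm b, ?_⟩
  rw [← map_pow] at hb
  have h1 : MulAut.congr e (MulAut.conj (e.symm b)) = MulAut.conj b := by
    apply MulEquiv.ext
    intro x
    simp [MulAut.congr, MulAut.conj_apply]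
  rw [← h1] at hb
  exact (MulAut.congr e).injective hb

end out

section cc

open Equiv Equiv.Perm Cfsg.Agent.H313.Alt

variable {Ω : Type*} [DecidableEq Ω] [Fintype Ω]

/-- the centralizer in the alternating group -/
def centEquiv (zt : ↥(alternatingGroup Ω)) :
    ↥(centralizer ({zt} : Set ↥(alternatingGroup Ω))) ≃* ↥(CC (zt : Perm Ω)) where
  toFun x := ⟨((x : ↥(alternatingGroup Ω)) : Perm Ω), mem_CC.2
    ⟨congrArg Subtype.val (mem_centralizer_singleton_iff.1 x.2), mem_alternatingGroup.1 (x : ↥(alternatingGroup Ω)).2⟩⟩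
  invFun x := ⟨⟨(x : Perm Ω), mem_alternatingGroup.2 (mem_CC.1 x.2).2⟩,
    mem_centralizer_singleton_iff.2 (Subtype.ext (mem_CC.1 x.2).1)⟩
  left_inv _ := rfl
  right_inv _ := rfl
  map_mul' _ _ := rfl

/-- `Out` of the alternating group of the fixed points -/
theorem out_AA {s : Perm Ω} (hF : 6 ≤ Fintype.card {x // s x = x}) (α : MulAut ↥(AA s)) :
    ∃ k : ℕ, α ^ 2 ^ k ∈ (MulAut.conj : ↥(AA s) →* MulAut ↥(AA s)).range := by
  have e := (altEquiv s).symm.trans (Equiv.altCongrHom (Fintype.equivFin {x // s x = x}))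
  exact out_equiv e (out_alt hF) α

end cc

section main

open Equiv Equiv.Perm Cfsg.Agent.H313.Alt

/-- **The reduction.** -/
theorem setup {Ω : Type*} [DecidableEq Ω] [Fintype Ω] {s : Perm Ω} (hs : s * s = 1) (hsC : s ∈ CC s) (h1 : s ≠ 1)
    (hD : 4 ∣ s.support.card) (hF : 6 ≤ Fintype.card {x // s x = x})
    {G : Type*} [Group G] [Finite G] (hG : ∀ H : Subgroup G, H.index ≠ 2) {z : G} (hz : orderOf z = 2)
    (e : ↥(centralizer ({z} : Set G)) ≃* ↥(CC s)) :
    ∃ (f : ↥(CC s) ≃* ↥(centralizer ({(QuotientGroup.mk' (pPrimeCore 2 G) z)} : Set (G ⧸ pPrimeCore 2 G))))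
      (E : Subgroup (G ⧸ pPrimeCore 2 G)),
      ((f ⟨s, hsC⟩ : ↥(centralizer ({(QuotientGroup.mk' (pPrimeCore 2 G) z)} : Set (G ⧸ pPrimeCore 2 G)))) :
        G ⧸ pPrimeCore 2 G) = QuotientGroup.mk' (pPrimeCore 2 G) z ∧
      FX (QuotientGroup.mk' (pPrimeCore 2 G) z)
        (((AA s).map f.toMonoidHom).map
          (centralizer ({(QuotientGroup.mk' (pPrimeCore 2 G) z)} : Set (G ⧸ pPrimeCore 2 G))).subtype) E ∧
      (∀ m ∈ pPrimeCore 2 G, m * z = z * m → m = 1) ∧
      ∃ M : Subgroup (G ⧸ pPrimeCore 2 G), M.Normal ∧ IsSimpleGroup M ∧ (∃ a ∈ M, ∃ b ∈ M, a * b ≠ b * a) ∧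
        centralizer (M : Set (G ⧸ pPrimeCore 2 G)) = ⊥ ∧
        (((AA s).map f.toMonoidHom).map
          (centralizer ({(QuotientGroup.mk' (pPrimeCore 2 G) z)} : Set (G ⧸ pPrimeCore 2 G))).subtype) < M := by
  obtain ⟨E0, hE⟩ := fr hs hsC h1 hD hF
  have hC : Finite ↥(CC s) := inferInstance
  have hz2 : z * z = 1 := by rw [← pow_two, ← hz, pow_orderOf_eq_one]
  have hz1 : z ≠ 1 := by intro e1; rw [e1, orderOf_one] at hz; omega
  -- `z` corresponds to `s`
  have hes : e ⟨z, mem_centralizer_singleton_iff.2 rfl⟩ = ⟨s, hsC⟩ := by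
    apply Fr.eq_z hE
    · rw [← map_mul, ← map_one e]; congr 1; exact Subtype.ext hz2
    · intro e1
      rw [EmbeddingLike.map_eq_one_iff] at e1
      exact hz1 (congrArg Subtype.val e1)
    · intro x
      obtain ⟨y, rfl⟩ := e.surjective x
      rw [← map_mul, ← map_mul]
      congr 1
      exact Subtype.ext (mem_centralizer_singleton_iff.mp y.2)
  have hfree : ∀ m ∈ pPrimeCore 2 G, m * z = z * m → m = 1 := by
    intro m hm hmz
    have h2 : ((pPrimeCore 2 G).subgroupOf (centralizer ({z} : Set G))).map e.toMonoidHom = ⊥ := by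
      apply Fr.odd_bot hE
      · exact (inferInstance : ((pPrimeCore 2 G).subgroupOf (centralizer ({z} : Set G))).Normal).map _ e.surjective
      · have h3 : Nat.card ↥(((pPrimeCore 2 G).subgroupOf (centralizer ({z} : Set G))).map e.toMonoidHom) =
            Nat.card ↥((pPrimeCore 2 G).subgroupOf (centralizer ({z} : Set G))) :=
          Nat.card_congr (Subgroup.equivMapOfInjective _ e.toMonoidHom e.injective).symm.toEquiv
        rw [h3]
        refine Odd.of_dvd_nat (Red.oddCore_odd (G := G)) ?_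
        exact card_dvd_of_injective (((centralizer ({z} : Set G)).subtype.comp
          ((pPrimeCore 2 G).subgroupOf (centralizer ({z} : Set G))).subtype).codRestrict (pPrimeCore 2 G)
            (fun x => mem_subgroupOf.1 x.2)) (by
          intro a b hab
          have := congrArg Subtype.val hab
          exact Subtype.ext (Subtype.ext this))
    rw [Subgroup.map_eq_bot_iff] at h2
    have h3 : (⟨m, mem_centralizer_singleton_iff.2 hmz⟩ : ↥(centralizer ({z} : Set G))) ∈ e.toMonoidHom.ker :=
      h2 (mem_subgroupOf.2 hm)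
    have h4 : e (⟨m, mem_centralizer_singleton_iff.2 hmz⟩ : ↥(centralizer ({z} : Set G))) = 1 := h3
    rw [EmbeddingLike.map_eq_one_iff] at h4
    exact congrArg Subtype.val h4
  obtain ⟨g, hg⟩ := cent_quot (pPrimeCore 2 G) Red.oddCore_odd hz2 hfree
  have hfs : (((e.symm.trans g) ⟨s, hsC⟩ : ↥(centralizer ({(QuotientGroup.mk' (pPrimeCore 2 G) z)} : Set (G ⧸ pPrimeCore 2 G)))) :
        G ⧸ pPrimeCore 2 G) = QuotientGroup.mk' (pPrimeCore 2 G) z := by
    rw [MulEquiv.trans_apply, ← hes, MulEquiv.symm_apply_apply, hg]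
  have hFX := FX.of_fr (Fr.map hE (e.symm.trans g)) hfs
  refine ⟨e.symm.trans g, _, hfs, hFX, hfree, ?_⟩
  refine hFX.exists_simple (fun N hN ho => Red.quot_no_odd N hN ho) (Red.quot_no_two _ hG) ?_
  exact out_equiv ((((AA s).equivMapOfInjective _ (e.symm.trans g).injective).trans
    (Subgroup.equivMapOfInjective _ _ (subtype_injective _))).symm) (out_AA hF)

end main

end Cfsg.Agent.H313.AltTrans
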