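import Mathlib
import Cfsg.Agent.H313.AltTrans

/-!
# Orders of the centralizers of involutions in alternating groups (helper313)
-/

set_option autoImplicit false
set_option linter.unusedSectionVars false

namespace Cfsg.Agent.H313.AltCard

open Subgroup Equiv Equiv.Perm
open Cfsg.Agent.H313.Alt

variable {Ω : Type*} [DecidableEq Ω] [Fintype Ω] {s : Perm Ω}

theorem card_cent (hs : s * s = 1) : ∃ c : ℕ, s.support.card = 2 * c ∧
    Nat.card (centralizer ({s} : Set (Perm Ω))) = (Fintype.card Ω - 2 * c).factorial * 2 ^ c * c.factorial := by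
  have : Fact (Nat.Prime 2) := ⟨Nat.prime_two⟩
  have h1 : s ^ 2 = 1 := by rw [pow_two]; exact hs
  have h2 := cycleType_of_pow_prime_eq_one h1
  set c := Multiset.card s.cycleType with hc
  have h3 : s.support.card = 2 * c := by
    rw [← sum_cycleType, h2, Multiset.sum_replicate, smul_eq_mul, mul_comm]
  refine ⟨c, h3, ?_⟩
  have h4 := nat_card_centralizer (g := s)
  rw [sum_cycleType, h3, h2, Multiset.prod_replicate] at h4
  rw [h4]
  congr 1
  rcases Nat.eq_zero_or_pos c with h0 | h0
  · rw [h0]; simp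
  · rw [Multiset.toFinset_replicate, if_neg (by omega), Finset.prod_singleton, Multiset.count_replicate_self]

theorem card_CC (hs : s * s = 1) {f g : Ω} (hf : s f = f) (hg : s g = g) (hfg : f ≠ g) : ∃ c : ℕ,
    s.support.card = 2 * c ∧ 2 * Nat.card (CC s) = (Fintype.card Ω - 2 * c).factorial * 2 ^ c * c.factorial := by
  obtain ⟨c, h1, h2⟩ := card_cent hs
  refine ⟨c, h1, ?_⟩
  rw [← h2]
  have h3 : swap f g ∈ centralizer ({s} : Set (Perm Ω)) := mem_centralizer_singleton_iff.2 (sw_comm hf hg)
  have h4 : (CC s).relIndex (centralizer ({s} : Set (Perm Ω))) = 2 := by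
    have h5 : ((alternatingGroup Ω).subgroupOf (centralizer ({s} : Set (Perm Ω)))).index = 2 := by
      rw [index_eq_two_iff]
      refine ⟨⟨swap f g, h3⟩, fun b => ?_⟩
      rw [mem_subgroupOf, mem_subgroupOf, mem_alternatingGroup, mem_alternatingGroup, Subgroup.coe_mul, Perm.sign_mul,
        sign_swap hfg]
      rcases Int.units_eq_one_or (Perm.sign (b : Perm Ω)) with h | h <;> rw [h] <;> decide
    rw [← h5, relIndex]
    congr 1
    ext x
    rw [mem_subgroupOf, mem_subgroupOf, CC, mem_inf]
    exact ⟨fun h => h.2, fun h => ⟨x.2, h⟩⟩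
  have h6 : CC s ≤ centralizer ({s} : Set (Perm Ω)) := inf_le_left
  rw [← h4, mul_comm, ← Nat.card_congr (subgroupOfEquivOfLe h6).toEquiv]
  exact card_mul_index _

theorem fac_lt {a b : ℕ} (h : a < b) : 2 ^ a * a.factorial < 2 ^ b * b.factorial :=
  Nat.mul_lt_mul_of_lt_of_le (Nat.pow_lt_pow_right (by norm_num) h) (Nat.factorial_le h.le) (Nat.factorial_pos _)

/-- the number of fixed points -/
theorem card_fix (s : Perm Ω) : Fintype.card {x // s x = x} = Fintype.card Ω - s.support.card := by
  rw [← sum_cycleType, ← card_fixedPoints]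
  exact Fintype.card_congr (Equiv.refl _)

theorem card_CC' (hs : s * s = 1) (h2 : 2 ≤ Fintype.card {x // s x = x}) :
    ∃ c : ℕ, s.support.card = 2 * c ∧ 2 * Nat.card (CC s) = (Fintype.card {x // s x = x}).factorial * (2 ^ c * c.factorial) := by
  obtain ⟨⟨f, hf⟩, ⟨g, hg⟩, hfg⟩ := Fintype.one_lt_card_iff.1 (show 1 < Fintype.card {x // s x = x} by omega)
  obtain ⟨c, h3, h4⟩ := card_CC hs hf hg (fun e => hfg (Subtype.ext e))
  exact ⟨c, h3, by rw [h4, card_fix, h3, mul_assoc]⟩

/-- The order of the centralizer determines the number of moved points. -/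
theorem card_inj {Ω' : Type*} [DecidableEq Ω'] [Fintype Ω'] {s' : Perm Ω'} (hs : s * s = 1) (hs' : s' * s' = 1)
    (h2 : 2 ≤ Fintype.card {x // s x = x}) (hf : Fintype.card {x // s x = x} = Fintype.card {x // s' x = x})
    (hc : Nat.card (CC s) = Nat.card (CC s')) : Fintype.card Ω = Fintype.card Ω' := by
  obtain ⟨c, h3, h4⟩ := card_CC' hs h2
  obtain ⟨c', h3', h4'⟩ := card_CC' hs' (by omega)
  rw [← hc, h4, hf] at h4'
  have h5 := Nat.eq_of_mul_eq_mul_left (Nat.factorial_pos _) h4'
  have h6 : c = c' := by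
    rcases Nat.lt_trichotomy c c' with h | h | h
    · exact absurd h5 (fac_lt h).ne
    · exact h
    · exact absurd h5 (fac_lt h).ne'
  have h7 := card_fix s
  have h8 := card_fix s'
  have h9 := Finset.card_le_univ s.support
  have h10 := Finset.card_le_univ s'.support
  rw [← hf] at h8
  omega

end Cfsg.Agent.H313.AltCard
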