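import Mathlib
import Cfsg.Agent.H313.AltTrans
import Cfsg.Agent.H283.OddSpor
import Cfsg.Agent.H284.SepOrd
import Cfsg.Agent.OrdDiv.Table

/-!
# No alternating components of degree 7 or at least 9 in the groups of Lie type of odd characteristic (helper313)
-/

set_option autoImplicit false
set_option linter.unusedSectionVars false

namespace Cfsg.Agent.H313.AltNo

open Cfsg Subgroup Cfsg.Agent.H283.DescComp Cfsg.Agent.H283.OddComp
open Cfsg.Agent.OddHalf.Known (IsLie)

universe u v

theorem oi_alt {n : ℕ} (hn : 6 ≤ n) {K : Type*} [Group K] [Finite K] (e : K ≃* ↥(alternatingGroup (Fin n))) :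
    H256.OddInner.OI K := by
  intro α hα
  obtain ⟨k, hk⟩ := AltTrans.out_equiv e (AltTrans.out_alt hn) α
  have hn : ((MulAut.conj : K →* MulAut K).range).Normal := by
    constructor
    rintro _ ⟨a, rfl⟩ g
    refine ⟨g a, ?_⟩
    ext x
    simp [MulAut.mul_apply, map_mul]
  have h1 : (QuotientGroup.mk' ((MulAut.conj : K →* MulAut K).range) α) ^ 2 ^ k = 1 := by
    rw [← map_pow, QuotientGroup.mk'_apply, QuotientGroup.eq_one_iff]
    exact hk
  have h2 : orderOf (QuotientGroup.mk' ((MulAut.conj : K →* MulAut K).range) α) ∣ 2 ^ k := orderOf_dvd_of_pow_eq_one h1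
  have h3 : orderOf (QuotientGroup.mk' ((MulAut.conj : K →* MulAut K).range) α) ∣ orderOf α := orderOf_map_dvd _ α
  have h4 : orderOf (QuotientGroup.mk' ((MulAut.conj : K →* MulAut K).range) α) = 1 := by
    have h5 : Nat.Coprime (orderOf (QuotientGroup.mk' ((MulAut.conj : K →* MulAut K).range) α)) (2 ^ k) :=
      Nat.Coprime.pow_right k ((Odd.of_dvd_nat hα h3).coprime_two_right)
    exact h5.eq_one_of_dvd h2
  rw [orderOf_eq_one_iff, QuotientGroup.mk'_apply, QuotientGroup.eq_one_iff] at h4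
  obtain ⟨g, hg⟩ := h4
  exact ⟨g, hg.symm⟩

/-- alternating groups of degree 7 or at least 9 are not of Lie type -/
theorem not_lie {n : ℕ} (hn : n = 7 ∨ 9 ≤ n) {K : Type u} [Group K] (e : K ≃* ↥(alternatingGroup (Fin n))) :
    ¬ (IsLie K ∨ Lie.IsoTits K) := by
  have h5 : 5 ≤ n := by omega
  have hc := OrdDiv.alt_card h5 e
  have h9 : n.factorial = 5040 ∨ 362880 ≤ n.factorial := by
    rcases hn with h | h
    · left; rw [h]; rfl
    · right
      exact (show Nat.factorial 9 = 362880 from rfl) ▸ Nat.factorial_le h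
  rintro (⟨p, hp, h⟩ | h)
  · obtain ⟨X, f, hX⟩ := H284.SepOrd.real_of_lie OrdDiv.table hp h
    rcases H902.Art.alt_lie hX h5 hc.symm with h1 | h1 | h1 <;> omega
  · have h1 := NotCT.Orders.tits h
    rw [h1] at hc
    rcases Nat.lt_or_ge n 11 with h2 | h2
    · have h3 := Nat.factorial_le (show n ≤ 10 by omega)
      have h4 : Nat.factorial 10 = 3628800 := rfl
      omega
    · have h3 := Nat.factorial_le h2
      have h4 : Nat.factorial 11 = 39916800 := rfl
      omega

/-- **No alternating components.** -/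
theorem no_alt {K : Type u} [Group K] [Finite K] [IsSimpleGroup K] {p : ℕ} (hp : p.Prime) (hp2 : p ≠ 2)
    (hK : IsLieTypeChar p K) {x : MulAut K} (hx : x ^ 2 = 1) {A : Subgroup ↥(fixedSubgroup x)} [A.Normal]
    (hA : IsComponent A) {n : ℕ} (hn : n = 7 ∨ 9 ≤ n) (e : ↥A ⧸ center ↥A ≃* ↥(alternatingGroup (Fin n))) : False := by
  have hQ := hA.2.2
  have : Fact p.Prime := ⟨hp⟩
  have hperf := hA.2.1.commutator_eq_top
  by_cases hR : Lie.IsoRee K
  · have h1 := H340.CF.component (Cfsg.Agent.H283.OddSpor.cf_ree.{u, u} hR x (by rw [← pow_two]; exact hx)) hA.1 hA.2.2 hperf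
    exact not_lie hn e (Or.inl ⟨3, Nat.prime_three, h1⟩)
  · have h1 := odd_row hp2 hK hR x hx A hA (H283.OddSpor.inn_of_OI hp hp2 hA.2 (oi_alt (by omega) e))
    obtain ⟨P, h2, h3⟩ := h1.isSplit
    exact not_lie hn e (H283.OddSpor.lie_of_concl (S1144.result P h2 h3))

end Cfsg.Agent.H313.AltNo
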