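import Mathlib
import Cfsg.Agent.H313.AltNo
import Cfsg.Agent.H284.CharTwoComp
import Cfsg.Agent.H284.AltComp
import Cfsg.Agent.EvenType.ChevTwo
import Cfsg.Agent.EvenType.CharTwoCent
import Cfsg.Agent.S1323

/-!
# Simple groups with an involution whose centralizer has a normal alternating subgroup (helper313)

`EM t A r`: `A ≅ A_r` (`r ≥ 6`) is normal in the centralizer of the involution `t` of `K`.

* `EM.not_even`: `K` is not of Lie type in characteristic 2, nor the Tits group;
* `EM.not_odd`: `K` is not of Lie type in odd characteristic if `r = 7` or `r ≥ 9`.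
-/

set_option autoImplicit false
set_option linter.unusedSectionVars false

namespace Cfsg.Agent.H313.AltEM

open Cfsg Subgroup

universe u

/-- An involution `t` of `K` whose centralizer has a normal subgroup `A ≅ A_r`. -/
structure EM {K : Type*} [Group K] (t : K) (A : Subgroup K) (r : ℕ) : Prop where
  ne : t ≠ 1
  sq : t * t = 1
  cA : ∀ a ∈ A, a * t = t * a
  nA : ∀ c, c * t = t * c → ∀ a ∈ A, c * a * c⁻¹ ∈ A
  iso : Nonempty (A ≃* ↥(alternatingGroup (Fin r)))
  hr : 6 ≤ r

section

variable {K : Type*} [Group K] {t : K} {A : Subgroup K} {r : ℕ}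

theorem EM.ord (h : EM t A r) : orderOf t = 2 := by
  have : Fact (Nat.Prime 2) := ⟨Nat.prime_two⟩
  exact orderOf_eq_prime (by rw [pow_two]; exact h.sq) h.ne

theorem EM.simple (h : EM t A r) : IsSimpleGroup A := by
  obtain ⟨e⟩ := h.iso
  have h1 : IsSimpleGroup ↥(alternatingGroup (Fin r)) := alternatingGroup.isSimpleGroup (by
    rw [Nat.card_fin]; have := h.hr; omega)
  exact e.isSimpleGroup

theorem EM.quasi (h : EM t A r) : IsQuasisimple A := by
  obtain ⟨e⟩ := h.iso
  exact Cfsg.Agent.S1323.isQuasisimple_of_mulEquiv_alternating (by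
    rw [Nat.card_fin]; have := h.hr; omega) e.symm

theorem EM.comp (h : EM t A r) : IsComponentOf A (centralizer ({t} : Set K)) :=
  OddTab.isComponentOf_of_normalized (fun a ha => mem_centralizer_singleton_iff.2 (h.cA a ha)) h.quasi
    (fun g hg x hx => h.nA g (mem_centralizer_singleton_iff.1 hg) x hx)

theorem EM.ne_bot (h : EM t A r) : A ≠ ⊥ := by
  intro e
  have h1 := h.simple
  rw [e] at h1
  exact not_subsingleton ↥(⊥ : Subgroup K) inferInstance

end

section

variable {K : Type u} [Group K] [Finite K] [hK : IsSimpleGroup K] {t : K} {A : Subgroup K} {r : ℕ}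

theorem EM.K_not_comm (h : EM t A r) : ¬ IsMulCommutative K := by
  rintro ⟨⟨hc⟩⟩
  apply SignalizersComponents.Components.quasisimple_not_isSolvable h.quasi
  exact Group.isSolvable_of_comm fun a b => Subtype.ext (hc a b)

theorem EM.not_even (h : EM t A r) : ¬ (IsLieTypeChar 2 K ∨ Lie.IsoTits K) := by
  intro h0
  have h1 : IsChevSimple 2 K := by
    rcases h0 with h | h
    · exact Or.inl h
    · exact Or.inr (Or.inl ⟨rfl, Or.inr (Or.inr h)⟩)
  have h2 := Cfsg.Agent.EvenType.CharTwoCent.char2_centralizer (Cfsg.Agent.EvenType.ChevTwo.charTwo h.K_not_comm h1) h.ord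
  exact CpAut.TwoAbs.no_component_of_ct h2 _ h.comp.2

/-- the automorphism -/
theorem fix_eq (t : K) : fixedSubgroup (MulAut.conj t) = centralizer ({t} : Set K) := by
  ext x
  rw [mem_centralizer_singleton_iff]
  constructor
  · intro h
    have h1 : t * x * t⁻¹ = x := h
    rw [mul_inv_eq_iff_eq_mul] at h1
    exact h1.symm
  · intro h
    show t * x * t⁻¹ = x
    rw [← h]; group

theorem EM.xx (h : EM t A r) : MulAut.conj t * MulAut.conj t = 1 := by
  rw [← map_mul, h.sq, map_one]

theorem EM.fixn (h : EM t A r) : (A.subgroupOf (fixedSubgroup (MulAut.conj t))).Normal := by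
  constructor
  intro n hn g
  rw [mem_subgroupOf] at hn ⊢
  have hg : (g : K) ∈ centralizer ({t} : Set K) := by rw [← fix_eq]; exact g.2
  exact h.nA g (mem_centralizer_singleton_iff.1 hg) n hn

theorem EM.le_fix (h : EM t A r) : A ≤ fixedSubgroup (MulAut.conj t) := by
  rw [fix_eq]; exact h.comp.1

theorem EM.fixc (h : EM t A r) : IsComponent (A.subgroupOf (fixedSubgroup (MulAut.conj t))) := by
  rw [fix_eq]; exact h.comp.2

theorem EM.fixe (h : EM t A r) :
    Nonempty (↥(A.subgroupOf (fixedSubgroup (MulAut.conj t))) ≃* ↥(alternatingGroup (Fin r))) := by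
  obtain ⟨e⟩ := h.iso
  exact ⟨(subgroupOfEquivOfLe h.le_fix).trans e⟩

theorem EM.not_odd (h : EM t A r) (hr : r = 7 ∨ 9 ≤ r) {p : ℕ} (hp : p.Prime) (hp2 : p ≠ 2) : ¬ IsLieTypeChar p K := by
  intro hl
  obtain ⟨e⟩ := h.fixe
  have hn := h.fixn
  have hs : IsSimpleGroup ↥(A.subgroupOf (fixedSubgroup (MulAut.conj t))) := by
    have h1 : IsSimpleGroup ↥(alternatingGroup (Fin r)) := alternatingGroup.isSimpleGroup (by
      rw [Nat.card_fin]; have := h.hr; omega)
    exact e.isSimpleGroup
  have hz : center ↥(A.subgroupOf (fixedSubgroup (MulAut.conj t))) = ⊥ := by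
    rcases IsSimpleGroup.eq_bot_or_eq_top_of_normal (center ↥(A.subgroupOf (fixedSubgroup (MulAut.conj t)))) inferInstance with h1 | h1
    · exact h1
    · exact absurd h1 (SignalizersComponents.Components.quasisimple_center_ne_top h.fixc.2)
  have e2 : ↥(A.subgroupOf (fixedSubgroup (MulAut.conj t))) ⧸ center ↥(A.subgroupOf (fixedSubgroup (MulAut.conj t))) ≃*
      ↥(A.subgroupOf (fixedSubgroup (MulAut.conj t))) :=
    (QuotientGroup.quotientMulEquivOfEq hz).trans QuotientGroup.quotientBot
  exact AltNo.no_alt hp hp2 hl (by rw [pow_two]; exact h.xx) h.fixc hr (e2.trans e)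

end

end Cfsg.Agent.H313.AltEM
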