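import Mathlib
import Cfsg.Agent.H313.AltEM
import Cfsg.Agent.H313.AltCard

/-!
# The alternating case (helper313)
-/

set_option autoImplicit false
set_option linter.unusedSectionVars false

namespace Cfsg.Agent.H313.AltAlt

open Cfsg Subgroup Equiv Equiv.Perm
open Cfsg.Agent.H313.AltEM Cfsg.Agent.H313.Alt Cfsg.Agent.H313.AltCard

universe u

theorem top_of_out {X : Type*} [Group X] [Finite X] (hno : ∀ H : Subgroup X, H.index ≠ 2) (M : Subgroup X) [hM : M.Normal]
    (hC : centralizer (M : Set X) = ⊥)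
    (ho : ∀ α : MulAut M, ∃ k : ℕ, α ^ 2 ^ k ∈ (MulAut.conj : M →* MulAut M).range) : M = ⊤ := by
  by_contra hne
  have hp : IsPGroup 2 (X ⧸ M) := by
    intro a
    obtain ⟨x, rfl⟩ := QuotientGroup.mk'_surjective M a
    obtain ⟨k, ⟨m, hm⟩⟩ := ho (MulAut.conjNormal x)
    refine ⟨k, ?_⟩
    rw [← map_pow, QuotientGroup.mk'_apply, QuotientGroup.eq_one_iff]
    rw [← map_pow] at hm
    have h1 : (m : X)⁻¹ * x ^ 2 ^ k ∈ centralizer (M : Set X) := by
      rw [mem_centralizer_iff]
      intro y hy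
      have h2 : (m : X) * y * (m : X)⁻¹ = x ^ 2 ^ k * y * (x ^ 2 ^ k)⁻¹ :=
        congrArg (fun f : MulAut M => ((f ⟨y, hy⟩ : M) : X)) hm
      have h3 : x ^ 2 ^ k * y = m * y * (m : X)⁻¹ * x ^ 2 ^ k := by rw [h2]; group
      calc y * ((m : X)⁻¹ * x ^ 2 ^ k) = (m : X)⁻¹ * (m * y * (m : X)⁻¹ * x ^ 2 ^ k) := by group
        _ = (m : X)⁻¹ * x ^ 2 ^ k * y := by rw [← h3]; group
    rw [hC, mem_bot, inv_mul_eq_one] at h1
    rw [← h1]; exact m.2
  obtain ⟨N, -, hN⟩ := GH.WRank.exists_index_two hp (H := ⊥) (by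
    intro e
    apply hne
    rw [eq_top_iff]
    intro x _
    have h1 : QuotientGroup.mk' M x ∈ (⊥ : Subgroup (X ⧸ M)) := by rw [e]; trivial
    rwa [mem_bot, QuotientGroup.mk'_apply, QuotientGroup.eq_one_iff] at h1)
  exact Red.quot_no_two M hno N hN

theorem EM.map {K K' : Type*} [Group K] [Group K'] {t : K} {A : Subgroup K} {r : ℕ} (h : EM t A r) (e : K ≃* K') :
    EM (e t) (A.map e.toMonoidHom) r where
  ne := fun e1 => h.ne (by simpa using e1)
  sq := by rw [← map_mul, h.sq, map_one]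
  cA := by
    rintro _ ⟨a, ha, rfl⟩
    have := congrArg e (h.cA a ha)
    simpa using this
  nA := by
    rintro c hc _ ⟨a, ha, rfl⟩
    obtain ⟨c, rfl⟩ := e.surjective c
    rw [← map_mul, ← map_mul] at hc
    exact ⟨c * a * c⁻¹, h.nA c (e.injective hc) a ha, by simp⟩
  iso := by
    obtain ⟨f⟩ := h.iso
    exact ⟨(A.equivMapOfInjective e.toMonoidHom e.injective).symm.trans f⟩
  hr := h.hr

theorem card_eq_of_alt {α β : Type*} [Fintype α] [DecidableEq α] [Fintype β] [DecidableEq β] (ha : 2 ≤ Fintype.card α)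
    (hb : 2 ≤ Fintype.card β)
    (e : ↥(alternatingGroup α) ≃* ↥(alternatingGroup β)) : Fintype.card α = Fintype.card β := by
  have : Nontrivial α := Fintype.one_lt_card_iff_nontrivial.1 ha
  have : Nontrivial β := Fintype.one_lt_card_iff_nontrivial.1 hb
  have h1 := two_mul_nat_card_alternatingGroup (α := α)
  have h2 := two_mul_nat_card_alternatingGroup (α := β)
  rw [Nat.card_congr e.toEquiv, h2, Nat.card_perm, Nat.card_perm, Nat.card_eq_fintype_card, Nat.card_eq_fintype_card] at h1
  exact (Nat.factorial_inj (by omega)).1 h1.symm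

/-- the number of fixed points of `t` -/
theorem card_Fx {n r : ℕ} {t : ↥(alternatingGroup (Fin n))} {A : Subgroup ↥(alternatingGroup (Fin n))} (h : EM t A r) :
    Fintype.card {x // (t : Perm (Fin n)) x = x} = r := by
  have hs : ∀ i, (t : Perm (Fin n)) ((t : Perm (Fin n)) i) = i := by
    intro i
    have := congrArg (fun p : ↥(alternatingGroup (Fin n)) => (p : Perm (Fin n)) i) h.sq
    exact this
  have hCA : centralizer ({t} : Set ↥(alternatingGroup (Fin n))) = H284.AltComp.CA (t : Perm (Fin n)) := by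
    ext x
    rw [H284.AltComp.CA, mem_subgroupOf, mem_centralizer_singleton_iff, mem_centralizer_singleton_iff]
    exact ⟨fun h => congrArg Subtype.val h, fun h => Subtype.ext h⟩
  have h1 := h.comp
  rw [hCA] at h1
  obtain ⟨h2, h3⟩ := H284.AltComp.comp_eq hs h1.2
  obtain ⟨f⟩ := h.iso
  have g : ↥(alternatingGroup (Fin r)) ≃* ↥(alternatingGroup {x // (t : Perm (Fin n)) x = x}) :=
    f.symm.trans ((subgroupOfEquivOfLe h1.1).symm.trans ((MulEquiv.subgroupCongr h2).trans (H284.AltComp.kerEquiv _).symm))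
  have hr := h.hr
  have h5 : 5 ≤ Fintype.card {x // (t : Perm (Fin n)) x = x} := h3
  have h4 := card_eq_of_alt (by rw [Fintype.card_fin]; omega) (by omega) g
  rw [Fintype.card_fin] at h4
  exact h4.symm

/-- **The alternating case.** -/
theorem alt_case {Ω : Type*} [DecidableEq Ω] [Fintype Ω] {s : Perm Ω} (hs : s * s = 1) {X : Type*} [Group X] [Finite X]
    {t : X} {A : Subgroup X} (h : EM t A (Fintype.card {x // s x = x})) (f : ↥(CC s) ≃* ↥(centralizer ({t} : Set X)))
    {n : ℕ} (e : X ≃* ↥(alternatingGroup (Fin n))) : Nonempty (X ≃* ↥(alternatingGroup (Fin (Fintype.card Ω)))) := by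
  have h1 := EM.map h e
  have h2 := card_Fx h1
  have hs' : ((e t : ↥(alternatingGroup (Fin n))) : Perm (Fin n)) * ((e t : ↥(alternatingGroup (Fin n))) : Perm (Fin n)) = 1 :=
    congrArg Subtype.val h1.sq
  have hr := h.hr
  have g : ↥(centralizer ({t} : Set X)) ≃* ↥(centralizer ({e t} : Set ↥(alternatingGroup (Fin n)))) :=
    ((centralizer ({t} : Set X)).equivMapOfInjective e.toMonoidHom e.injective).trans (MulEquiv.subgroupCongr (by
      ext y
      rw [mem_centralizer_singleton_iff]
      constructor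
      · rintro ⟨x, hx, rfl⟩
        rw [SetLike.mem_coe, mem_centralizer_singleton_iff] at hx
        have := congrArg e hx
        simpa using this
      · intro hy
        refine ⟨e.symm y, ?_, by simp⟩
        rw [SetLike.mem_coe, mem_centralizer_singleton_iff]
        have := congrArg e.symm hy
        simpa using this))
  have h3 : Nat.card ↥(CC s) = Nat.card ↥(CC ((e t : ↥(alternatingGroup (Fin n))) : Perm (Fin n))) :=
    Nat.card_congr (f.trans (g.trans (AltTrans.centEquiv (e t)))).toEquiv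
  have h4 := card_inj hs hs' (by omega) h2.symm h3
  rw [Fintype.card_fin] at h4
  rw [h4]
  exact ⟨e⟩

end Cfsg.Agent.H313.AltAlt
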