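import Mathlib
import Cfsg.Agent.FixBN.LOAll
import Cfsg.Agent.H313.AltFr

/-!
# Odd characteristic, at least twelve moved points (helper313)
-/

set_option autoImplicit false
set_option linter.unusedSectionVars false

open scoped commutatorElement

namespace Cfsg.Agent.H313.OddSixThree

open Cfsg Subgroup Equiv Equiv.Perm Cfsg.Agent.H313.Alt

universe u

section blocks

variable {Ω : Type*} [DecidableEq Ω] [Fintype Ω] {s : Perm Ω}

/-- representatives of `n` different pairs -/
theorem exists_blocks (hs : s * s = 1) : ∀ n : ℕ, 2 * n ≤ s.support.card →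
    ∃ g : Fin n → Ω, Function.Injective g ∧ (∀ i, s (g i) ≠ g i) ∧ ∀ i j, s (g i) ≠ g j := by
  intro n
  induction n with
  | zero => exact fun _ => ⟨Fin.elim0, fun i => Fin.elim0 i, fun i => Fin.elim0 i, fun i => Fin.elim0 i⟩
  | succ n ih =>
    intro hn
    obtain ⟨g, h1, h2, h3⟩ := ih (by omega)
    obtain ⟨x, hx, hxB⟩ : ∃ x ∈ s.support, x ∉ (Finset.univ.image g ∪ Finset.univ.image (fun i => s (g i))) := by
      by_contra hcon
      push Not at hcon
      have h4 := Finset.card_le_card (fun x hx => hcon x hx : s.support ⊆ _)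
      have h5 := Finset.card_union_le (Finset.univ.image g) (Finset.univ.image (fun i => s (g i)))
      have h6 := Finset.card_image_le (s := Finset.univ) (f := g)
      have h7 := Finset.card_image_le (s := Finset.univ) (f := fun i => s (g i))
      rw [Finset.card_univ, Fintype.card_fin] at h6 h7
      omega
    rw [Finset.mem_union, not_or] at hxB
    have hx1 : ∀ i, x ≠ g i := fun i e => hxB.1 (Finset.mem_image.2 ⟨i, Finset.mem_univ _, e.symm⟩)
    have hx2 : ∀ i, x ≠ s (g i) := fun i e => hxB.2 (Finset.mem_image.2 ⟨i, Finset.mem_univ _, e.symm⟩)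
    have hx3 : s x ≠ x := mem_support.1 hx
    refine ⟨Fin.cons x g, ?_, ?_, ?_⟩
    · rw [Fin.cons_injective_iff]
      exact ⟨fun ⟨i, e⟩ => hx1 i e.symm, h1⟩
    · intro i
      refine Fin.cases ?_ (fun i => ?_) i
      · exact hx3
      · exact h2 i
    · intro i j
      refine Fin.cases ?_ (fun i => ?_) i <;> refine Fin.cases ?_ (fun j => ?_) j
      · exact hx3
      · intro e
        rw [Fin.cons_zero, Fin.cons_succ] at e
        apply hx2 j
        rw [← e, ss hs]
      · intro e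
        rw [Fin.cons_zero, Fin.cons_succ] at e
        exact hx2 i e.symm
      · exact h3 i j

/-- the permutations of the blocks -/
theorem exists_perm (hs : s * s = 1) {n : ℕ} {g : Fin n → Ω} (h1 : Function.Injective g) (h3 : ∀ i j, s (g i) ≠ g j) :
    ∃ φ : Perm (Fin n) →* Perm Ω, (∀ σ i, φ σ (g i) = g (σ i)) ∧ ∀ σ, φ σ * s = s * φ σ := by
  let i0 : Fin n × Bool ↪ Ω := ⟨fun p => if p.2 then s (g p.1) else g p.1, by
    rintro ⟨i, a⟩ ⟨j, b⟩ e
    rcases a <;> rcases b
    · simp only [Bool.false_eq_true, if_false] at e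
      rw [h1 e]
    · simp only [Bool.false_eq_true, if_false, if_true] at e
      exact absurd e.symm (h3 _ _)
    · simp only [Bool.false_eq_true, if_false, if_true] at e
      exact absurd e (h3 _ _)
    · simp only [if_true] at e
      rw [h1 (s.injective e)]⟩
  have hi0 : ∀ i, i0 (i, false) = g i := fun i => rfl
  have hi1 : ∀ i, i0 (i, true) = s (g i) := fun i => rfl
  let e := i0.toEquivRange
  let pr : Perm (Fin n) →* Perm (Fin n × Bool) :=
    { toFun := fun σ => Equiv.prodCongr σ (Equiv.refl Bool)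
      map_one' := rfl
      map_mul' := fun _ _ => rfl }
  let φ : Perm (Fin n) →* Perm Ω := (extendDomainHom e).comp pr
  have hφ : ∀ σ i b, φ σ (i0 (i, b)) = i0 (σ i, b) := by
    intro σ i b
    have := extendDomain_apply_image (pr σ) e (i, b)
    exact this
  have hφ' : ∀ σ x, x ∉ Set.range i0 → φ σ x = x := by
    intro σ x hx
    exact extendDomain_apply_not_subtype (pr σ) e hx
  refine ⟨φ, fun σ i => hφ σ i false, fun σ => comm_of_app fun x => ?_⟩
  by_cases hx : x ∈ Set.range i0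
  · obtain ⟨⟨i, b⟩, rfl⟩ := hx
    rcases b
    · have e1 := hφ σ i false
      have e2 := hφ σ i true
      rw [hi0] at e1
      rw [hi1] at e2
      rw [hi0, e2, e1, hi0, hi1]
    · have e1 := hφ σ i false
      have e2 := hφ σ i true
      rw [hi0] at e1
      rw [hi1] at e2
      rw [hi1, ss hs, e1, e2, hi0, hi1, ss hs]
  · have hx' : s x ∉ Set.range i0 := by
      rintro ⟨⟨i, b⟩, e1⟩
      apply hx
      rcases b
      · refine ⟨(i, true), ?_⟩
        rw [hi1, ← hi0, e1, ss hs]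
      · refine ⟨(i, false), ?_⟩
        rw [hi1] at e1
        rw [hi0]
        exact s.injective e1
    rw [hφ' σ _ hx', hφ' σ x hx]

end blocks

section a5

theorem a5_simple : IsSimpleGroup ↥(alternatingGroup (Fin 5)) :=
  alternatingGroup.isSimpleGroup (by rw [Nat.card_fin])

/-- the commuting involutions -/
def ia : ↥(alternatingGroup (Fin 5)) := ⟨c[0, 1] * c[2, 3], mem_alternatingGroup.2 (by decide +kernel)⟩
def ib : ↥(alternatingGroup (Fin 5)) := ⟨c[1, 2] * c[3, 4], mem_alternatingGroup.2 (by decide +kernel)⟩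
def ic : ↥(alternatingGroup (Fin 5)) := ⟨c[0, 3, 4], mem_alternatingGroup.2 (by decide +kernel)⟩

theorem ia_sq : ia * ia = 1 := Subtype.ext (by decide +kernel : (c[0, 1] * c[2, 3] : Perm (Fin 5)) * (c[0, 1] * c[2, 3]) = 1)
theorem ib_sq : ib * ib = 1 := Subtype.ext (by decide +kernel : (c[1, 2] * c[3, 4] : Perm (Fin 5)) * (c[1, 2] * c[3, 4]) = 1)
theorem iab : ia * ib ≠ ib * ia := fun e => absurd (congrArg Subtype.val e)
  (by decide +kernel : ¬ (c[0, 1] * c[2, 3] : Perm (Fin 5)) * (c[1, 2] * c[3, 4]) = (c[1, 2] * c[3, 4]) * (c[0, 1] * c[2, 3]))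
theorem ic_zero : (ic : Perm (Fin 5)) 0 = 3 := by decide +kernel

/-- a normal subgroup of `A_5` containing a non-trivial element is everything -/
theorem a5_top (N : Subgroup ↥(alternatingGroup (Fin 5))) [hN : N.Normal] {x : ↥(alternatingGroup (Fin 5))}
    (hx : x ∈ N) (hx1 : x ≠ 1) : N = ⊤ := by
  have := a5_simple
  rcases hN.eq_bot_or_eq_top with h | h
  · rw [h, mem_bot] at hx
    exact absurd hx hx1
  · exact h

theorem a5_perfect : ⁅(⊤ : Subgroup ↥(alternatingGroup (Fin 5))), (⊤ : Subgroup ↥(alternatingGroup (Fin 5)))⁆ = ⊤ := by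
  apply a5_top (x := ⁅ia, ib⁆) _ (commutator_mem_commutator (mem_top _) (mem_top _))
  rw [Ne, commutatorElement_eq_one_iff_mul_comm]
  exact iab

theorem a5_hom (χ : ↥(alternatingGroup (Fin 5)) →* ℤˣ) (σ : ↥(alternatingGroup (Fin 5))) : χ σ = 1 := by
  have h1 : χ.ker = ⊤ := by
    apply a5_top χ.ker (x := ⁅ia, ib⁆)
    · rw [MonoidHom.mem_ker, map_commutatorElement, commutatorElement_eq_one_iff_mul_comm]
      exact mul_comm _ _
    · rw [Ne, commutatorElement_eq_one_iff_mul_comm]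
      exact iab
  have h2 : σ ∈ χ.ker := by rw [h1]; trivial
  exact MonoidHom.mem_ker.1 h2

end a5

section main

variable {Ω : Type*} [DecidableEq Ω] [Fintype Ω] {s : Perm Ω}

theorem pow_two_pow {G : Type*} [Group G] {a : G} (h : a * a = 1) : ∃ k, a ^ 2 ^ k = 1 := ⟨1, by rw [pow_one, pow_two, h]⟩

/-- **Odd characteristic, at least ten moved points.** -/
theorem main (hs : s * s = 1) (h10 : 10 ≤ s.support.card) {X : Type u} [Group X] [Finite X] {t : X}
    (f : ↥(CC s) ≃* ↥(centralizer ({t} : Set X))) (M : Subgroup X) [hMn : M.Normal] [IsSimpleGroup M]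
    (hcomm : ∀ a b : X, (∃ k, a ^ 2 ^ k = 1) → (∃ k, b ^ 2 ^ k = 1) → ⁅a, b⁆ ∈ M) (htM : t ∈ M) {p : ℕ}
    (hp2 : p ≠ 2) (hl : IsLieTypeChar p M) (htt : t * t = 1) : False := by
  obtain ⟨g, h1, h2, h3⟩ := exists_blocks hs 5 (by omega)
  obtain ⟨φ, hφ1, hφ2⟩ := exists_perm hs h1 h3
  set ψ : ↥(CC s) →* X := (centralizer ({t} : Set X)).subtype.comp f.toMonoidHom with hψdef
  have hψ : Function.Injective ψ := (subtype_injective _).comp f.injective
  have hψt : ∀ x, ψ x * t = t * ψ x := fun x => mem_centralizer_singleton_iff.1 (f x).2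
  have hψs : ∀ y, y * t = t * y → ∃ x, ψ x = y := by
    intro y hy
    obtain ⟨x, hx⟩ := f.surjective ⟨y, mem_centralizer_singleton_iff.2 hy⟩
    exact ⟨x, congrArg Subtype.val hx⟩
  -- the alternating group
  let φA : ↥(alternatingGroup (Fin 5)) →* ↥(CC s) :=
    (φ.comp (alternatingGroup (Fin 5)).subtype).codRestrict (CC s) (fun σ => mem_CC.2 ⟨hφ2 _,
      a5_hom (sign.comp (φ.comp (alternatingGroup (Fin 5)).subtype)) σ⟩)
  have hA : ∀ σ, ψ (φA σ) ∈ M := by
    have e1 : (M.comap (ψ.comp φA)) = ⊤ := by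
      apply a5_top (M.comap (ψ.comp φA)) (x := ⁅ia, ib⁆)
      · rw [mem_comap, map_commutatorElement]
        refine hcomm _ _ (pow_two_pow ?_) (pow_two_pow ?_)
        · rw [← map_mul, ia_sq, map_one]
        · rw [← map_mul, ib_sq, map_one]
      · rw [Ne, commutatorElement_eq_one_iff_mul_comm]
        exact iab
    intro σ
    have : σ ∈ M.comap (ψ.comp φA) := by rw [e1]; trivial
    exact this
  let η : ↥(alternatingGroup (Fin 5)) →* M := (ψ.comp φA).codRestrict M hA
  -- the element of the base group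
  have d01 : Dis s (g 0) (g 1) := ⟨h2 0, h2 1, fun e => absurd (h1 e) (by decide), fun e => h3 1 0 e.symm⟩
  let b : ↥(CC s) := ⟨bs s (g 0) (g 1), bs_mem hs d01⟩
  let ε : ↥(CC s) := ⟨tr s (g 0) * tr s (g 2), trtr_mem hs (h2 0) (h2 2)⟩
  have trc : ∀ a x, tr s a x = x ∨ tr s a x = s x := by
    intro a x
    by_cases e1 : x = a
    · right; rw [e1, tr_left]
    · by_cases e2 : x = s a
      · right; rw [e2, tr_right, ss hs]
      · left; exact tr_of_ne e1 e2
  have hε : ε ∈ EE hs := by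
    have t0 : (⟨tr s (g 0) * tr s (g 2), trtr_mem hs (h2 0) (h2 2)⟩ : ↥(CC s)) ∈ EE hs := by
      intro x
      change (tr s (g 0) * tr s (g 2)) x = x ∨ (tr s (g 0) * tr s (g 2)) x = s x
      rw [Perm.mul_apply]
      rcases trc (g 2) x with e | e <;> rw [e]
      · exact trc _ _
      · rcases trc (g 0) (s x) with e1 | e1 <;> rw [e1]
        · exact Or.inr rfl
        · left; exact ss hs x
    exact t0
  obtain ⟨u, hu⟩ : ∃ u : ↥(CC s), u = b * ε * b⁻¹ * ε⁻¹ := ⟨_, rfl⟩
  have huE : u ∈ EE hs := by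
    rw [hu]
    exact (EE hs).mul_mem ((EE_normal hs).conj_mem ε hε b) ((EE hs).inv_mem hε)
  have huv : (u : Perm Ω) = tr s (g 1) * tr s (g 0) := by
    have e1 : (u : Perm Ω) = bs s (g 0) (g 1) * (tr s (g 0) * tr s (g 2)) * (bs s (g 0) (g 1))⁻¹ *
        (tr s (g 0) * tr s (g 2))⁻¹ := by rw [hu]; rfl
    have hbc := bs_comm hs d01
    have e2 : bs s (g 0) (g 1) * (tr s (g 0) * tr s (g 2)) * (bs s (g 0) (g 1))⁻¹ =
        (bs s (g 0) (g 1) * tr s (g 0) * (bs s (g 0) (g 1))⁻¹) * (bs s (g 0) (g 1) * tr s (g 2) * (bs s (g 0) (g 1))⁻¹) := by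
      group
    have n20 : g 2 ≠ g 0 := fun e => absurd (h1 e) (by decide)
    have n21 : g 2 ≠ g 1 := fun e => absurd (h1 e) (by decide)
    rw [e1, e2, conj_tr hbc, conj_tr hbc, bs_left hs d01,
      bs_of_ne n20 n21 (fun e => h3 0 2 e.symm) (fun e => h3 1 2 e.symm), mul_inv_rev, tr_inv, tr_inv]
    calc tr s (g 1) * tr s (g 2) * (tr s (g 2) * tr s (g 0)) = tr s (g 1) * (tr s (g 2) * tr s (g 2)) * tr s (g 0) := by
          group
      _ = _ := by rw [tr_tr, mul_one]
  have huM : ψ u ∈ M := by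
    rw [hu, map_mul, map_mul, map_mul, map_inv, map_inv]
    refine hcomm _ _ (pow_two_pow ?_) (pow_two_pow ?_)
    · have : b * b = 1 := Subtype.ext (bs_bs hs d01)
      rw [← map_mul, this, map_one]
    · rw [← map_mul, EE_sq hs hε, map_one]
  -- THEOREM LO
  have key := FixBN.loAut_of_isLieTypeChar hp2 hl (MulAut.conj (⟨t, htM⟩ : M)) (by
      intro x
      have e1 : (⟨t, htM⟩ : M) * ⟨t, htM⟩ = 1 := Subtype.ext htt
      change (⟨t, htM⟩ : M) * (⟨t, htM⟩ * x * ⟨t, htM⟩⁻¹) * ⟨t, htM⟩⁻¹ = x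
      calc (⟨t, htM⟩ : M) * (⟨t, htM⟩ * x * ⟨t, htM⟩⁻¹) * ⟨t, htM⟩⁻¹ =
          (⟨t, htM⟩ * ⟨t, htM⟩) * x * (⟨t, htM⟩ * ⟨t, htM⟩)⁻¹ := by group
        _ = x := by rw [e1]; group)
    (((EE hs).map ψ).subgroupOf M) η.range (by
      intro x hx
      obtain ⟨y, -, hy⟩ := mem_subgroupOf.1 hx
      apply Subtype.ext
      change t * (x : X) * t⁻¹ = x
      rw [← hy, ← hψt, mul_inv_cancel_right]) (by
      intro y hy x hx
      obtain ⟨z, hz, e1⟩ := mem_subgroupOf.1 hx
      have e2 : t * (y : X) * t⁻¹ = y := congrArg Subtype.val hy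
      obtain ⟨y', hy'⟩ := hψs (y : X) (mul_inv_eq_iff_eq_mul.1 e2).symm
      refine mem_subgroupOf.2 ⟨y' * z * y'⁻¹, (EE_normal hs).conj_mem z hz y', ?_⟩
      change ψ (y' * z * y'⁻¹) = (y : X) * (x : X) * (y : X)⁻¹
      rw [map_mul, map_mul, map_inv, hy', e1]) (by
      rintro ⟨x, hx⟩
      refine ⟨1, ?_⟩
      obtain ⟨z, hz, e1⟩ := mem_subgroupOf.1 hx
      apply Subtype.ext
      apply Subtype.ext
      change (x : X) ^ 2 ^ 1 = 1
      rw [pow_one, pow_two]
      change ψ z = (x : X) at e1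
      rw [← e1, ← map_mul, EE_sq hs hz, map_one]) (by
      rintro _ ⟨σ, rfl⟩
      apply Subtype.ext
      change t * ψ (φA σ) * t⁻¹ = ψ (φA σ)
      rw [← hψt, mul_inv_cancel_right]) (by
      rw [MonoidHom.range_eq_map, ← map_commutator, a5_perfect])
  have h5 := key (η ic) ⟨ic, rfl⟩ ⟨ψ u, huM⟩ (mem_subgroupOf.2 ⟨u, huE, rfl⟩)
  have h6 : ψ (φA ic) * ψ u = ψ u * ψ (φA ic) := congrArg Subtype.val h5
  rw [← map_mul, ← map_mul] at h6
  have h7 : φ ic * (u : Perm Ω) = (u : Perm Ω) * φ ic := congrArg Subtype.val (hψ h6)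
  have h8 := congrArg (fun q : Perm Ω => q (g 0)) h7
  simp only [Perm.mul_apply] at h8
  have n01 : g 0 ≠ g 1 := fun e => absurd (h1 e) (by decide)
  have n30 : g 3 ≠ g 0 := fun e => absurd (h1 e) (by decide)
  have n31 : g 3 ≠ g 1 := fun e => absurd (h1 e) (by decide)
  rw [hφ1, ic_zero, huv, Perm.mul_apply, Perm.mul_apply, tr_left,
    tr_of_ne (h3 0 1) (fun e => n01 (s.injective e)), app_comm (hφ2 _), hφ1, ic_zero,
    tr_of_ne n30 (fun e => h3 0 3 e.symm), tr_of_ne n31 (fun e => h3 1 3 e.symm)] at h8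
  exact h2 3 h8

end main

end Cfsg.Agent.H313.OddSixThree
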