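import Mathlib
import Cfsg.Agent.H283.OddComp
import Cfsg.Agent.H313.AltEM
import Cfsg.Agent.FixBN.Transport
import Cfsg.Agent.S1152
import Cfsg.Agent.S1157

/-!
# Odd characteristic: opposite Sylow subgroups (helper313)
-/

set_option autoImplicit false
set_option linter.unusedSectionVars false

open scoped Pointwise

namespace Cfsg.Agent.H313.OddSixAbs

open Cfsg Subgroup Cfsg.Agent.H283.Desc Cfsg.Agent.H283.DescInst Cfsg.Agent.H283.OddComp Cfsg.Agent.H283.DescComp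
open Cfsg.Agent.FixBN

universe u

section abs

variable {H : Type*} [Group H] [Finite H] {p : ℕ} [hp : Fact p.Prime]

/-- opposite Sylow subgroups -/
def Otr (p : ℕ) (H : Type*) [Group H] : Prop :=
  ∀ a c c' : Sylow p H, m a c = 1 → m a c' = 1 → ∃ u ∈ a, u • c = c'

theorem exists_sylow {P : Type*} [Group P] {N0 : Subgroup P} {e : ℕ} (he : ¬ p ^ (e + 1) ∣ Nat.card H) (θ : N0 →* H)
    (hθ : Function.Injective θ) (A : Subgroup P) (hA : A ≤ N0) (cA : Nat.card A = p ^ e) :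
    ∃ S : Sylow p H, ∀ x, x ∈ S ↔ ∃ a, ∃ ha : a ∈ A, θ ⟨a, hA ha⟩ = x := by
  have h1 : Nat.card ((A.subgroupOf N0).map θ) = p ^ e := by
    rw [← cA, ← Nat.card_congr (subgroupOfEquivOfLe hA).toEquiv,
      Nat.card_congr ((A.subgroupOf N0).equivMapOfInjective θ hθ).symm.toEquiv]
  have h2 : (Nat.card H).factorization p = e := by
    have hn : Nat.card H ≠ 0 := Nat.card_pos.ne'
    have h3 : p ^ e ∣ Nat.card H := by rw [← h1]; exact card_subgroup_dvd_card _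
    have h4 := (Nat.Prime.pow_dvd_iff_le_factorization hp.out hn).1 h3
    have h5 : ¬ (e + 1) ≤ (Nat.card H).factorization p := fun h =>
      he ((Nat.Prime.pow_dvd_iff_le_factorization hp.out hn).2 h)
    omega
  refine ⟨Sylow.ofCard ((A.subgroupOf N0).map θ) (by rw [h1, h2]), ?_⟩
  intro x
  constructor
  · rintro ⟨⟨y, hy⟩, hyA, rfl⟩
    exact ⟨y, mem_subgroupOf.1 hyA, rfl⟩
  · rintro ⟨a, ha, rfl⟩
    exact ⟨⟨a, hA ha⟩, mem_subgroupOf.2 ha, rfl⟩

theorem m_one {a c : Sylow p H} (h : ∀ x ∈ a, x ∈ c → x = 1) : m a c = 1 := by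
  have h1 : (a : Subgroup H) ⊓ (c : Subgroup H) = ⊥ := by
    rw [eq_bot_iff]
    rintro x ⟨hx, hy⟩
    exact mem_bot.2 (h x hx hy)
  unfold m
  rw [h1, card_bot]

/-- **Opposite subgroups.** -/
theorem lemG {P : Type*} [Group P] {e : ℕ} (otr : Otr p H) (he : ¬ p ^ (e + 1) ∣ Nat.card H) {N0 : Subgroup P}
    (θ : N0 →* H) (hθ : Function.Injective θ) (A C C' : Subgroup P) (hA : A ≤ N0) (hC : C ≤ N0) (hC' : C' ≤ N0)
    (cA : Nat.card A = p ^ e) (cC : Nat.card C = p ^ e) (cC' : Nat.card C' = p ^ e)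
    (h1 : ∀ x ∈ A, x ∈ C → x = 1) (h2 : ∀ x ∈ A, x ∈ C' → x = 1) : ∃ ρ ∈ A, ∀ y ∈ C, ρ * y * ρ⁻¹ ∈ C' := by
  obtain ⟨a, ha⟩ := exists_sylow he θ hθ A hA cA
  obtain ⟨c, hc⟩ := exists_sylow he θ hθ C hC cC
  obtain ⟨c', hc'⟩ := exists_sylow he θ hθ C' hC' cC'
  have key : ∀ {C : Subgroup P} (hC : C ≤ N0) {c : Sylow p H},
      (∀ x, x ∈ c ↔ ∃ a, ∃ ha : a ∈ C, θ ⟨a, hC ha⟩ = x) → (∀ x ∈ A, x ∈ C → x = 1) → m a c = 1 := by
    intro C hC c hc h1
    apply m_one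
    intro x hxa hxc
    obtain ⟨y, hy, rfl⟩ := (ha x).1 hxa
    obtain ⟨z, hz, e1⟩ := (hc _).1 hxc
    have e2 : z = y := congrArg Subtype.val (hθ e1)
    subst e2
    have e3 := h1 z hy hz
    subst e3
    exact map_one θ
  obtain ⟨u, hu, huc⟩ := otr a c c' (key hC hc h1) (key hC' hc' h2)
  obtain ⟨ρ, hρ, rfl⟩ := (ha u).1 hu
  refine ⟨ρ, hρ, fun y hy => ?_⟩
  have h3 : θ ⟨ρ, hA hρ⟩ * θ ⟨y, hC hy⟩ * (θ ⟨ρ, hA hρ⟩)⁻¹ ∈ c' := by
    rw [← huc, FixBN.Gates.mem_smul_iff]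
    have e1 : (θ ⟨ρ, hA hρ⟩)⁻¹ * (θ ⟨ρ, hA hρ⟩ * θ ⟨y, hC hy⟩ * (θ ⟨ρ, hA hρ⟩)⁻¹) * θ ⟨ρ, hA hρ⟩ = θ ⟨y, hC hy⟩ := by
      group
    rw [e1, hc]
    exact ⟨y, hy, rfl⟩
  obtain ⟨z, hz, e2⟩ := (hc' _).1 h3
  rw [← map_inv, ← map_mul, ← map_mul] at e2
  have e3 : z = ρ * y * ρ⁻¹ := congrArg Subtype.val (hθ e2)
  rw [← e3]; exact hz

/-- the characteristic divides the order -/
theorem dvd_of_charBN {Q : Type*} [Group Q] [Finite Q] (h : CharBN p Q) : p ∣ Nat.card Q := by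
  obtain ⟨P, U, hS, hU, hUB, hn, hc⟩ := h
  by_contra hp'
  have hU1 : ∀ u ∈ U, u = 1 := by
    intro u hu
    obtain ⟨n, hn⟩ := IsPGroup.iff_card.1 hU
    have h1 : Nat.card U ∣ Nat.card Q := card_subgroup_dvd_card U
    rcases Nat.eq_zero_or_pos n with h0 | h0
    · rw [h0, pow_zero] at hn
      have h2 := (Subgroup.card_eq_one (G := Q) (H := U)).1 hn
      rw [h2] at hu
      exact mem_bot.1 hu
    · exfalso
      rw [hn] at h1
      exact hp' ((dvd_pow_self p h0.ne').trans h1)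
  have hBN : P.B ≤ P.N := by
    intro b hb
    obtain ⟨u, hu, t, ht, rfl⟩ := hc b hb
    rw [hU1 u hu, one_mul]
    exact ht.2
  obtain ⟨s, hs⟩ := hS
  have hsN := P.subset hs
  apply P.conj_ne s hs
  ext x
  constructor
  · rintro ⟨b, hb, rfl⟩
    change s * b * s ∈ P.B
    have h1 := P.conj_mem s hsN b ⟨hb, hBN hb⟩
    have e : s * b * s = s * b * s⁻¹ * (s * s) := by group
    rw [e]; exact P.B.mul_mem h1 (P.sq_mem s hs)
  · intro hx
    refine ⟨s⁻¹ * x * s⁻¹, ?_, by change s * (s⁻¹ * x * s⁻¹) * s = x; group⟩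
    have h1 := P.conj_mem s⁻¹ (P.N.inv_mem hsN) x ⟨hx, hBN hx⟩
    have e : s⁻¹ * x * s⁻¹ = s⁻¹ * x * s⁻¹⁻¹ * (s * s)⁻¹ := by group
    rw [e]; exact P.B.mul_mem h1 (P.B.inv_mem (P.sq_mem s hs))

end abs

section lie

variable {K : Type u} [Group K] [Finite K] [IsSimpleGroup K]

theorem otr_of_good {p : ℕ} [Fact p.Prime] (hp2 : p ≠ 2) (h : GoodModel p K) (x : MulAut K) (hx : x ^ 2 = 1) :
    Otr p ↥(fixedSubgroup x) := by
  obtain ⟨K', i1, i2, i3, i4, h, ⟨e⟩⟩ := h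
  obtain ⟨Pa, d, Bs, hD, -⟩ := exists_dsys (r := 2) (fun e => hp2 e.symm)
    (FixBN.Transport.hasSplit_congr e.symm h.hasSplit : HasSplit p K) x hx
  exact hD.otr

/-- no elements of order four in the small Ree groups -/
theorem sq_of_ree (h : Lie.IsoRee K) {x : K} (hx : x ^ 4 = 1) : x * x = 1 := by
  obtain ⟨F, _, _, m, hm, hF, ⟨e⟩⟩ := h
  classical
  have hchar := Cfsg.Agent.LieRecognition.ReeAbs.charP_three hF
  have : Finite ↥(Cfsg.Lie.twistedG2 F (3 ^ m)) := Finite.of_equiv K e.toEquiv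
  obtain ⟨a, haH, ha1, ha2⟩ := Cfsg.Agent.S1157.exists_involution hF
  obtain ⟨-, hS⟩ := Cfsg.Agent.S1152.result hF a haH ha1 ha2
  have h2 : Fact (Nat.Prime 2) := ⟨Nat.prime_two⟩
  have h1 : IsPGroup 2 (zpowers (e x)) := by
    have h3 : orderOf (e x) ∣ 2 ^ 2 := orderOf_dvd_of_pow_eq_one (by rw [← map_pow]; norm_num [hx])
    obtain ⟨k, -, hk⟩ := (Nat.dvd_prime_pow Nat.prime_two).1 h3
    exact IsPGroup.of_card (n := k) (by rw [Nat.card_zpowers, hk])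
  obtain ⟨S, hS1⟩ := h1.exists_le_sylow
  have h4 := (hS S).2 (e x) (hS1 (mem_zpowers _))
  apply e.injective
  rw [map_mul, h4, map_one]

/-- an element of order four -/
theorem order_four {t : K} {A : Subgroup K} (h : AltEM.EM t A 6) : ∃ x : K, x ^ 4 = 1 ∧ x * x ≠ 1 := by
  obtain ⟨e⟩ := h.iso
  have hσ : (c[0, 1, 2, 3] * c[4, 5] : Equiv.Perm (Fin 6)) ∈ alternatingGroup (Fin 6) := by
    rw [Equiv.Perm.mem_alternatingGroup]; decide +kernel
  set σ : alternatingGroup (Fin 6) := ⟨_, hσ⟩ with hσd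
  have h4 : σ ^ 4 = 1 := Subtype.ext (by decide +kernel : (c[0, 1, 2, 3] * c[4, 5] : Equiv.Perm (Fin 6)) ^ 4 = 1)
  have h2 : σ * σ ≠ 1 := fun e1 => absurd (congrArg Subtype.val e1)
    (by decide +kernel : ¬ (c[0, 1, 2, 3] * c[4, 5] : Equiv.Perm (Fin 6)) * (c[0, 1, 2, 3] * c[4, 5]) = 1)
  refine ⟨(e.symm σ : A), ?_, ?_⟩
  · rw [← Subgroup.coe_pow, ← map_pow, h4, map_one]; rfl
  · intro e1
    apply h2
    apply e.symm.injective
    apply Subtype.ext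
    rw [map_mul, map_one]
    exact e1

/-- **the characteristic is 3 or 5** -/
theorem char_cases {t : K} {A : Subgroup K} (h : AltEM.EM t A 6) {p : ℕ} (hp : p.Prime) (hp2 : p ≠ 2)
    (hl : IsLieTypeChar p K) : p = 3 ∨ p = 5 := by
  have : Fact p.Prime := ⟨hp⟩
  obtain ⟨e⟩ := h.fixe
  have hn := h.fixn
  have hR : ¬ Lie.IsoRee K := by
    intro hR
    obtain ⟨x, hx, hx2⟩ := order_four h
    exact hx2 (sq_of_ree hR hx)
  have hz : center ↥(A.subgroupOf (fixedSubgroup (MulAut.conj t))) = ⊥ := by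
    have hs : IsSimpleGroup ↥(A.subgroupOf (fixedSubgroup (MulAut.conj t))) := by
      have h1 : IsSimpleGroup ↥(alternatingGroup (Fin 6)) := alternatingGroup.isSimpleGroup (by
        rw [Nat.card_fin]; norm_num)
      exact e.isSimpleGroup
    rcases IsSimpleGroup.eq_bot_or_eq_top_of_normal (center ↥(A.subgroupOf (fixedSubgroup (MulAut.conj t)))) inferInstance with h1 | h1
    · exact h1
    · exact absurd h1 (SignalizersComponents.Components.quasisimple_center_ne_top h.fixc.2)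
  have e2 : ↥(A.subgroupOf (fixedSubgroup (MulAut.conj t))) ⧸ center ↥(A.subgroupOf (fixedSubgroup (MulAut.conj t))) ≃*
      ↥(alternatingGroup (Fin 6)) :=
    ((QuotientGroup.quotientMulEquivOfEq hz).trans QuotientGroup.quotientBot).trans e
  have h1 := odd_row hp2 hl hR (MulAut.conj t) (by rw [pow_two]; exact h.xx) _ h.fixc
    (H283.OddSpor.inn_of_OI hp hp2 h.fixc.2 (AltNo.oi_alt (by norm_num) e2))
  have h2 := dvd_of_charBN h1
  rw [Nat.card_congr e2.toEquiv] at h2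
  have h3 : Nat.card (alternatingGroup (Fin 6)) = 360 := by
    have h7 : Nontrivial (Fin 6) := inferInstance
    have := two_mul_nat_card_alternatingGroup (α := Fin 6)
    rw [Nat.card_perm, Nat.card_eq_fintype_card (α := Fin 6), Fintype.card_fin] at this
    have f6 : Nat.factorial 6 = 720 := rfl
    omega
  rw [h3, show 360 = 2 ^ 3 * 3 ^ 2 * 5 by norm_num] at h2
  rcases (Nat.Prime.dvd_mul hp).1 h2 with h4 | h4
  · rcases (Nat.Prime.dvd_mul hp).1 h4 with h5 | h5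
    · exact absurd ((Nat.prime_dvd_prime_iff_eq hp Nat.prime_two).1 (hp.dvd_of_dvd_pow h5)) hp2
    · exact Or.inl ((Nat.prime_dvd_prime_iff_eq hp Nat.prime_three).1 (hp.dvd_of_dvd_pow h5))
  · exact Or.inr ((Nat.prime_dvd_prime_iff_eq hp Nat.prime_five).1 h4)

/-- opposite Sylow subgroups -/
theorem otr {t : K} {A : Subgroup K} (h : AltEM.EM t A 6) {p : ℕ} [Fact p.Prime] (hp2 : p ≠ 2)
    (hl : IsLieTypeChar p K) : Otr p ↥(fixedSubgroup (MulAut.conj t)) := by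
  rcases exists_good_model hp2 hl with h1 | hR
  · exact otr_of_good hp2 h1 _ (by rw [pow_two]; exact h.xx)
  · exfalso
    obtain ⟨x, hx, hx2⟩ := order_four h
    exact hx2 (sq_of_ree hR hx)

end lie

end Cfsg.Agent.H313.OddSixAbs
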