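import Mathlib
import Cfsg.Agent.H313.OddSixAbs
import Cfsg.Agent.H313.OddSixModel
import Cfsg.Agent.H313.AltCard

/-!
# Odd characteristic, eight moved and six fixed points (helper313)
-/

set_option autoImplicit false
set_option linter.unusedSectionVars false

open scoped Pointwise commutatorElement

namespace Cfsg.Agent.H313.OddSixTwo

open Cfsg Subgroup Equiv Equiv.Perm Cfsg.Agent.H313.Alt Cfsg.Agent.H313.OddSixAbs Cfsg.Agent.H313.OddSixModel

universe u

theorem card_range {A P : Type*} [Group A] [Group P] (φ : A →* P) (h : ∀ a, φ a = 1 → a = 1) :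
    Nat.card φ.range = Nat.card A :=
  (Nat.card_congr (MonoidHom.ofInjective ((injective_iff_map_eq_one φ).2 h)).toEquiv).symm

/-- **Odd characteristic, eight moved and six fixed points.** -/
theorem main {Ω : Type*} [DecidableEq Ω] [Fintype Ω] {s : Perm Ω} (hs : s * s = 1) (h8 : s.support.card = 8)
    (h6 : Fintype.card {x // s x = x} = 6) {X : Type u} [Group X] [Finite X] {t : X}
    (f : ↥(CC s) ≃* ↥(centralizer ({t} : Set X))) (M : Subgroup X) [M.Normal] [IsSimpleGroup M]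
    (hcomm : ∀ a b : X, (∃ k, a ^ 2 ^ k = 1) → (∃ k, b ^ 2 ^ k = 1) → ⁅a, b⁆ ∈ M) (htM : t ∈ M)
    {A : Subgroup M} (hEM : AltEM.EM (⟨t, htM⟩ : M) A 6) {p : ℕ} (hp : p.Prime) (hp2 : p ≠ 2)
    (hl : IsLieTypeChar p M) : False := by
  have hcard : Fintype.card Ω = 14 := by
    have h1 := AltCard.card_fix s
    have h2 := Finset.card_le_univ s.support
    omega
  obtain ⟨ι, hi, hi0, hisg⟩ := exists_emb' (Ω := Ω) (n := 14) (s0 := s0) (s := s) (by omega) s0_sq hs
    (by rw [h8, s0_card])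
  set ψ : ↥(CC s) →* X := (centralizer ({t} : Set X)).subtype.comp f.toMonoidHom with hψdef
  have hψ : Function.Injective ψ := (subtype_injective _).comp f.injective
  have hψt : ∀ x, ψ x * t = t * ψ x := fun x => mem_centralizer_singleton_iff.1 (f x).2
  -- the preimage of `M`
  let N0 : Subgroup (Perm (Fin 14)) :=
    { carrier := {σ | ∃ h : ι σ ∈ CC s, ψ ⟨ι σ, h⟩ ∈ M}
      mul_mem' := by
        rintro a b ⟨ha, ha'⟩ ⟨hb, hb'⟩
        have hab : ι (a * b) ∈ CC s := by rw [map_mul]; exact mul_mem ha hb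
        refine ⟨hab, ?_⟩
        have e : (⟨ι (a * b), hab⟩ : ↥(CC s)) = ⟨ι a, ha⟩ * ⟨ι b, hb⟩ := Subtype.ext (map_mul _ _ _)
        rw [e, map_mul]
        exact M.mul_mem ha' hb'
      one_mem' := by
        have h1 : ι 1 ∈ CC s := by rw [map_one]; exact one_mem _
        refine ⟨h1, ?_⟩
        have e : (⟨ι 1, h1⟩ : ↥(CC s)) = 1 := Subtype.ext (map_one _)
        rw [e, map_one]
        exact M.one_mem
      inv_mem' := by
        rintro a ⟨ha, ha'⟩
        have hab : ι a⁻¹ ∈ CC s := by rw [map_inv]; exact inv_mem ha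
        refine ⟨hab, ?_⟩
        have e : (⟨ι a⁻¹, hab⟩ : ↥(CC s)) = ⟨ι a, ha⟩⁻¹ := Subtype.ext (map_inv _ _)
        rw [e, map_inv]
        exact M.inv_mem ha' }
  let θ : N0 →* ↥(fixedSubgroup (MulAut.conj (⟨t, htM⟩ : M))) :=
    { toFun := fun σ => ⟨⟨ψ ⟨ι σ, σ.2.choose⟩, σ.2.choose_spec⟩, by
        apply Subtype.ext
        change t * ψ _ * t⁻¹ = ψ _
        rw [← hψt, mul_inv_cancel_right]⟩
      map_one' := by
        apply Subtype.ext
        apply Subtype.ext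
        change ψ _ = 1
        rw [← map_one ψ]
        exact congrArg ψ (Subtype.ext (map_one ι))
      map_mul' := fun a b => by
        apply Subtype.ext
        apply Subtype.ext
        change ψ _ = ψ _ * ψ _
        rw [← map_mul]
        exact congrArg ψ (Subtype.ext (map_mul ι _ _)) }
  have hθ : Function.Injective θ := by
    intro a b e
    have e1 : ψ ⟨ι a, a.2.choose⟩ = ψ ⟨ι b, b.2.choose⟩ :=
      congrArg (fun y : ↥(fixedSubgroup (MulAut.conj (⟨t, htM⟩ : M))) => ((y : M) : X)) e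
    exact Subtype.ext (hi (congrArg Subtype.val (hψ e1)))
  -- commutators of involutions
  have hCI : ∀ g, CI g → g ∈ N0 := by
    rintro g ⟨a, b, haa, hbb, ha, hb, hsa, hsb, rfl⟩
    have ha' : ι a ∈ CC s := mem_CC.2 ⟨by rw [← hi0, ← map_mul, ← map_mul, ha], by rw [hisg, hsa]⟩
    have hb' : ι b ∈ CC s := mem_CC.2 ⟨by rw [← hi0, ← map_mul, ← map_mul, hb], by rw [hisg, hsb]⟩
    have hab : ι (b * a * b * a) ∈ CC s := by
      rw [map_mul, map_mul, map_mul]; exact mul_mem (mul_mem (mul_mem hb' ha') hb') ha'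
    refine ⟨hab, ?_⟩
    have e1 : (⟨ι (b * a * b * a), hab⟩ : ↥(CC s)) = ⟨ι b, hb'⟩ * ⟨ι a, ha'⟩ * ⟨ι b, hb'⟩⁻¹ * ⟨ι a, ha'⟩⁻¹ := by
      apply Subtype.ext
      change ι (b * a * b * a) = ι b * ι a * (ι b)⁻¹ * (ι a)⁻¹
      rw [← map_inv, ← map_inv, ← map_mul, ← map_mul, ← map_mul, inv_eq_of_mul_eq_one_left hbb,
        inv_eq_of_mul_eq_one_left haa]
    rw [e1, map_mul, map_mul, map_mul, map_inv, map_inv]
    have sq : ∀ c (hc : ι c ∈ CC s), c * c = 1 → ψ ⟨ι c, hc⟩ ^ 2 ^ 1 = 1 := by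
      intro c hc hcc
      rw [pow_one, ← map_pow]
      have : (⟨ι c, hc⟩ : ↥(CC s)) ^ 2 = 1 := by
        apply Subtype.ext
        change ι c ^ 2 = 1
        rw [← map_pow, pow_two, hcc, map_one]
      rw [this, map_one]
    exact hcomm _ _ ⟨1, sq b hb' hbb⟩ ⟨1, sq a ha' haa⟩
  -- the order
  have hH : Nat.card ↥(fixedSubgroup (MulAut.conj (⟨t, htM⟩ : M))) ∣ 138240 := by
    have h1 : Nat.card ↥(CC s) = 138240 := by
      obtain ⟨k, hk2, hk3⟩ := AltCard.card_CC' hs (by omega)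
      have hk4 : k = 4 := by omega
      subst hk4
      rw [h6, show Nat.factorial 6 = 720 from rfl, show Nat.factorial 4 = 24 from rfl] at hk3
      omega
    rw [← h1, Nat.card_congr f.toEquiv]
    exact card_dvd_of_injective
      ((M.subtype.comp (fixedSubgroup (MulAut.conj (⟨t, htM⟩ : M))).subtype).codRestrict (centralizer ({t} : Set X))
        (fun y => by
          rw [mem_centralizer_singleton_iff]
          have h2 : t * ((y : M) : X) * t⁻¹ = ((y : M) : X) := congrArg Subtype.val y.2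
          exact (mul_inv_eq_iff_eq_mul.1 h2).symm)) (by
      intro a b e
      have e1 : ((a : M) : X) = ((b : M) : X) := congrArg (fun y : ↥(centralizer ({t} : Set X)) => (y : X)) e
      exact Subtype.ext (Subtype.ext e1))
  rcases char_cases hEM hp hp2 hl with rfl | rfl
  · have : Fact (Nat.Prime 3) := ⟨Nat.prime_three⟩
    have he : ¬ 3 ^ (3 + 1) ∣ Nat.card ↥(fixedSubgroup (MulAut.conj (⟨t, htM⟩ : M))) := fun h => by
      have := h.trans hH
      norm_num at this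
    have c3 : Nat.card T3 = 3 ^ 3 := by
      rw [Nat.card_prod, Nat.card_prod]
      simp [Nat.card_eq_fintype_card, ZMod.card]
    have hA : ha.range ≤ N0 := by
      rintro _ ⟨q, rfl⟩
      obtain ⟨i, j, k, e⟩ := ha_cases q
      rw [e]
      exact N0.mul_mem (N0.pow_mem (hCI _ ci_x1) _) (N0.mul_mem (N0.pow_mem (hCI _ ci_x2) _) (N0.pow_mem (hCI _ ci_x3) _))
    have hC : hc.range ≤ N0 := by
      rintro _ ⟨q, rfl⟩
      obtain ⟨i, j, k, e⟩ := hc_cases q
      rw [e]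
      exact N0.mul_mem (N0.pow_mem (hCI _ ci_y1) _) (N0.mul_mem (N0.pow_mem (hCI _ ci_y2) _) (N0.pow_mem (hCI _ ci_y3) _))
    have hD : hd.range ≤ N0 := by
      rintro _ ⟨q, rfl⟩
      obtain ⟨i, j, k, e⟩ := hd_cases q
      rw [e]
      exact N0.mul_mem (N0.pow_mem (hCI _ ci_y1) _) (N0.mul_mem (N0.pow_mem (hCI _ ci_y2) _) (N0.pow_mem (hCI _ ci_w3) _))
    obtain ⟨ρ, ⟨q, rfl⟩, hρ⟩ := lemG (OddSixAbs.otr hEM hp2 hl) he θ hθ ha.range hc.range hd.range hA hC hD
      (by rw [card_range _ ha_inj, c3]) (by rw [card_range _ hc_inj, c3]) (by rw [card_range _ hd_inj, c3])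
      (by rintro _ ⟨a, rfl⟩ ⟨b, e⟩; exact hac a b e.symm) (by rintro _ ⟨a, rfl⟩ ⟨b, e⟩; exact had a b e.symm)
    obtain ⟨b, hb⟩ := y3_mem
    obtain ⟨c, e⟩ := hρ y3 ⟨b, hb⟩
    exact hnot q c e.symm
  · have : Fact (Nat.Prime 5) := ⟨Nat.prime_five⟩
    have he : ¬ 5 ^ (1 + 1) ∣ Nat.card ↥(fixedSubgroup (MulAut.conj (⟨t, htM⟩ : M))) := fun h => by
      have := h.trans hH
      norm_num at this
    have c3 : Nat.card T5 = 5 ^ 1 := by
      simp [Nat.card_eq_fintype_card, ZMod.card]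
    have hA : ka.range ≤ N0 := by
      rintro _ ⟨q, rfl⟩
      obtain ⟨i, e⟩ := ka_cases q
      rw [e]
      exact N0.pow_mem (hCI _ ci_v1) _
    have hC : kc.range ≤ N0 := by
      rintro _ ⟨q, rfl⟩
      obtain ⟨i, e⟩ := kc_cases q
      rw [e]
      exact N0.pow_mem (hCI _ ci_v2) _
    have hD : kd.range ≤ N0 := by
      rintro _ ⟨q, rfl⟩
      obtain ⟨i, e⟩ := kd_cases q
      rw [e]
      exact N0.pow_mem (hCI _ ci_v3) _
    obtain ⟨ρ, ⟨q, rfl⟩, hρ⟩ := lemG (OddSixAbs.otr hEM hp2 hl) he θ hθ ka.range kc.range kd.range hA hC hD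
      (by rw [card_range _ ka_inj, c3]) (by rw [card_range _ kc_inj, c3]) (by rw [card_range _ kd_inj, c3])
      (by rintro _ ⟨a, rfl⟩ ⟨b, e⟩; exact kac a b e.symm) (by rintro _ ⟨a, rfl⟩ ⟨b, e⟩; exact kad a b e.symm)
    obtain ⟨b, hb⟩ := v2_mem
    obtain ⟨c, e⟩ := hρ v2 ⟨b, hb⟩
    exact knot q c e.symm

end Cfsg.Agent.H313.OddSixTwo
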