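import Mathlib
import Cfsg.Agent.H245.TypeA10
import Cfsg.Agent.LFour.ExtMain
import Cfsg.Agent.H313.AltAlt

/-!
# Groups with Sylow 2-subgroups `D wr 2` and the fusion pattern of `A_10`, `A_11` (helper313)
-/

set_option autoImplicit false
set_option linter.unusedSectionVars false

namespace Cfsg.Agent.H313.TenEnd

open DihedralGroup Cfsg.Agent.LFourA.Model Cfsg.Agent.LFourA.Base Cfsg.Agent.LFourA.Facts Cfsg.Agent.LFourA.Defs
open Subgroup

section

variable {G : Type*} [Group G] {k : ℕ} {f f' : D k → D k → G} {w w' : G} {S : Subgroup G}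

theorem base_le_base (h : DWr S k f w) (h' : DWr S k f' w') : base h' ≤ base h := by
  have key : ∀ i j, f' (sr i) (sr j) ∈ base h ∧ f' (sr i) 1 ∈ base h ∧ f' 1 (sr j) ∈ base h := by
    intro i j
    have h1 : ((V i).prod (V j)).map (F h') ≤ base h := by
      apply le_base_of_elem h
      · rintro _ ⟨p, hp, rfl⟩
        exact f_mem h' _ _
      · rintro _ ⟨p, hp, rfl⟩
        rw [← map_mul]
        have : p * p = 1 := Prod.ext (sq_of_mem_V hp.1) (sq_of_mem_V hp.2)
        rw [this, map_one]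
      · rw [Nat.card_congr (((V i).prod (V j)).equivMapOfInjective _ (F_injective h')).symm.toEquiv,
          Nat.card_congr (Subgroup.prodEquiv (V i) (V j)).toEquiv, Nat.card_prod, card_V, card_V]
    exact ⟨h1 ⟨(sr i, sr j), ⟨sr_mem_V i, sr_mem_V j⟩, rfl⟩, h1 ⟨(sr i, 1), ⟨sr_mem_V i, one_mem _⟩, rfl⟩,
      h1 ⟨(1, sr j), ⟨one_mem _, sr_mem_V j⟩, rfl⟩⟩
  have h4 : ∀ a, f' a 1 ∈ base h := by
    rintro (i | i)
    · have h5 := (base h).mul_mem (key 0 0).2.1 (key i 0).2.1
      rw [h'.f_mul, sr_mul_sr, sub_zero, one_mul] at h5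
      exact h5
    · exact (key i 0).2.1
  have h5 : ∀ a, f' 1 a ∈ base h := by
    rintro (i | i)
    · have h5 := (base h).mul_mem (key 0 0).2.2 (key 0 i).2.2
      rw [h'.f_mul, sr_mul_sr, sub_zero, one_mul] at h5
      exact h5
    · exact (key 0 i).2.2
  rintro _ ⟨a, b, rfl⟩
  have := (base h).mul_mem (h4 a) (h5 b)
  rwa [h'.f_mul, one_mul, mul_one] at this

theorem base_eq (h : DWr S k f w) (h' : DWr S k f' w') : base h' = base h :=
  le_antisymm (base_le_base h h') (base_le_base h' h)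

theorem z_eq (h : DWr S k f w) (h' : DWr S k f' w') : f' (c k) (c k) = f (c k) (c k) := by
  rcases eq_of_central_S h (f_mem h' (c k) (c k)) (fun x hx => z_comm h' hx) with e | e
  · exact absurd e (z_ne_one h')
  · exact e

theorem t_cases (h : DWr S k f w) (h' : DWr S k f' w') : f' (c k) 1 = f (c k) 1 ∨ f' (c k) 1 = f 1 (c k) := by
  have h1 : f' (c k) 1 ∈ base h := base_le_base h h' (f_mem_base h' _ _)
  obtain ⟨a, b, e⟩ := h1
  have h2 : ∀ a' b', f a b * f a' b' = f a' b' * f a b := by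
    intro a' b'
    rw [← e]
    obtain ⟨x, y, e2⟩ := base_le_base h' h (f_mem_base h a' b')
    rw [e2]
    exact f_comm_center h' (Or.inr rfl) (Or.inl rfl)
  obtain ⟨h3, h4⟩ := eq_of_central_base h h2
  rcases h3 with rfl | rfl <;> rcases h4 with rfl | rfl
  · rw [f_one h] at e
    exact absurd e (t_ne_one h')
  · exact Or.inr e
  · exact Or.inl e
  · rw [← z_eq h h'] at e
    rw [f_eq_iff h'] at e
    exact absurd e.2.symm c_ne_one

theorem isConj_t' (h : DWr S k f w) : IsConj (f 1 (c k)) (f (c k) 1) :=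
  isConj_iff.2 ⟨w, w_conj h _ _⟩

end

section

universe u

theorem no_hom_of_index {G : Type*} [Group G] (hG : ∀ H : Subgroup G, H.index ≠ 2) :
    ∀ φ : G →* ℤˣ, ∀ x, φ x = 1 := by
  intro φ x
  by_contra hx
  apply hG φ.ker
  rw [index_eq_two_iff]
  have h2 : ∀ y, φ y = 1 ∨ φ y = -1 := fun y => Int.units_eq_one_or _
  have hx' := (h2 x).resolve_left hx
  refine ⟨x, fun b => ?_⟩
  rw [MonoidHom.mem_ker, MonoidHom.mem_ker, map_mul, hx']
  rcases h2 b with h | h <;> rw [h] <;> decide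

variable {G : Type u} [Group G] [Finite G] {P : Sylow 2 G} {k : ℕ} {f : D k → D k → G} {w : G}

/-- restriction of the coordinates -/
theorem restrict (h : DWr (P : Subgroup G) k f w) {N : Subgroup G} (hPN : (P : Subgroup G) ≤ N) :
    DWr (P.subtype hPN : Subgroup N) k (fun a b => ⟨f a b, hPN (f_mem h a b)⟩) ⟨w, hPN (w_mem h)⟩ := by
  refine ⟨fun a b a' b' => Subtype.ext (h.f_mul _ _ _ _), fun a b e => h.f_inj _ _ (congrArg Subtype.val e),
    Subtype.ext h.w_w, fun a b => Subtype.ext (h.w_f _ _), fun a b e => h.w_ne _ _ (congrArg Subtype.val e), ?_⟩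
  intro g
  change (g : G) ∈ (P : Subgroup G) ↔ _
  rw [h.mem_iff]
  constructor
  · rintro (⟨a, b, e⟩ | ⟨a, b, e⟩)
    · exact Or.inl ⟨a, b, Subtype.ext e⟩
    · exact Or.inr ⟨a, b, Subtype.ext e⟩
  · rintro (⟨a, b, e⟩ | ⟨a, b, e⟩)
    · exact Or.inl ⟨a, b, congrArg Subtype.val e⟩
    · exact Or.inr ⟨a, b, congrArg Subtype.val e⟩

/-- **The fusion pattern of `A_10`, `A_11`.** -/
theorem ten_or_eleven (h : DWr (P : Subgroup G) k f w) (hno : ∀ H : Subgroup G, H.index ≠ 2)
    (hO : Cfsg.oddCore G = ⊥) (hw : IsConj w (f (c k) (c k))) :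
    Nonempty (G ≃* alternatingGroup (Fin 10)) ∨ Nonempty (G ≃* alternatingGroup (Fin 11)) := by
  have hG := no_hom_of_index hno
  obtain ⟨f', h', hc⟩ := Cfsg.Agent.LFourA.FusionMain.main h hG
  have hw' : IsConj w (f' (c k) (c k)) := by rw [z_eq h h']; exact hw
  have htz : ¬ IsConj (f' (c k) 1) (f' (c k) (c k)) := by
    rcases hc with hc | hc
    · exact hc.tz
    · exact hc.tz
  set N : Subgroup G := normalClosure ((P : Subgroup G) : Set G) with hNdef
  have hN : N.Normal := normalClosure_normal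
  have hPN : (P : Subgroup G) ≤ N := subset_normalClosure
  have hs : IsSimpleGroup N := H245.TypeA10.isSimple h' hG hO N hNdef
  have hom := H245.TypeA10.no_hom h' hG N hNdef
  have hR := restrict h' hPN
  obtain ⟨f3, h3, hc3⟩ := Cfsg.Agent.LFourA.FusionMain.main hR hom
  have hA : Nonempty (N ≃* alternatingGroup (Fin 10)) ∨ Nonempty (N ≃* alternatingGroup (Fin 11)) := by
    rcases hc3 with hc3 | hc3
    · exfalso
      obtain ⟨g, hg, -⟩ := hc3.w_t
      have h4 : IsConj w (f' (c k) 1) := by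
        rcases t_cases hR h3 with e | e
        · rw [e] at hg
          exact isConj_iff.2 ⟨g, congrArg Subtype.val hg⟩
        · rw [e] at hg
          exact (isConj_iff.2 ⟨g, congrArg Subtype.val hg⟩ : IsConj w (f' 1 (c k))).trans (isConj_t' h')
      exact htz (h4.symm.trans hw')
    · exact LFour.ExtMain.branchA2 N _ k f3 _ h3 hc3
  -- the centralizer
  have hC : centralizer (N : Set G) = ⊥ := by
    have hCn : (centralizer (N : Set G)).Normal := inferInstance
    by_contra hne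
    have h2 : 2 ∣ Nat.card (centralizer (N : Set G)) := by
      by_contra hodd
      apply hne
      have h3 : centralizer (N : Set G) ≤ Cfsg.pPrimeCore 2 G :=
        Cfsg.Agent.Lib.Cores.le_pPrimeCore hCn ((Nat.prime_two.coprime_iff_not_dvd.2 hodd).symm)
      exact le_bot_iff.1 (h3.trans (le_of_eq hO))
    have h4 := H245.TypeA10.le_of_even h' hG _ h2
    have h5 := h4 (f_mem h' (c k) 1)
    rw [mem_centralizer_iff] at h5
    have h6 := h5 w (hPN (w_mem h'))
    rw [h'.w_f] at h6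
    have h7 : f' 1 (c k) = f' (c k) 1 := mul_right_cancel h6
    rw [f_eq_iff h'] at h7
    exact c_ne_one h7.1.symm
  have htop : N = ⊤ := by
    apply AltAlt.top_of_out hno N hC
    rcases hA with ⟨⟨e⟩⟩ | ⟨⟨e⟩⟩
    · exact AltTrans.out_equiv e (AltTrans.out_alt (by norm_num))
    · exact AltTrans.out_equiv e (AltTrans.out_alt (by norm_num))
  have e0 : G ≃* N := (Subgroup.topEquiv.symm).trans (MulEquiv.subgroupCongr htop.symm)
  rcases hA with ⟨⟨e⟩⟩ | ⟨⟨e⟩⟩
  · exact Or.inl ⟨e0.trans e⟩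
  · exact Or.inr ⟨e0.trans e⟩

end

end Cfsg.Agent.H313.TenEnd
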