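import Mathlib
import Cfsg.Agent.H313.TenModel
import Cfsg.Agent.H313.TenEnd
import Cfsg.Agent.BpMon.Cube

/-!
# A 2-group with a subgroup `D₈ × D₈` which is the centralizer of an element (helper313)
-/

set_option autoImplicit false
set_option linter.unusedSectionVars false

namespace Cfsg.Agent.H313.TenDD

open DihedralGroup Cfsg.Agent.LFourA.Model Cfsg.Agent.LFourA.Base Cfsg.Agent.LFourA.Facts Cfsg.Agent.LFourA.Defs
open Cfsg.Agent.H313.TenModel Cfsg.Agent.H313.TenEnd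

/-- coordinates on a group `D₈ × D₈` -/
structure DD {G : Type*} [Group G] (T : Subgroup G) (F : D 0 → D 0 → G) : Prop where
  mul : ∀ a b a' b', F a b * F a' b' = F (a * a') (b * b')
  inj : ∀ a b, F a b = 1 → a = 1 ∧ b = 1
  mem_iff : ∀ g, g ∈ T ↔ ∃ a b, g = F a b

theorem comm_cases : ∀ x y : D 0, x * y * x⁻¹ * y⁻¹ = 1 ∨ x * y * x⁻¹ * y⁻¹ = c 0 := by decide +kernel

section

variable {G : Type*} [Group G] {T : Subgroup G} {F : D 0 → D 0 → G}

theorem DD.swap (h : DD T F) : DD T (fun a b => F b a) :=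
  ⟨fun a b a' b' => h.mul _ _ _ _, fun a b e => (h.inj _ _ e).symm, fun g => by
    rw [h.mem_iff]
    exact ⟨fun ⟨a, b, e⟩ => ⟨b, a, e⟩, fun ⟨a, b, e⟩ => ⟨b, a, e⟩⟩⟩

theorem DD.mem (h : DD T F) (a b : D 0) : F a b ∈ T := (h.mem_iff _).2 ⟨a, b, rfl⟩

theorem DD.one (h : DD T F) : F 1 1 = 1 := by
  have h1 := h.mul 1 1 1 1
  rw [one_mul] at h1
  exact mul_eq_left.1 h1

theorem DD.inv (h : DD T F) (a b : D 0) : (F a b)⁻¹ = F a⁻¹ b⁻¹ := by
  apply inv_eq_of_mul_eq_one_left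
  rw [h.mul, inv_mul_cancel, inv_mul_cancel, h.one]

theorem DD.eq_iff (h : DD T F) {a b a' b' : D 0} : F a b = F a' b' ↔ a = a' ∧ b = b' := by
  constructor
  · intro e
    have h1 : F (a * a'⁻¹) (b * b'⁻¹) = 1 := by rw [← h.mul, ← h.inv, e, mul_inv_cancel]
    obtain ⟨h2, h3⟩ := h.inj _ _ h1
    exact ⟨mul_inv_eq_one.1 h2, mul_inv_eq_one.1 h3⟩
  · rintro ⟨rfl, rfl⟩; rfl

theorem DD.comm (h : DD T F) (a b a' b' : D 0) : F a b * F a' b' * (F a b)⁻¹ * (F a' b')⁻¹ =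
    F (a * a' * a⁻¹ * a'⁻¹) (b * b' * b⁻¹ * b'⁻¹) := by
  rw [h.inv, h.inv, h.mul, h.mul, h.mul]

/-- central elements -/
theorem DD.central (h : DD T F) {g : G} (hg : g ∈ T) (hc : ∀ x ∈ T, g * x = x * g) :
    ∃ a b, g = F a b ∧ (a = 1 ∨ a = c 0) ∧ (b = 1 ∨ b = c 0) := by
  obtain ⟨a, b, rfl⟩ := (h.mem_iff _).1 hg
  refine ⟨a, b, rfl, eq_of_central fun x => ?_, eq_of_central fun x => ?_⟩
  · have := hc _ (h.mem x 1)
    rw [h.mul, h.mul, h.eq_iff] at this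
    exact this.1
  · have := hc _ (h.mem 1 x)
    rw [h.mul, h.mul, h.eq_iff] at this
    exact this.2

/-- conjugation does not carry `F c 1` to `F c c` -/
theorem DD.conj_ne (h : DD T F) {v : G} (hv : ∀ s, s ∈ T ↔ v * s * v⁻¹ ∈ T) :
    v * F (c 0) 1 * v⁻¹ ≠ F (c 0) (c 0) := by
  intro hvt
  obtain ⟨a, b, hab⟩ := (h.mem_iff _).1 ((hv _).1 (h.mem (sr 0) 1))
  have key : ∀ a' b', F (a * a' * a⁻¹ * a'⁻¹) (b * b' * b⁻¹ * b'⁻¹) = 1 ∨
      F (a * a' * a⁻¹ * a'⁻¹) (b * b' * b⁻¹ * b'⁻¹) = F (c 0) (c 0) := by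
    intro a' b'
    obtain ⟨x, y, hxy⟩ := (h.mem_iff _).1 ((hv (v⁻¹ * F a' b' * v)).2 (by
      have e : v * (v⁻¹ * F a' b' * v) * v⁻¹ = F a' b' := by group
      rw [e]; exact h.mem _ _))
    have e1 : F a' b' = v * F x y * v⁻¹ := by rw [← hxy]; group
    have e2 : F (a * a' * a⁻¹ * a'⁻¹) (b * b' * b⁻¹ * b'⁻¹) =
        v * (F (sr 0) 1 * F x y * (F (sr 0) 1)⁻¹ * (F x y)⁻¹) * v⁻¹ := by
      rw [← h.comm, ← hab, e1]; group
    rw [e2, h.comm]
    have e3 : (1 : D 0) * y * 1⁻¹ * y⁻¹ = 1 := by group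
    rw [e3]
    rcases comm_cases (sr 0) x with e4 | e4
    · left; rw [e4, h.one]; group
    · right; rw [e4, hvt]
  have ha : ∀ a', a * a' = a' * a := by
    intro a'
    have h1 := key a' 1
    have e3 : b * (1 : D 0) * b⁻¹ * 1⁻¹ = 1 := by group
    rw [e3] at h1
    rcases h1 with h1 | h1
    · have := (h.inj _ _ h1).1
      rw [mul_inv_eq_one] at this
      exact mul_inv_eq_iff_eq_mul.1 this
    · rw [h.eq_iff] at h1
      exact absurd h1.2.symm c_ne_one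
  have hb : ∀ a', b * a' = a' * b := by
    intro a'
    have h1 := key 1 a'
    have e3 : a * (1 : D 0) * a⁻¹ * 1⁻¹ = 1 := by group
    rw [e3] at h1
    rcases h1 with h1 | h1
    · have := (h.inj _ _ h1).2
      rw [mul_inv_eq_one] at this
      exact mul_inv_eq_iff_eq_mul.1 this
    · rw [h.eq_iff] at h1
      exact absurd h1.1.symm c_ne_one
  -- then `F (sr 0) 1` is central
  have h2 : ∀ x, (sr 0 : D 0) * x = x * sr 0 := by
    intro x
    obtain ⟨a', b', hxy⟩ := (h.mem_iff _).1 ((hv _).1 (h.mem x 1))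
    have h3 : F a b * F a' b' = F a' b' * F a b := by
      rw [h.mul, h.mul, ha, hb]
    rw [← hab, ← hxy] at h3
    have h4 : v * (F (sr 0) 1 * F x 1) * v⁻¹ = v * (F x 1 * F (sr 0) 1) * v⁻¹ := by
      calc v * (F (sr 0) 1 * F x 1) * v⁻¹ = v * F (sr 0) 1 * v⁻¹ * (v * F x 1 * v⁻¹) := by group
        _ = v * F x 1 * v⁻¹ * (v * F (sr 0) 1 * v⁻¹) := h3
        _ = _ := by group
    have h5 := mul_left_cancel (mul_right_cancel h4)
    rw [h.mul, h.mul, h.eq_iff] at h5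
    exact h5.1
  rcases eq_of_central h2 with e | e
  · exact sr_ne_one _ e
  · exact sr_ne_c _ e

/-- the images of the central elements -/
theorem DD.conj_t (h : DD T F) {v : G} (hv : ∀ s, s ∈ T ↔ v * s * v⁻¹ ∈ T) :
    v * F (c 0) 1 * v⁻¹ = F (c 0) 1 ∨ v * F (c 0) 1 * v⁻¹ = F 1 (c 0) := by
  obtain ⟨a, b, hab, ha, hb⟩ := h.central ((hv _).1 (h.mem (c 0) 1)) (by
    intro x hx
    obtain ⟨a', b', hxy⟩ := (h.mem_iff _).1 ((hv (v⁻¹ * x * v)).2 (by
      have e : v * (v⁻¹ * x * v) * v⁻¹ = x := by group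
      rw [e]; exact hx))
    have e1 : x = v * F a' b' * v⁻¹ := by rw [← hxy]; group
    rw [e1]
    have h2 : F (c 0) 1 * F a' b' = F a' b' * F (c 0) 1 := by
      rw [h.mul, h.mul, c_comm, one_mul, mul_one]
    calc v * F (c 0) 1 * v⁻¹ * (v * F a' b' * v⁻¹) = v * (F (c 0) 1 * F a' b') * v⁻¹ := by group
      _ = v * (F a' b' * F (c 0) 1) * v⁻¹ := by rw [h2]
      _ = _ := by group)
  have hne := h.conj_ne hv
  rw [hab] at hne ⊢
  rcases ha with rfl | rfl <;> rcases hb with rfl | rfl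
  · exfalso
    rw [h.one, conj_eq_one_iff] at hab
    exact c_ne_one (h.inj _ _ hab).1
  · exact Or.inr rfl
  · exact Or.inl rfl
  · exact absurd rfl hne

/-- the first coordinates of the conjugates -/
theorem DD.conj_fst (h : DD T F) {v : G} (hv : ∀ s, s ∈ T ↔ v * s * v⁻¹ ∈ T)
    (hvt : v * F (c 0) 1 * v⁻¹ = F 1 (c 0)) (y : D 0) : ∃ a b, v * F y 1 * v⁻¹ = F a b ∧ (a = 1 ∨ a = c 0) := by
  obtain ⟨a, b, hab⟩ := (h.mem_iff _).1 ((hv _).1 (h.mem y 1))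
  refine ⟨a, b, hab, eq_of_central fun a' => ?_⟩
  obtain ⟨x, z, hxz⟩ := (h.mem_iff _).1 ((hv (v⁻¹ * F a' 1 * v)).2 (by
    have e : v * (v⁻¹ * F a' 1 * v) * v⁻¹ = F a' 1 := by group
    rw [e]; exact h.mem _ _))
  have e1 : F a' 1 = v * F x z * v⁻¹ := by rw [← hxz]; group
  have e2 : F (a * a' * a⁻¹ * a'⁻¹) (b * 1 * b⁻¹ * 1⁻¹) =
      v * (F y 1 * F x z * (F y 1)⁻¹ * (F x z)⁻¹) * v⁻¹ := by
    rw [← h.comm, ← hab, e1]; group
  rw [h.comm] at e2
  have e3 : (1 : D 0) * z * 1⁻¹ * z⁻¹ = 1 := by group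
  have e3' : b * (1 : D 0) * b⁻¹ * 1⁻¹ = 1 := by group
  rw [e3, e3'] at e2
  rcases comm_cases y x with e4 | e4
  · rw [e4, h.one, mul_one, mul_inv_cancel] at e2
    have := (h.inj _ _ e2).1
    rw [mul_inv_eq_one] at this
    exact mul_inv_eq_iff_eq_mul.1 this
  · rw [e4, hvt, h.eq_iff] at e2
    exact absurd e2.2.symm c_ne_one

/-- the order of `T` -/
theorem DD.card (h : DD T F) : Nat.card T = 64 := by
  have e : (D 0 × D 0) ≃ T := Equiv.ofBijective (fun p => ⟨F p.1 p.2, h.mem _ _⟩) ⟨by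
    intro p q e
    obtain ⟨h1, h2⟩ := h.eq_iff.1 (congrArg Subtype.val e)
    exact Prod.ext h1 h2, by
    rintro ⟨x, hx⟩
    obtain ⟨a, b, rfl⟩ := (h.mem_iff _).1 hx
    exact ⟨(a, b), rfl⟩⟩
  rw [← Nat.card_congr e, Nat.card_prod, card_D]; norm_num

open Subgroup in
/-- **The wreath product.** -/
theorem DD.exists_dwr (h : DD T F) {S : Subgroup G} [Finite S] (hS : IsPGroup 2 S) (hle : T ≤ S) (hne : T ≠ S)
    (hcent : ∀ x ∈ S, x * F (c 0) 1 = F (c 0) 1 * x → x ∈ T) :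
    ∃ (f : D 0 → D 0 → G) (w : G), DWr S 0 f w ∧ DD T f ∧ f (c 0) 1 = F (c 0) 1 ∧ f 1 (c 0) = F 1 (c 0) := by
  have : Fact (Nat.Prime 2) := ⟨Nat.prime_two⟩
  obtain ⟨u, huS, huT, hu⟩ := BpMon.exists_normalizing hS hle hne
  have ht : u * F (c 0) 1 * u⁻¹ = F 1 (c 0) := by
    rcases h.conj_t hu with e | e
    · exact absurd (hcent u huS (mul_inv_eq_iff_eq_mul.1 e)) huT
    · exact e
  have ht' : u * F 1 (c 0) * u⁻¹ = F (c 0) 1 := by
    rcases h.swap.conj_t hu with e | e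
    · exfalso
      have e1 : u * F (c 0) 1 * u⁻¹ = u * F 1 (c 0) * u⁻¹ := ht.trans e.symm
      have e2 := mul_left_cancel (mul_right_cancel e1)
      rw [h.eq_iff] at e2
      exact c_ne_one e2.1
    · exact e
  -- the coordinates
  obtain ⟨f, hf⟩ : ∃ f : D 0 → D 0 → G, ∀ x y, f x y = F x 1 * (u * F y 1 * u⁻¹) := ⟨_, fun _ _ => rfl⟩
  have hcomm : ∀ x y, u * F y 1 * u⁻¹ * F x 1 = F x 1 * (u * F y 1 * u⁻¹) := by
    intro x y
    obtain ⟨a, b, e, ha⟩ := h.conj_fst hu ht y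
    rw [e, h.mul, h.mul, mul_one, one_mul]
    rcases ha with rfl | rfl
    · rw [one_mul, mul_one]
    · rw [c_comm]
  have hfm : ∀ a b a' b', f a b * f a' b' = f (a * a') (b * b') := by
    intro a b a' b'
    rw [hf, hf, hf]
    have e1 : F (a * a') 1 = F a 1 * F a' 1 := by rw [h.mul, one_mul]
    have e2 : F (b * b') 1 = F b 1 * F b' 1 := by rw [h.mul, one_mul]
    rw [e1, e2]
    calc F a 1 * (u * F b 1 * u⁻¹) * (F a' 1 * (u * F b' 1 * u⁻¹))
        = F a 1 * ((u * F b 1 * u⁻¹) * F a' 1) * (u * F b' 1 * u⁻¹) := by group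
      _ = F a 1 * (F a' 1 * (u * F b 1 * u⁻¹)) * (u * F b' 1 * u⁻¹) := by rw [hcomm]
      _ = _ := by group
  have hfi : ∀ a b, f a b = 1 → a = 1 ∧ b = 1 := by
    intro a b e
    rw [hf] at e
    obtain ⟨a', b', e1, ha'⟩ := h.conj_fst hu ht b
    have e2 := e
    rw [e1, h.mul] at e2
    obtain ⟨e3, e4⟩ := h.inj _ _ e2
    rw [one_mul] at e4
    subst e4
    rcases ha' with rfl | rfl
    · rw [mul_one] at e3
      subst e3
      rw [h.one, conj_eq_one_iff] at e1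
      exact ⟨rfl, (h.inj _ _ e1).1⟩
    · exfalso
      rw [← ht'] at e1
      have e5 := mul_left_cancel (mul_right_cancel e1)
      rw [h.eq_iff] at e5
      exact c_ne_one e5.2.symm
  have hfT : ∀ a b, f a b ∈ T := fun a b => by
    rw [hf]; exact T.mul_mem (h.mem _ _) ((hu _).1 (h.mem _ _))
  have hTf : ∀ g, g ∈ T ↔ ∃ a b, g = f a b := by
    have hcard := h.card
    have hT : Finite T := Nat.finite_of_card_ne_zero (by rw [hcard]; norm_num)
    have hbij : Function.Bijective (fun p : D 0 × D 0 => (⟨f p.1 p.2, hfT _ _⟩ : T)) := by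
      have hinj : Function.Injective (fun p : D 0 × D 0 => (⟨f p.1 p.2, hfT _ _⟩ : T)) := by
        intro p q e
        have e0 : f p.1 p.2 = f q.1 q.2 := congrArg Subtype.val e
        have f1 : f 1 1 = 1 := by
          have := hfm 1 1 1 1
          rw [one_mul] at this
          exact mul_eq_left.1 this
        have e1 : f (p.1 * q.1⁻¹) (p.2 * q.2⁻¹) = 1 := by
          rw [← hfm, e0, hfm, mul_inv_cancel, mul_inv_cancel, f1]
        obtain ⟨e2, e3⟩ := hfi _ _ e1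
        exact Prod.ext (mul_inv_eq_one.1 e2) (mul_inv_eq_one.1 e3)
      refine (Nat.bijective_iff_injective_and_card _).2 ⟨hinj, ?_⟩
      rw [hcard, Nat.card_prod, card_D]; norm_num
    intro g
    constructor
    · intro hg
      obtain ⟨⟨a, b⟩, e⟩ := hbij.2 ⟨g, hg⟩
      exact ⟨a, b, (congrArg Subtype.val e).symm⟩
    · rintro ⟨a, b, rfl⟩; exact hfT a b
  have h' : DD T f := ⟨hfm, hfi, hTf⟩
  have hf1 : f (c 0) 1 = F (c 0) 1 := by rw [hf, h.one]; group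
  have hf2 : f 1 (c 0) = F 1 (c 0) := by rw [hf, h.one, one_mul, ht]
  -- the square of `u`
  have huu : u * u ∈ T := by
    apply hcent _ (S.mul_mem huS huS)
    have e1 : u * u * F (c 0) 1 * (u * u)⁻¹ = F (c 0) 1 := by
      calc u * u * F (c 0) 1 * (u * u)⁻¹ = u * (u * F (c 0) 1 * u⁻¹) * u⁻¹ := by group
        _ = _ := by rw [ht, ht']
    exact mul_inv_eq_iff_eq_mul.1 e1
  obtain ⟨a, b, hab⟩ := (hTf _).1 huu
  have hu1 : ∀ x, u * f x 1 * u⁻¹ = f 1 x := by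
    intro x; rw [hf, hf, h.one]; group
  have hu2 : ∀ y, u * f 1 y * u⁻¹ = f (a * y * a⁻¹) 1 := by
    intro y
    have e1 : u * f 1 y * u⁻¹ = (u * u) * F y 1 * (u * u)⁻¹ := by rw [hf, h.one]; group
    have e2 : F y 1 = f y 1 := by rw [hf, h.one]; group
    rw [e1, hab, e2, h'.inv, hfm, hfm, mul_one, mul_inv_cancel]
  have huf : ∀ x y, u * f x y * u⁻¹ = f (a * y * a⁻¹) x := by
    intro x y
    have e1 : f x y = f x 1 * f 1 y := by rw [hfm, one_mul, mul_one]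
    calc u * f x y * u⁻¹ = (u * f x 1 * u⁻¹) * (u * f 1 y * u⁻¹) := by rw [e1]; group
      _ = f (a * y * a⁻¹) x := by rw [hu1, hu2, hfm, one_mul, mul_one]
  have hb : a = b := by
    have e1 := huf a b
    rw [← hab] at e1
    have e2 : u * (u * u) * u⁻¹ = u * u := by group
    rw [e2, hab, h'.eq_iff] at e1
    exact e1.2.symm
  subst hb
  -- the involution
  obtain ⟨w, hwdef⟩ : ∃ w, w = f a⁻¹ 1 * u := ⟨_, rfl⟩
  have hww : w * w = 1 := by
    calc w * w = f a⁻¹ 1 * (u * f a⁻¹ 1 * u⁻¹) * (u * u) := by rw [hwdef]; group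
      _ = 1 := by rw [hu1, hab, hfm, hfm, one_mul, mul_one, inv_mul_cancel, h'.one]
  have hwf : ∀ x y, w * f x y = f y x * w := by
    intro x y
    have e1 : w * f x y * w⁻¹ = f y x := by
      calc w * f x y * w⁻¹ = f a⁻¹ 1 * (u * f x y * u⁻¹) * (f a⁻¹ 1)⁻¹ := by rw [hwdef]; group
        _ = f y x := by
          rw [huf, h'.inv, hfm, hfm]
          congr 1 <;> group
    exact mul_inv_eq_iff_eq_mul.1 e1
  have hwT : w ∉ T := by
    intro hw
    apply huT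
    have e1 : u = (f a⁻¹ 1)⁻¹ * w := by rw [hwdef]; group
    rw [e1]
    exact T.mul_mem (T.inv_mem (hfT _ _)) hw
  have hwS : w ∈ S := by rw [hwdef]; exact S.mul_mem (hle (hfT _ _)) huS
  -- the subgroup
  let R : Subgroup G :=
    { carrier := {g | (∃ a b, g = f a b) ∨ ∃ a b, g = f a b * w}
      mul_mem' := by
        rintro _ _ (⟨a, b, rfl⟩ | ⟨a, b, rfl⟩) (⟨a', b', rfl⟩ | ⟨a', b', rfl⟩)
        · exact Or.inl ⟨_, _, hfm _ _ _ _⟩
        · exact Or.inr ⟨_, _, by rw [← mul_assoc, hfm]⟩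
        · exact Or.inr ⟨_, _, by rw [mul_assoc, hwf, ← mul_assoc, hfm]⟩
        · refine Or.inl ⟨a * b', b * a', ?_⟩
          rw [mul_assoc, ← mul_assoc w, hwf, mul_assoc, hww, mul_one, hfm]
      one_mem' := Or.inl ⟨1, 1, h'.one.symm⟩
      inv_mem' := by
        rintro _ (⟨a, b, rfl⟩ | ⟨a, b, rfl⟩)
        · exact Or.inl ⟨_, _, h'.inv _ _⟩
        · refine Or.inr ⟨b⁻¹, a⁻¹, ?_⟩
          have hwi : w⁻¹ = w := inv_eq_of_mul_eq_one_left hww
          rw [mul_inv_rev, hwi, h'.inv, hwf] }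
  have hRd : DWr R 0 f w :=
    ⟨hfm, hfi, hww, hwf, fun x y e => hwT (by rw [e]; exact hfT _ _), fun g => Iff.rfl⟩
  have hRS : R ≤ S := by
    rintro _ (⟨a, b, rfl⟩ | ⟨a, b, rfl⟩)
    · exact hle (hfT _ _)
    · exact S.mul_mem (hle (hfT _ _)) hwS
  have hRS' : R = S := by
    by_contra hne'
    obtain ⟨v, hvS, hvR, hv⟩ := BpMon.exists_normalizing hS hRS hne'
    have hm := dwr_map hRd (MulAut.conj v).toMonoidHom (MulAut.conj v).injective
    have hmR : R.map (MulAut.conj v).toMonoidHom = R := by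
      ext x
      constructor
      · rintro ⟨y, hy, rfl⟩; exact (hv y).1 hy
      · intro hx
        refine ⟨v⁻¹ * x * v, (hv _).2 ?_, ?_⟩
        · have e : v * (v⁻¹ * x * v) * v⁻¹ = x := by group
          rw [e]; exact hx
        · change v * (v⁻¹ * x * v) * v⁻¹ = x
          group
    rw [hmR] at hm
    rcases t_cases hRd hm with e | e
    · apply hvR
      apply (hTf _).1 _ |> Or.inl
      apply hcent v hvS
      rw [← hf1]
      exact mul_inv_eq_iff_eq_mul.1 e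
    · have e1 : v * f (c 0) 1 * v⁻¹ = f 1 (c 0) := e
      have e2 : w⁻¹ * v ∈ T := by
        apply hcent _ (S.mul_mem (S.inv_mem hwS) hvS)
        rw [← hf1]
        have e3 : w⁻¹ * v * f (c 0) 1 * (w⁻¹ * v)⁻¹ = f (c 0) 1 := by
          calc w⁻¹ * v * f (c 0) 1 * (w⁻¹ * v)⁻¹ = w⁻¹ * (v * f (c 0) 1 * v⁻¹) * w := by group
            _ = f (c 0) 1 := by rw [e1, w_conj' hRd]
        exact mul_inv_eq_iff_eq_mul.1 e3
      apply hvR
      have e4 : v = w * (w⁻¹ * v) := by group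
      rw [e4]
      exact R.mul_mem (w_mem hRd) ((hTf _).1 e2 |> Or.inl)
  rw [hRS'] at hRd
  exact ⟨f, w, hRd, h', hf1, hf2⟩

end

/-! ### Parities -/

instance finZ : Fintype (ZMod (4 * 2 ^ 0)) := inferInstanceAs (Fintype (ZMod 4))

theorem par1 : ∀ a b : D 0, a * a = 1 → b * b = 1 → (a * b) * (a * b) = c 0 →
    ∃ i j, a = sr i ∧ b = sr j ∧ pa i ≠ pa j := by decide +kernel

theorem par2 : ∀ a : D 0, ∀ b : D 0, b * b = c 0 → a * a = 1 → a * b = b * a → a = 1 ∨ a = c 0 := by decide +kernel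

theorem par3 : ∀ a : D 0, ∀ b : D 0, b * b = c 0 → a * a = 1 → a * b ≠ b * a → ∃ i, a = sr i := by decide +kernel

theorem par4 : ∀ a : D 0, ∀ i j : ZMod (4 * 2 ^ 0), pa i ≠ pa j → a * sr i = sr i * a → a * sr j = sr j * a →
    a = 1 ∨ a = c 0 := by decide +kernel

theorem par5 : ∀ a : D 0, (a = 1 ∨ a = c 0) → ∀ i : ZMod (4 * 2 ^ 0), ∃ j, a * sr i = sr j ∧ pa j = pa i := by
  decide +kernel

theorem par6 : ∀ a : D 0, (a = 1 ∨ a = c 0) → ∀ i : ZMod (4 * 2 ^ 0), ∃ j, sr i * a = sr j ∧ pa j = pa i := by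
  decide +kernel

section

variable {G : Type*} [Group G] {T : Subgroup G} {F f : D 0 → D 0 → G}

/-- **Parities of the pairs of reflections.** -/
theorem parity (hF : DD T F) (hf : DD T f) (h1 : f (c 0) 1 = F (c 0) 1) (h2 : f 1 (c 0) = F 1 (c 0)) :
    ∃ i j i' j', F (sr 0) (sr 0) = f (sr i) (sr j) ∧ F (sr 0) (sr 1) = f (sr i') (sr j') ∧
      pa i = pa i' ∧ pa j ≠ pa j' := by
  have ex : ∀ a b, ∃ a' b', F a b = f a' b' := fun a b => (hf.mem_iff _).1 (hF.mem a b)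
  obtain ⟨a1, b1, e1⟩ := ex (sr 0) 1
  obtain ⟨a2, b2, e2⟩ := ex (x0 0) 1
  obtain ⟨a3, b3, e3⟩ := ex 1 (sr 0)
  obtain ⟨a4, b4, e4⟩ := ex 1 (sr 1)
  have q1 : a1 * a1 = 1 ∧ b1 * b1 = 1 := by
    apply hf.inj
    rw [← hf.mul, ← e1, hF.mul, sr_mul_self, one_mul, hF.one]
  have q2 : a2 * a2 = c 0 := by
    have : f (a2 * a2) (b2 * b2) = f (c 0) 1 := by
      rw [← hf.mul, ← e2, hF.mul, x0_mul_x0, one_mul, h1]
    exact (hf.eq_iff.1 this).1
  have q3 : a3 * a3 = 1 ∧ b3 * b3 = 1 := by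
    apply hf.inj
    rw [← hf.mul, ← e3, hF.mul, sr_mul_self, one_mul, hF.one]
  have q4 : a4 * a4 = 1 ∧ b4 * b4 = 1 := by
    apply hf.inj
    rw [← hf.mul, ← e4, hF.mul, sr_mul_self, one_mul, hF.one]
  have q34 : (b3 * b4) * (b3 * b4) = c 0 := by
    have e5 : (sr 0 : D 0) * sr 1 * (sr 0 * sr 1) = c 0 := by decide +kernel
    have : f ((a3 * a4) * (a3 * a4)) ((b3 * b4) * (b3 * b4)) = f 1 (c 0) := by
      rw [← hf.mul, ← hf.mul, ← e3, ← e4, hF.mul, hF.mul, e5, one_mul, one_mul, h2]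
    exact (hf.eq_iff.1 this).2
  have c13 : b1 * b3 = b3 * b1 := by
    have : f (a1 * a3) (b1 * b3) = f (a3 * a1) (b3 * b1) := by
      rw [← hf.mul, ← hf.mul, ← e1, ← e3, hF.mul, hF.mul]; simp only [one_mul, mul_one]
    exact (hf.eq_iff.1 this).2
  have c14 : b1 * b4 = b4 * b1 := by
    have : f (a1 * a4) (b1 * b4) = f (a4 * a1) (b4 * b1) := by
      rw [← hf.mul, ← hf.mul, ← e1, ← e4, hF.mul, hF.mul]; simp only [one_mul, mul_one]
    exact (hf.eq_iff.1 this).2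
  have c32 : a3 * a2 = a2 * a3 := by
    have : f (a3 * a2) (b3 * b2) = f (a2 * a3) (b2 * b3) := by
      rw [← hf.mul, ← hf.mul, ← e2, ← e3, hF.mul, hF.mul]; simp only [one_mul, mul_one]
    exact (hf.eq_iff.1 this).1
  have c42 : a4 * a2 = a2 * a4 := by
    have : f (a4 * a2) (b4 * b2) = f (a2 * a4) (b2 * b4) := by
      rw [← hf.mul, ← hf.mul, ← e2, ← e4, hF.mul, hF.mul]; simp only [one_mul, mul_one]
    exact (hf.eq_iff.1 this).1
  have n12 : a1 * a2 ≠ a2 * a1 := by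
    intro e
    have e5 : F (sr 0) 1 * F (x0 0) 1 * (F (sr 0) 1)⁻¹ * (F (x0 0) 1)⁻¹ = F (c 0) 1 := by
      rw [hF.comm]
      have e6 : (sr 0 : D 0) * x0 0 * (sr 0)⁻¹ * (x0 0)⁻¹ = c 0 := by decide +kernel
      rw [e6]; simp
    rw [e1, e2, hf.comm, ← h1, hf.eq_iff] at e5
    rw [e, mul_inv_cancel_right, mul_inv_cancel] at e5
    exact c_ne_one e5.1.symm
  obtain ⟨j, j', rfl, rfl, hj⟩ := par1 b3 b4 q3.2 q4.2 q34
  obtain ⟨i, rfl⟩ := par3 a1 a2 q2 q1.1 n12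
  have hb1 := par4 b1 j j' hj c13 c14
  have ha3 := par2 a3 a2 q2 q3.1 c32
  have ha4 := par2 a4 a2 q2 q4.1 c42
  obtain ⟨i1, g1, p1⟩ := par6 a3 ha3 i
  obtain ⟨i2, g2, p2⟩ := par6 a4 ha4 i
  obtain ⟨j1, g3, p3⟩ := par5 b1 hb1 j
  obtain ⟨j2, g4, p4⟩ := par5 b1 hb1 j'
  refine ⟨i1, j1, i2, j2, ?_, ?_, by rw [p1, p2], by rw [p3, p4]; exact hj⟩
  · rw [← g1, ← g3, ← hf.mul, ← e1, ← e3, hF.mul, one_mul, mul_one]
  · rw [← g2, ← g4, ← hf.mul, ← e1, ← e4, hF.mul, one_mul, mul_one]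

/-- the base group -/
theorem dd_base {S : Subgroup G} {w : G} (h : DWr S 0 f w) : DD (base h) f :=
  ⟨h.f_mul, h.f_inj, fun _ => Iff.rfl⟩

/-- **Case I is impossible if `F (sr 0) (sr 0)` and `F (sr 0) (sr 1)` are conjugate.** -/
theorem not_caseI {S : Subgroup G} {w : G} (h : DWr S 0 f w) (hF : DD (base h) F) (hc : CaseI f w)
    (h12 : (f (c 0) 1 = F (c 0) 1 ∧ f 1 (c 0) = F 1 (c 0)) ∨ (f (c 0) 1 = F 1 (c 0) ∧ f 1 (c 0) = F (c 0) 1))
    (hconj : IsConj (F (sr 0) (sr 0)) (F (sr 0) (sr 1))) : False := by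
  have key : ∀ i j i' j', pa i = pa i' → pa j ≠ pa j' → IsConj (f (sr i) (sr j)) (f (sr i') (sr j')) → False := by
    intro i j i' j' hi hj hc'
    have z2 : ∀ x y z : ZMod 2, x ≠ y → (z = x ∧ z ≠ y) ∨ (z ≠ x ∧ z = y) := by decide
    rcases z2 _ _ (pa i) hj with ⟨h1, h2⟩ | ⟨h1, h2⟩
    · exact hc.tz ((hc.same i j h1).symm.trans (hc'.trans (hc.diff i' j' (by rw [← hi]; exact h2))))
    · exact hc.tz ((hc.same i' j' (by rw [← hi]; exact h2)).symm.trans (hc'.symm.trans (hc.diff i j h1)))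
  rcases h12 with ⟨h1, h2⟩ | ⟨h1, h2⟩
  · obtain ⟨i, j, i', j', e1, e2, hi, hj⟩ := parity hF (dd_base h) h1 h2
    rw [e1, e2] at hconj
    exact key i j i' j' hi hj hconj
  · obtain ⟨i, j, i', j', e1, e2, hi, hj⟩ := parity hF (dd_base h).swap h2 h1
    rw [e1, e2] at hconj
    -- symmetric
    have z2 : ∀ x y z : ZMod 2, x ≠ y → (x = z ∧ y ≠ z) ∨ (x ≠ z ∧ y = z) := by decide
    rcases z2 _ _ (pa i) hj with ⟨h1, h2⟩ | ⟨h1, h2⟩
    · exact hc.tz ((hc.same j i h1).symm.trans (hconj.trans (hc.diff j' i' (by rw [← hi]; exact h2))))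
    · exact hc.tz ((hc.same j' i' (by rw [← hi]; exact h2)).symm.trans (hconj.symm.trans (hc.diff j i h1)))

end

end Cfsg.Agent.H313.TenDD
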