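import Mathlib
import Cfsg.Agent.H313.TenDD
import Cfsg.Agent.H313.TenEnd
import Cfsg.Agent.H313.Red
import Cfsg.Agent.S3113
import Cfsg.Agent.S3309
import Cfsg.Agent.PLocal.ThompsonFrattini
import Cfsg.Agent.H217.Prof

/-!
# Sylow 2-subgroups `D₈ × D₈` (helper313)
-/

set_option autoImplicit false
set_option linter.unusedSectionVars false

namespace Cfsg.Agent.H313.TenEq

open DihedralGroup Cfsg.Agent.LFourA.Model Cfsg.Agent.H313.TenModel Cfsg.Agent.H313.TenDD
open Subgroup

universe u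

/-- the homomorphism onto the center -/
def zc : Multiplicative (ZMod 2) →* D 0 where
  toFun m := if m = 1 then 1 else c 0
  map_one' := if_pos rfl
  map_mul' := by decide

theorem zc_cases : ∀ m, zc m = 1 ∨ zc m = c 0 := by decide

theorem zc_inj : ∀ m, zc m = 1 → m = 1 := by decide

theorem zc_surj : ∀ x : D 0, (x = 1 ∨ x = c 0) → ∃ m, zc m = x := by decide

theorem three : ∀ Q : Finset (D 0), c 0 ∈ Q → 1 ∈ Q → (∀ x ∈ Q, ∀ y ∈ Q, x * y ∈ Q) →
    (∀ x ∈ Q, x = 1 ∨ x = c 0) ∨ Q.card = 4 ∨ Q = Finset.univ := by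
  decide +kernel

section simple

variable {M : Type u} [Group M] [Finite M] [hM : IsSimpleGroup M] {T : Subgroup M} {F : D 0 → D 0 → M}

theorem two_dvd (hT : DD T F) : 2 ∣ Nat.card M := by
  have h1 := card_subgroup_dvd_card T
  rw [hT.card] at h1
  exact (by norm_num : 2 ∣ 64).trans h1

/-- **A simple group does not have Sylow 2-subgroups `D₈ × D₈`.** -/
theorem not_simple (hT : DD T F) (S : Sylow 2 M) (hS : (S : Subgroup M) = T) : False := by
  have h2 := two_dvd hT
  have hsub : ∀ N : Subgroup M, N.Normal → N = ⊥ ∨ N = ⊤ := fun N hN => hN.eq_bot_or_eq_top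
  have hcardM : 64 ≤ Nat.card M := by
    rw [← hT.card]; exact Nat.le_of_dvd Nat.card_pos (card_subgroup_dvd_card T)
  have hO : Cfsg.oddCore M = ⊥ := by
    rcases hsub _ (Cfsg.Agent.Lib.Cores.pPrimeCore_normal 2 : (Cfsg.oddCore M).Normal) with e | e
    · exact e
    · exfalso
      have h3 := Cfsg.Agent.Lib.Cores.pPrimeCore_coprime (G := M) 2
      have e' : Cfsg.pPrimeCore 2 M = ⊤ := e
      rw [e', Subgroup.card_top] at h3
      exact (Nat.prime_two.coprime_iff_not_dvd.1 h3.symm) h2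
  let D1 : Subgroup M :=
    { carrier := {g | ∃ a, g = F a 1}
      mul_mem' := by rintro _ _ ⟨a, rfl⟩ ⟨b, rfl⟩; exact ⟨a * b, by rw [hT.mul, one_mul]⟩
      one_mem' := ⟨1, hT.one.symm⟩
      inv_mem' := by rintro _ ⟨a, rfl⟩; exact ⟨a⁻¹, by rw [hT.inv, inv_one]⟩ }
  let D2 : Subgroup M :=
    { carrier := {g | ∃ a, g = F 1 a}
      mul_mem' := by rintro _ _ ⟨a, rfl⟩ ⟨b, rfl⟩; exact ⟨a * b, by rw [hT.mul, one_mul]⟩
      one_mem' := ⟨1, hT.one.symm⟩
      inv_mem' := by rintro _ ⟨a, rfl⟩; exact ⟨a⁻¹, by rw [hT.inv, inv_one]⟩ }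
  have hprod : Cfsg.IsInternalDirectProduct D1 D2 (S : Subgroup M) := by
    rw [hS]
    refine ⟨?_, ?_, ?_, ?_, ?_⟩
    · rintro _ ⟨a, rfl⟩; exact hT.mem _ _
    · rintro _ ⟨a, rfl⟩; exact hT.mem _ _
    · rintro _ ⟨a, rfl⟩ _ ⟨b, rfl⟩
      rw [hT.mul, hT.mul]; simp
    · rw [eq_bot_iff]
      rintro _ ⟨⟨a, rfl⟩, ⟨b, e⟩⟩
      rw [hT.eq_iff] at e
      rw [e.1, hT.one]; exact one_mem _
    · apply le_antisymm
      · apply sup_le
        · rintro _ ⟨a, rfl⟩; exact hT.mem _ _
        · rintro _ ⟨a, rfl⟩; exact hT.mem _ _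
      · intro g hg
        obtain ⟨a, b, rfl⟩ := (hT.mem_iff _).1 hg
        have e : F a b = F a 1 * F 1 b := by rw [hT.mul, one_mul, mul_one]
        rw [e]
        exact mul_mem (mem_sup_left ⟨a, rfl⟩) (mem_sup_right ⟨b, rfl⟩)
  have e1 : Nonempty (D1 ≃* DihedralGroup (4 * 2 ^ 0)) := by
    refine ⟨(MulEquiv.ofBijective ({ toFun := fun a => ⟨F a 1, a, rfl⟩
                                     map_one' := Subtype.ext hT.one
                                     map_mul' := fun a b => Subtype.ext (by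
                                       change F (a * b) 1 = F a 1 * F b 1
                                       rw [hT.mul, one_mul]) } : D 0 →* D1) ⟨?_, ?_⟩).symm⟩
    · intro a b e
      exact (hT.eq_iff.1 (congrArg Subtype.val e)).1
    · rintro ⟨_, a, rfl⟩; exact ⟨a, rfl⟩
  have e2 : Nonempty (D2 ≃* DihedralGroup (4 * 2 ^ 0)) := by
    refine ⟨(MulEquiv.ofBijective ({ toFun := fun a => ⟨F 1 a, a, rfl⟩
                                     map_one' := Subtype.ext hT.one
                                     map_mul' := fun a b => Subtype.ext (by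
                                       change F 1 (a * b) = F 1 a * F 1 b
                                       rw [hT.mul, one_mul]) } : D 0 →* D2) ⟨?_, ?_⟩).symm⟩
    · intro a b e
      exact (hT.eq_iff.1 (congrArg Subtype.val e)).2
    · rintro ⟨_, a, rfl⟩; exact ⟨a, rfl⟩
  obtain ⟨G₁, G₂, hn1, hn2, hG, S₁, S₂, -, ⟨m₁, hm₁, ⟨f1⟩⟩, ⟨m₂, hm₂, ⟨f2⟩⟩, hS1, hS2, -, -⟩ :=
    Cfsg.Agent.S3113.result hO (by
      intro N hN hodd
      rcases hsub N hN with e | e
      · exfalso
        rw [e, index_bot] at hodd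
        exact (Nat.not_even_iff_odd.2 hodd) (even_iff_two_dvd.2 h2)
      · exact e) (by
      intro N hN e
      rcases hsub N hN with e1 | e1
      · rw [e1, index_bot] at e
        omega
      · rw [e1, index_top] at e
        omega) S (by
      rintro ⟨⟨hc⟩⟩
      have h3 := hc ⟨F (sr 0) 1, by rw [hS]; exact hT.mem _ _⟩ ⟨F (sr 1) 1, by rw [hS]; exact hT.mem _ _⟩
      have h4 : F (sr 0) 1 * F (sr 1) 1 = F (sr 1) 1 * F (sr 0) 1 := congrArg Subtype.val h3
      rw [hT.mul, hT.mul, hT.eq_iff] at h4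
      exact absurd h4.1 (by decide)) D1 D2 hprod ⟨_, by norm_num, e1⟩ ⟨_, by norm_num, e2⟩
  have nb : ∀ {G S : Subgroup M} {m : ℕ}, 2 ≤ m → S ≤ G → (S ≃* DihedralGroup m) → G.Normal → G = ⊤ := by
    intro G S m hm hSG f hG
    rcases hsub G hG with e | e
    · exfalso
      rw [e] at hSG
      have h5 : Subsingleton S := by
        constructor
        intro a b
        apply Subtype.ext
        rw [mem_bot.1 (hSG a.2), mem_bot.1 (hSG b.2)]
      have h6 := f.symm.injective (Subsingleton.elim (f.symm (sr 0)) (f.symm 1))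
      cases h6
    · exact e
  have g1 := nb hm₁ hS1 f1 hn1
  have g2 := nb hm₂ hS2 f2 hn2
  have h7 := hG.2.2.2.1
  rw [g1, g2, inf_top_eq] at h7
  have h8 : Nat.card M = 1 := by
    rw [← Subgroup.card_top, h7, Subgroup.card_bot]
  omega

end simple

section main

variable {X : Type u} [Group X] [Finite X] {T : Subgroup X} {F : D 0 → D 0 → X}

theorem pow_inj {a b : ℕ} (h : 2 ^ a = 2 ^ b) : a = b := Nat.pow_right_injective (le_refl 2) h

/-- **The Sylow 2-subgroups are not `D₈ × D₈`.** -/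
theorem eq_case (hno : ∀ H : Subgroup X, H.index ≠ 2) (M : Subgroup X) [hMn : M.Normal] [hM : IsSimpleGroup M]
    (hna : ∃ a ∈ M, ∃ b ∈ M, a * b ≠ b * a) (hT : DD T F) (S : Sylow 2 X) (hS : (S : Subgroup X) = T)
    (hF1 : ∀ b, F 1 b ∈ M) (htM : F (c 0) 1 ∈ M) : False := by
  classical
  have : Fact (Nat.Prime 2) := ⟨Nat.prime_two⟩
  have hmem : ∀ x y, F x y ∈ M ↔ F x 1 ∈ M := by
    intro x y
    have e : F x y = F x 1 * F 1 y := by rw [hT.mul, one_mul, mul_one]
    rw [e]
    exact M.mul_mem_cancel_right (hF1 y)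
  obtain ⟨R, hR⟩ := Cfsg.Agent.PLocal.ThompsonFrattini.exists_sylow_subgroupOf S M
  have hRmem : ∀ g : M, g ∈ (R : Subgroup M) ↔ (g : X) ∈ T := by
    intro g
    rw [hR, hS, mem_subgroupOf]
  set Q : Finset (D 0) := Finset.univ.filter (fun x => F x 1 ∈ M) with hQ
  have hQm : ∀ x, x ∈ Q ↔ F x 1 ∈ M := fun x => by rw [hQ, Finset.mem_filter]; simp
  rcases three Q ((hQm _).2 htM) ((hQm _).2 (hF1 1)) (by
    intro x hx y hy
    rw [hQm] at hx hy ⊢
    have e : F (x * y) 1 = F x 1 * F y 1 := by rw [hT.mul, one_mul]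
    rw [e]; exact M.mul_mem hx hy) with h1 | h1 | h1
  · -- `2 × D₈`
    have hzM : ∀ m y, F (zc m) y ∈ M := by
      intro m y
      rw [hmem]
      rcases zc_cases m with e | e <;> rw [e]
      · exact hF1 1
      · exact htM
    let φ : Multiplicative (ZMod 2) × D 0 →* (R : Subgroup M) :=
      { toFun := fun p => ⟨⟨F (zc p.1) p.2, hzM _ _⟩, (hRmem _).2 (hT.mem _ _)⟩
        map_one' := Subtype.ext (Subtype.ext (by
          change F (zc 1) 1 = 1
          rw [map_one, hT.one]))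
        map_mul' := fun p q => Subtype.ext (Subtype.ext (by
          change F (zc (p.1 * q.1)) (p.2 * q.2) = F (zc p.1) p.2 * F (zc q.1) q.2
          rw [hT.mul, map_mul])) }
    have hφ : Function.Bijective φ := by
      constructor
      · rw [injective_iff_map_eq_one]
        rintro ⟨m, y⟩ e
        have e1 : F (zc m) y = 1 := congrArg (fun g : (R : Subgroup M) => ((g : M) : X)) e
        obtain ⟨e2, e3⟩ := hT.inj _ _ e1
        exact Prod.ext (zc_inj m e2) e3
      · rintro ⟨⟨g, hgM⟩, hgR⟩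
        obtain ⟨a, b, e⟩ := (hT.mem_iff _).1 ((hRmem _).1 hgR)
        change g = F a b at e
        subst e
        obtain ⟨m, rfl⟩ := zc_surj a (h1 a ((hQm _).2 ((hmem _ _).1 hgM)))
        exact ⟨(m, b), rfl⟩
    apply Cfsg.Agent.S3309.result R ⟨(MulEquiv.ofBijective φ hφ).symm⟩
    rintro ⟨⟨hc⟩⟩
    obtain ⟨a, ha, b, hb, hab⟩ := hna
    exact hab (congrArg Subtype.val (hc ⟨a, ha⟩ ⟨b, hb⟩))
  · -- index two
    have hcR : Nat.card (R : Subgroup M) = 32 := by
      have e : (Q × D 0) ≃ (R : Subgroup M) := Equiv.ofBijective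
        (fun p => ⟨⟨F p.1 p.2, (hmem _ _).2 ((hQm _).1 p.1.2)⟩, (hRmem _).2 (hT.mem _ _)⟩) ⟨by
        intro p q e
        have e1 : F p.1 p.2 = F q.1 q.2 := congrArg (fun g : (R : Subgroup M) => ((g : M) : X)) e
        obtain ⟨e2, e3⟩ := hT.eq_iff.1 e1
        exact Prod.ext (Subtype.ext e2) e3, by
        rintro ⟨⟨g, hgM⟩, hgR⟩
        obtain ⟨a, b, e⟩ := (hT.mem_iff _).1 ((hRmem _).1 hgR)
        change g = F a b at e
        subst e
        exact ⟨(⟨a, (hQm _).2 ((hmem _ _).1 hgM)⟩, b), rfl⟩⟩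
      rw [← Nat.card_congr e, Nat.card_prod, card_D, Nat.card_eq_fintype_card, Fintype.card_coe, h1]
      norm_num
    have e1 := R.card_eq_multiplicity
    have e2 := S.card_eq_multiplicity
    rw [hcR] at e1
    rw [hS, hT.card] at e2
    have e3 : (Nat.card M).factorization 2 = 5 := (pow_inj (show 2 ^ 5 = _ from e1)).symm
    have e4 : (Nat.card X).factorization 2 = 6 := (pow_inj (show 2 ^ 6 = _ from e2)).symm
    have e5 : Nat.card X = Nat.card (X ⧸ M) * Nat.card M := Subgroup.card_eq_card_quotient_mul_card_subgroup M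
    have n1 : Nat.card (X ⧸ M) ≠ 0 := Nat.card_pos.ne'
    have n2 : Nat.card M ≠ 0 := Nat.card_pos.ne'
    rw [e5, Nat.factorization_mul n1 n2, Finsupp.add_apply, e3] at e4
    have e6 : (Nat.card (X ⧸ M)).factorization 2 = 1 := by omega
    have d1 : 2 ∣ Nat.card (X ⧸ M) := by
      have := (Nat.Prime.pow_dvd_iff_le_factorization Nat.prime_two (k := 1) n1).2 e6.ge
      simpa using this
    have d2 : ¬ 4 ∣ Nat.card (X ⧸ M) := by
      intro h4
      have := (Nat.Prime.pow_dvd_iff_le_factorization Nat.prime_two (k := 2) n1).1 (by simpa using h4)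
      omega
    obtain ⟨ψ, x, hx⟩ := Cfsg.Agent.H217.Pf.exists_hom d1 d2
    exact hx (TenEnd.no_hom_of_index (Red.quot_no_two M hno) ψ x)
  · -- `T ≤ M`
    have hTM : T ≤ M := by
      intro g hg
      obtain ⟨a, b, rfl⟩ := (hT.mem_iff _).1 hg
      rw [hmem, ← hQm, h1]
      exact Finset.mem_univ _
    have hT' : DD (T.subgroupOf M) (fun a b => ⟨F a b, hTM (hT.mem a b)⟩) := by
      refine ⟨fun a b a' b' => Subtype.ext (hT.mul _ _ _ _), fun a b e => hT.inj _ _ (congrArg Subtype.val e), ?_⟩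
      intro g
      rw [mem_subgroupOf, hT.mem_iff]
      constructor
      · rintro ⟨a, b, e⟩; exact ⟨a, b, Subtype.ext e⟩
      · rintro ⟨a, b, e⟩; exact ⟨a, b, congrArg Subtype.val e⟩
    exact not_simple hT' R (by rw [hR, hS])

end main

end Cfsg.Agent.H313.TenEq
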