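import Mathlib
import Cfsg.Agent.H313.TenModel
import Cfsg.Agent.H313.TenEnd
import Cfsg.Agent.H313.AltCard

/-!
# Centralizers of involutions moving eight points in the alternating groups of degree ten and eleven (helper313)
-/

set_option autoImplicit false
set_option linter.unusedSectionVars false

namespace Cfsg.Agent.H313.TenTwo

open DihedralGroup Cfsg.Agent.LFourA.Model Cfsg.Agent.LFourA.Base Cfsg.Agent.LFourA.Facts Cfsg.Agent.LFourA.Defs
open Subgroup Equiv Equiv.Perm Cfsg.Agent.H313.Alt Cfsg.Agent.H313.TenModel Cfsg.Agent.H313.TenEnd Cfsg.Agent.H313.AltCard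

universe u

theorem card_dvd_sylow {G : Type*} [Group G] [Finite G] (P : Sylow 2 G) (S : Subgroup G) (hS : IsPGroup 2 S) :
    Nat.card S ∣ Nat.card P := by
  obtain ⟨Q, hQ⟩ := hS.exists_le_sylow
  have h1 := card_dvd_of_le hQ
  have h2 : Nat.card Q = Nat.card P := Nat.card_congr (Sylow.equiv Q P).toEquiv
  rw [← h2]; exact h1

theorem two_pow_dvd {a m n : ℕ} (h : 2 ^ a ∣ 2 ^ n * m) (hm : ¬ 2 ∣ m) : 2 ^ a ∣ 2 ^ n := by
  have h1 : Nat.Coprime (2 ^ a) m := Nat.Coprime.pow_left _ ((Nat.prime_two.coprime_iff_not_dvd).2 hm)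
  exact Nat.Coprime.dvd_of_dvd_mul_right h1 h

variable {Ω : Type*} [DecidableEq Ω] [Fintype Ω] {s : Perm Ω} {G : Type u} [Group G] [Finite G] {z : G}

/-- **Coordinates on a Sylow 2-subgroup.** -/
theorem exists_coord (hs : s * s = 1) (h8 : s.support.card = 8)
    (h10 : Fintype.card Ω = 10 ∨ Fintype.card Ω = 11) (e : ↥(CC s) ≃* ↥(centralizer ({z} : Set G)))
    (hz1 : z ≠ 1) (hzz : z * z = 1) (P : Sylow 2 G) (hP : ∀ x ∈ (P : Subgroup G), x * z = z * x) :
    ∃ (Q : Sylow 2 G) (f : D 0 → D 0 → G) (w : G), DWr (Q : Subgroup G) 0 f w ∧ f (c 0) (c 0) = z ∧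
      ∀ g, g * z = z * g → g * w * g⁻¹ ≠ f (c 0) 1 ∧ g * w * g⁻¹ ≠ f 1 (c 0) := by
  obtain ⟨ι, hi, hi0, hisg, hisup, -⟩ := exists_emb (Ω := Ω) (s0 := s2) (s := s) (by omega) (by decide +kernel) hs
    (by rw [h8, supp_s2])
  obtain ⟨S0, hS0⟩ := exists_model
  have hle : S0.map ι ≤ CC s := by
    rintro _ ⟨x, hx, rfl⟩
    rw [mem_CC, hisg, ← hi0, ← map_mul, ← map_mul]
    rcases mem_cases hS0 hx with ⟨a, b, rfl⟩ | ⟨a, b, rfl⟩
    · exact ⟨by rw [ff_s2], sign_ff a b⟩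
    · refine ⟨by rw [mul_assoc, sw_s2, ← mul_assoc, ff_s2, mul_assoc], ?_⟩
      rw [Perm.sign_mul, sign_ff, sign_sw, one_mul]
  have h1 := dwr_map hS0 ι hi
  have h2 := dwr_res h1 hle
  set ψ : ↥(CC s) →* G := (centralizer ({z} : Set G)).subtype.comp e.toMonoidHom with hψdef
  have hψ : Function.Injective ψ := (subtype_injective _).comp e.injective
  have h3 := dwr_map h2 ψ hψ
  set S1 : Subgroup G := ((S0.map ι).subgroupOf (CC s)).map ψ with hS1
  have hc1 : Nat.card S1 = 2 ^ 7 := by rw [card_S h3]; norm_num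
  have hcz : Nat.card ↥(centralizer ({z} : Set G)) = Nat.card ↥(CC s) := (Nat.card_congr e.toEquiv).symm
  have hfix := card_fix s
  rw [h8] at hfix
  obtain ⟨m, hm, hcc⟩ : ∃ m, ¬ 2 ∣ m ∧ Nat.card ↥(CC s) = 2 ^ 7 * m := by
    obtain ⟨c, hc2, hc3⟩ := card_CC' hs (by omega)
    have hc4 : c = 4 := by omega
    subst hc4
    rw [hfix] at hc3
    have f4 : Nat.factorial 4 = 24 := rfl
    have f2 : Nat.factorial 2 = 2 := rfl
    have f3 : Nat.factorial 3 = 6 := rfl
    rcases h10 with e1 | e1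
    · rw [e1, show 10 - 8 = 2 from rfl, f4, f2] at hc3
      exact ⟨3, by norm_num, by omega⟩
    · rw [e1, show 11 - 8 = 3 from rfl, f4, f3] at hc3
      exact ⟨9, by norm_num, by omega⟩
  have hPC : (P : Subgroup G) ≤ centralizer ({z} : Set G) := fun x hx => mem_centralizer_singleton_iff.2 (hP x hx)
  have hP1 := card_dvd_of_le hPC
  rw [hcz, hcc, P.card_eq_multiplicity] at hP1
  have hP2 := two_pow_dvd hP1 hm
  have hP3 := card_dvd_sylow P S1 (IsPGroup.of_card hc1)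
  rw [hc1, P.card_eq_multiplicity] at hP3
  have hc2 : Nat.card S1 = 2 ^ (Nat.card G).factorization 2 := by
    rw [hc1]; exact Nat.dvd_antisymm hP3 hP2
  have hS1z : ∀ x ∈ S1, x * z = z * x := by
    rintro _ ⟨x, -, rfl⟩
    exact mem_centralizer_singleton_iff.1 (e x).2
  have hzS : z ∈ S1 := by
    have g1 : IsPGroup 2 S1 := IsPGroup.of_card hc1
    have g2 : IsPGroup 2 (zpowers z) := Red.isPGroup_zpowers hzz
    have g3 : IsPGroup 2 (S1 ⊔ zpowers z : Subgroup G) := by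
      apply IsPGroup.to_sup_of_normal_right' g1 g2
      intro x hx
      have hxz : Commute x z := hS1z x hx
      rw [mem_normalizer_iff]
      intro y
      constructor
      · rintro ⟨n, rfl⟩
        refine ⟨n, ?_⟩
        change z ^ n = x * z ^ n * x⁻¹
        rw [(hxz.zpow_right n).eq, mul_inv_cancel_right]
      · rintro ⟨n, hn⟩
        refine ⟨n, ?_⟩
        change z ^ n = x * y * x⁻¹ at hn
        change z ^ n = y
        have g4 : x⁻¹ * z ^ n * x = y := by rw [hn]; group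
        rw [← g4, mul_assoc, ← (hxz.zpow_right n).eq, inv_mul_cancel_left]
    have g5 := (Sylow.ofCard S1 hc2).3 g3 le_sup_left
    have g6 : (S1 ⊔ zpowers z : Subgroup G) = S1 := g5
    rw [← g6]
    exact mem_sup_right (mem_zpowers z)
  refine ⟨Sylow.ofCard S1 hc2, _, _, h3, ?_, ?_⟩
  · rcases eq_of_central_S h3 hzS (fun x hx => (hS1z x hx).symm) with e1 | e1
    · exact absurd e1 hz1
    · exact e1.symm
  · intro g hg
    have hgC : g ∈ centralizer ({z} : Set G) := mem_centralizer_singleton_iff.2 hg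
    obtain ⟨x, hx⟩ := e.surjective ⟨g, hgC⟩
    have hgx : g = ψ x := by
      change g = ((e x : ↥(centralizer ({z} : Set G))) : G)
      rw [hx]
    have key : ∀ y : Perm (Fin 10), ∀ hy : ι y ∈ CC s, y.support.card = 4 → ∀ hw : ι sw ∈ CC s,
        g * ψ ⟨ι sw, hw⟩ * g⁻¹ ≠ ψ ⟨ι y, hy⟩ := by
      intro y hy h4 hw e1
      rw [hgx, ← map_inv, ← map_mul, ← map_mul] at e1
      have e2 := congrArg (fun p : ↥(CC s) => (p : Perm Ω)) (hψ e1)
      change (x : Perm Ω) * ι sw * (x : Perm Ω)⁻¹ = ι y at e2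
      have e3 := congrArg (fun p : Perm Ω => p.support.card) e2
      simp only [card_support_conj] at e3
      rw [hisup, hisup, supp_sw, h4] at e3
      omega
    exact ⟨key _ _ supp_s1 _, key _ _ supp_s1' _⟩

/-- **Theorem.** -/
theorem quot (hno : ∀ H : Subgroup G, H.index ≠ 2) (hs : s * s = 1) (h8 : s.support.card = 8)
    (h10 : Fintype.card Ω = 10 ∨ Fintype.card Ω = 11) (e : ↥(CC s) ≃* ↥(centralizer ({z} : Set G)))
    (hz1 : z ≠ 1) (hzz : z * z = 1) (P : Sylow 2 G) (hP : ∀ x ∈ (P : Subgroup G), x * z = z * x) :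
    Nonempty ((G ⧸ Cfsg.oddCore G) ≃* alternatingGroup (Fin 10)) ∨
      Nonempty ((G ⧸ Cfsg.oddCore G) ≃* alternatingGroup (Fin 11)) := by
  obtain ⟨Q, f, w, h, hfz, hw⟩ := exists_coord hs h8 h10 e hz1 hzz P hP
  have hG := no_hom_of_index hno
  obtain ⟨f', h', hc⟩ := Cfsg.Agent.LFourA.FusionMain.main h hG
  have hfz' := z_eq h h'
  have hwz : IsConj w (f (c 0) (c 0)) := by
    rcases hc with hc | hc
    · exfalso
      obtain ⟨g, hg1, hg2⟩ := hc.w_t
      rw [hfz', hfz, mul_inv_eq_iff_eq_mul] at hg2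
      obtain ⟨h4, h5⟩ := hw g hg2
      rcases t_cases h h' with e1 | e1
      · exact h4 (hg1.trans e1)
      · exact h5 (hg1.trans e1)
    · obtain ⟨g, i, j, -, -, hg, -⟩ := hc.w_z
      rw [← hfz']
      exact isConj_iff.2 ⟨g, hg⟩
  refine ten_or_eleven (LFourA.Quot.dwr h) (Red.quot_no_two _ hno) LFourA.Quot.oddCore_quot ?_
  obtain ⟨g, hg⟩ := isConj_iff.1 hwz
  refine isConj_iff.2 ⟨LFourA.Quot.pr G g, ?_⟩
  rw [← hg, map_mul, map_mul, map_inv]

end Cfsg.Agent.H313.TenTwo
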