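import Mathlib
import Cfsg.Agent.H313.TenDD
import Cfsg.Agent.H313.TenTwo
import Cfsg.Agent.H313.AltFr

/-!
# Centralizers of involutions moving four points in the alternating groups of degree ten and eleven (helper313)
-/

set_option autoImplicit false
set_option linter.unusedSectionVars false

namespace Cfsg.Agent.H313.TenOne

open DihedralGroup Cfsg.Agent.LFourA.Model Cfsg.Agent.LFourA.Base Cfsg.Agent.LFourA.Facts Cfsg.Agent.LFourA.Defs
open Subgroup Equiv Equiv.Perm Cfsg.Agent.H313.Alt Cfsg.Agent.H313.TenModel Cfsg.Agent.H313.TenEnd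
open Cfsg.Agent.H313.AltCard Cfsg.Agent.H313.TenDD Cfsg.Agent.H313.TenTwo

universe u

variable {Ω : Type*} [DecidableEq Ω] [Fintype Ω] {s : Perm Ω} {X : Type u} [Group X] [Finite X] {t : X}

/-- **Coordinates on a Sylow 2-subgroup of the centralizer.** -/
theorem exists_DD (hs : s * s = 1) (hsC : s ∈ CC s) (h4 : s.support.card = 4)
    (h10 : Fintype.card Ω = 10 ∨ Fintype.card Ω = 11) (f : ↥(CC s) ≃* ↥(centralizer ({t} : Set X)))
    (hft : (f ⟨s, hsC⟩ : X) = t) :
    ∃ (T : Subgroup X) (F : D 0 → D 0 → X), DD T F ∧ F (c 0) 1 = t ∧ T ≤ centralizer ({t} : Set X) ∧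
      (∀ S : Subgroup X, IsPGroup 2 S → T ≤ S → ∀ x ∈ S, x * t = t * x → x ∈ T) ∧
      IsConj (F (sr 0) (sr 0)) (F (sr 0) (sr 1)) ∧
      ∀ b, F 1 b ∈ ((AA s).map f.toMonoidHom).map (centralizer ({t} : Set X)).subtype := by
  have : Fact (Nat.Prime 2) := ⟨Nat.prime_two⟩
  obtain ⟨ι, hi, hi0, hisg, hisup, hid⟩ := exists_emb (Ω := Ω) (s0 := s1) (s := s) (by omega) (by decide +kernel) hs
    (by rw [h4, supp_s1])
  have hle : ∀ a b, ι (ff a b) ∈ CC s := by
    intro a b
    rw [mem_CC, hisg, ← hi0, ← map_mul, ← map_mul]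
    exact ⟨by rw [ff_s1], sign_ff a b⟩
  set ψ : ↥(CC s) →* X := (centralizer ({t} : Set X)).subtype.comp f.toMonoidHom with hψdef
  have hψ : Function.Injective ψ := (subtype_injective _).comp f.injective
  obtain ⟨S0, hS0⟩ := exists_model
  obtain ⟨F, hF⟩ : ∃ F : D 0 → D 0 → X, ∀ a b, F a b = ψ ⟨ι (ff a b), hle a b⟩ := ⟨_, fun _ _ => rfl⟩
  have hmul : ∀ a b a' b', F a b * F a' b' = F (a * a') (b * b') := by
    intro a b a' b'
    rw [hF, hF, hF, ← map_mul]
    congr 1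
    apply Subtype.ext
    change ι (ff a b) * ι (ff a' b') = ι (ff (a * a') (b * b'))
    rw [← map_mul, hS0.f_mul]
  have hinj : ∀ a b, F a b = 1 → a = 1 ∧ b = 1 := by
    intro a b e
    rw [hF, map_eq_one_iff ψ hψ] at e
    have e1 : ι (ff a b) = 1 := congrArg Subtype.val e
    rw [map_eq_one_iff ι hi] at e1
    exact hS0.f_inj _ _ e1
  have hone : F 1 1 = 1 := by
    have h1 := hmul 1 1 1 1
    rw [one_mul] at h1
    exact mul_eq_left.1 h1
  let T : Subgroup X :=
    { carrier := {g | ∃ a b, g = F a b}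
      mul_mem' := by
        rintro _ _ ⟨a, b, rfl⟩ ⟨a', b', rfl⟩
        exact ⟨_, _, hmul _ _ _ _⟩
      one_mem' := ⟨1, 1, hone.symm⟩
      inv_mem' := by
        rintro _ ⟨a, b, rfl⟩
        refine ⟨a⁻¹, b⁻¹, ?_⟩
        apply inv_eq_of_mul_eq_one_left
        rw [hmul, inv_mul_cancel, inv_mul_cancel, hone] }
  have hT : DD T F := ⟨hmul, hinj, fun _ => Iff.rfl⟩
  have hFt : F (c 0) 1 = t := by
    rw [hF, ← hft]
    change ((f _ : ↥(centralizer ({t} : Set X))) : X) = _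
    congr 2
    exact Subtype.ext hi0
  have hTC : T ≤ centralizer ({t} : Set X) := by
    rintro _ ⟨a, b, rfl⟩
    rw [hF]
    exact (f _).2
  refine ⟨T, F, hT, hFt, hTC, ?_, ?_, ?_⟩
  · intro S hS hTS x hx hxt
    have h1 : IsPGroup 2 (S ⊓ centralizer ({t} : Set X) : Subgroup X) := hS.to_le inf_le_left
    have h2 : T ≤ S ⊓ centralizer ({t} : Set X) := le_inf hTS hTC
    obtain ⟨n, hn⟩ := IsPGroup.iff_card.1 h1
    have hfix := card_fix s
    rw [h4] at hfix
    obtain ⟨m, hm, hcc⟩ : ∃ m, ¬ 2 ∣ m ∧ Nat.card ↥(CC s) = 2 ^ 6 * m := by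
      obtain ⟨k, hk2, hk3⟩ := card_CC' hs (by omega)
      have hk4 : k = 2 := by omega
      subst hk4
      rw [hfix] at hk3
      have f2 : Nat.factorial 2 = 2 := rfl
      have f6 : Nat.factorial 6 = 720 := rfl
      have f7 : Nat.factorial 7 = 5040 := rfl
      rcases h10 with e1 | e1
      · rw [e1, show 10 - 4 = 6 from rfl, f6, f2] at hk3
        exact ⟨45, by norm_num, by omega⟩
      · rw [e1, show 11 - 4 = 7 from rfl, f7, f2] at hk3
        exact ⟨315, by norm_num, by omega⟩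
    have h3 : Nat.card (S ⊓ centralizer ({t} : Set X) : Subgroup X) ∣ Nat.card ↥(centralizer ({t} : Set X)) :=
      card_dvd_of_le inf_le_right
    rw [← Nat.card_congr f.toEquiv, hcc, hn] at h3
    have h5 := two_pow_dvd h3 hm
    rw [← hn] at h5
    have h6 : T = S ⊓ centralizer ({t} : Set X) :=
      Subgroup.eq_of_le_of_card_ge h2 (by rw [hT.card]; exact Nat.le_of_dvd (by norm_num) h5)
    rw [h6]
    exact ⟨hx, mem_centralizer_singleton_iff.2 hxt⟩
  · have hg0 : ι g0 ∈ CC s := by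
      rw [mem_CC, hisg, ← hi0, ← map_mul, ← map_mul]
      exact ⟨by rw [g0_s1], sign_g0⟩
    refine isConj_iff.2 ⟨ψ ⟨ι g0, hg0⟩, ?_⟩
    rw [hF, hF, ← map_inv, ← map_mul, ← map_mul]
    have e1 : ι g0 * ι (ff (sr 0) (sr 0)) * (ι g0)⁻¹ = ι (ff (sr 0) (sr 1)) := by
      rw [← map_inv, ← map_mul, ← map_mul, g0_conj]
    exact congrArg ψ (Subtype.ext e1)
  · intro b
    rw [hF]
    refine ⟨f ⟨ι (ff 1 b), hle 1 b⟩, ⟨_, ?_, rfl⟩, rfl⟩
    intro x hx
    have h1 : Perm.Disjoint (ι (ff 1 b)) (ι s1) := hid _ _ (disj_s1 b)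
    rw [hi0] at h1
    exact (h1 x).resolve_right hx

/-- **The case of a Sylow 2-subgroup bigger than that of the centralizer.** -/
theorem big_case (hno : ∀ H : Subgroup X, H.index ≠ 2) (hO : Cfsg.oddCore X = ⊥) {T : Subgroup X} {F : D 0 → D 0 → X}
    (hT : DD T F) (S : Sylow 2 X) (hTS : T ≤ (S : Subgroup X)) (hne : T ≠ (S : Subgroup X))
    (hc : ∀ x ∈ (S : Subgroup X), x * F (c 0) 1 = F (c 0) 1 * x → x ∈ T)
    (hconj : IsConj (F (sr 0) (sr 0)) (F (sr 0) (sr 1))) :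
    Nonempty (X ≃* alternatingGroup (Fin 10)) ∨ Nonempty (X ≃* alternatingGroup (Fin 11)) := by
  obtain ⟨f, w, h, hd, h1, h2⟩ := hT.exists_dwr S.isPGroup' hTS hne hc
  obtain ⟨f', h', hcase⟩ := Cfsg.Agent.LFourA.FusionMain.main h (no_hom_of_index hno)
  have hb : DD (base h') F := by
    rw [base_eq h h']
    have : base h = T := by
      ext g
      rw [mem_base, hd.mem_iff]
    rw [this]; exact hT
  rcases hcase with hcase | hcase
  · exfalso
    apply not_caseI h' hb hcase _ hconj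
    have hz := z_eq h h'
    have t1 := t_mul_t' h
    have t1' := t_mul_t' h'
    rcases t_cases h h' with e | e
    · left
      refine ⟨e.trans h1, ?_⟩
      rw [← h2]
      rw [e, hz, ← t1] at t1'
      exact mul_left_cancel t1'
    · right
      refine ⟨e.trans h2, ?_⟩
      rw [← h1]
      have t2 : f 1 (c 0) * f (c 0) 1 = f (c 0) (c 0) := by rw [h.f_mul, one_mul, mul_one]
      rw [e, hz, ← t2] at t1'
      exact mul_left_cancel t1'
  · obtain ⟨g, i, j, -, -, hg, -⟩ := hcase.w_z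
    exact ten_or_eleven h' hno hO (isConj_iff.2 ⟨g, hg⟩)

end Cfsg.Agent.H313.TenOne
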