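import Mathlib
import Cfsg.Agent.H313.TenOne
import Cfsg.Agent.H313.TenEq

/-!
# The involutions moving four points in the alternating groups of degree ten and eleven (helper313)
-/

set_option autoImplicit false
set_option linter.unusedSectionVars false

namespace Cfsg.Agent.H313.TenMain

open Cfsg.Agent.LFourA.Model
open Subgroup Equiv Equiv.Perm Cfsg.Agent.H313.Alt Cfsg.Agent.H313.TenDD

universe u

variable {Ω : Type*} [DecidableEq Ω] [Fintype Ω] {s : Perm Ω} {X : Type u} [Group X] [Finite X] {t : X}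

theorem one_case (hno : ∀ H : Subgroup X, H.index ≠ 2) (hO : Cfsg.oddCore X = ⊥) (hs : s * s = 1) (hsC : s ∈ CC s)
    (h4 : s.support.card = 4) (h10 : Fintype.card Ω = 10 ∨ Fintype.card Ω = 11)
    (f : ↥(CC s) ≃* ↥(centralizer ({t} : Set X))) (hft : (f ⟨s, hsC⟩ : X) = t)
    (M : Subgroup X) [M.Normal] [IsSimpleGroup M] (hna : ∃ a ∈ M, ∃ b ∈ M, a * b ≠ b * a)
    (hA : ((AA s).map f.toMonoidHom).map (centralizer ({t} : Set X)).subtype ≤ M) (htM : t ∈ M) :
    Nonempty (X ≃* alternatingGroup (Fin 10)) ∨ Nonempty (X ≃* alternatingGroup (Fin 11)) := by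
  have : Fact (Nat.Prime 2) := ⟨Nat.prime_two⟩
  obtain ⟨T, F, hT, hFt, hTC, hcS, hconj, hF1⟩ := TenOne.exists_DD hs hsC h4 h10 f hft
  have hTp : IsPGroup 2 T := IsPGroup.of_card (n := 6) (by rw [hT.card]; norm_num)
  obtain ⟨S, hS⟩ := hTp.exists_le_sylow
  by_cases hne : T = (S : Subgroup X)
  · exfalso
    exact TenEq.eq_case hno M hna hT S hne.symm (fun b => hA (hF1 b)) (by rw [hFt]; exact htM)
  · refine TenOne.big_case hno hO hT S hS hne ?_ hconj
    intro x hx hxt
    rw [hFt] at hxt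
    exact hcS _ S.isPGroup' hS x hx hxt

end Cfsg.Agent.H313.TenMain
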