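import Mathlib
import Cfsg.Agent.H313.TenMain
import Cfsg.Agent.H313.AltTrans
import Cfsg.Agent.H313.AltAlt
import Cfsg.Agent.OddHalf.Known
import Cfsg.Agent.LFourA.Quot
import Cfsg.Agent.H313.OddSixTwo
import Cfsg.Agent.H313.OddSixThree

/-!
# Involution centralizers of the type of `A_m`, at least six fixed points (helper313)
-/

set_option autoImplicit false
set_option linter.unusedSectionVars false

namespace Cfsg.Agent.H313.AltBig

open Cfsg Subgroup Equiv Equiv.Perm
open scoped commutatorElement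
open Cfsg.Agent.H313.Alt Cfsg.Agent.H313.AltEM Cfsg.Agent.H313.AltRed Cfsg.Agent.H313.AltTrans

universe u

/-- The sporadic groups. -/
def Spor : Prop :=
  ∀ {Ω : Type} [DecidableEq Ω] [Fintype Ω] {s : Perm Ω} (_ : s * s = 1) {k r : ℕ} (_ : s.support.card = 4 * k)
    (_ : Fintype.card {x // s x = x} = r) (_ : r % 4 = 2 ∨ r % 4 = 3) (_ : 2 ≤ k ∨ 10 ≤ r)
    {X : Type u} [Group X] [Finite X] [IsSimpleGroup X] (_ : ¬ IsMulCommutative X) (_ : IsSporadicGroup X)
    {t : X} {A : Subgroup X} (_ : EM t A r) (_ : ↥(CC s) ≃* ↥(centralizer ({t} : Set X))), False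

/-- Outer automorphisms of sporadic groups. -/
def OutSpor : Prop :=
  ∀ {M : Type u} [Group M] [Finite M] (_ : IsSporadicGroup M) (α : MulAut M),
    ∃ k : ℕ, α ^ 2 ^ k ∈ (MulAut.conj : M →* MulAut M).range

/-- Two-elements commute modulo the socle. -/
def TwoComm : Prop :=
  ∀ {X : Type u} [Group X] [Finite X] (_ : ∀ H : Subgroup X, H.index ≠ 2)
    (M : Subgroup X) [M.Normal] [IsSimpleGroup M] (_ : ¬ IsMulCommutative M)
    (_ : centralizer (M : Set X) = ⊥) (a b : X) (_ : ∃ k, a ^ 2 ^ k = 1) (_ : ∃ k, b ^ 2 ^ k = 1), ⁅a, b⁆ ∈ M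

/-- The classification. -/
def Cls : Prop := ∀ {X : Type u} [Group X] [Finite X] [IsSimpleGroup X], IsKnownSimple' X

section

variable {X : Type u} [Group X] [Finite X] {t : X} {A E : Subgroup X}

/-- `t` is in the socle -/
theorem t_mem (hTC : TwoComm.{u}) (hno : ∀ H : Subgroup X, H.index ≠ 2) (h : FX t A E) (M : Subgroup X) [hM : M.Normal]
    [IsSimpleGroup M] (hna : ¬ IsMulCommutative M) (hC : centralizer (M : Set X) = ⊥) : t ∈ M := by
  obtain ⟨a, b, ha, hb, ha2, hb2, hc, hne⟩ := h.cm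
  have h1 : ⁅a, b⁆ ∈ M := hTC hno M hna hC a b ⟨1, by simpa [pow_two] using ha2⟩ ⟨1, by simpa [pow_two] using hb2⟩
  have hab : ⁅a, b⁆ = a * b * a⁻¹ * b⁻¹ := rfl
  rw [hab] at h1
  have hCt : Commute (a * b * a⁻¹ * b⁻¹) t := by
    have ha' : Commute a t := ha
    have hb' : Commute b t := hb
    exact ((ha'.mul_left hb').mul_left ha'.inv_left).mul_left hb'.inv_left
  have h2 := h.umin (M ⊓ centralizer ({t} : Set X) ⊓ centralizer (A : Set X))
    (fun n hn => mem_centralizer_singleton_iff.1 hn.1.2)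
    (fun n hn x hx => (mem_centralizer_iff.1 hn.2 x hx).symm) (by
      intro c hc n hn
      refine ⟨⟨hM.conj_mem n hn.1.1 c, mem_centralizer_singleton_iff.2
        (conj_comm hc (mem_centralizer_singleton_iff.1 hn.1.2))⟩, mem_centralizer_iff.2 ?_⟩
      intro x hx
      have hcI : c⁻¹ * t = t * c⁻¹ := (show Commute c t from hc).inv_left
      have h3 : c⁻¹ * x * c ∈ A := by simpa using h.nA c⁻¹ hcI x hx
      have h4 := mem_centralizer_iff.1 hn.2 _ h3
      calc x * (c * n * c⁻¹) = c * ((c⁻¹ * x * c) * n) * c⁻¹ := by group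
        _ = c * (n * (c⁻¹ * x * c)) * c⁻¹ := by rw [h4]
        _ = _ := by group) (by
      intro e
      apply hne
      have h5 : a * b * a⁻¹ * b⁻¹ ∈ M ⊓ centralizer ({t} : Set X) ⊓ centralizer (A : Set X) :=
        ⟨⟨h1, mem_centralizer_singleton_iff.2 hCt⟩, mem_centralizer_iff.2 fun x hx => (hc x hx).symm⟩
      rwa [e, mem_bot] at h5)
  exact h2.1.1

/-- the situation in the socle -/
theorem em_sub (h : FX t A E) {r : ℕ} (hr : 6 ≤ r) (hA : Nonempty (A ≃* ↥(alternatingGroup (Fin r))))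
    {M : Subgroup X} (hAM : A ≤ M) (htM : t ∈ M) : EM (⟨t, htM⟩ : M) (A.subgroupOf M) r where
  ne := fun e => h.ne (congrArg Subtype.val e)
  sq := Subtype.ext h.sq
  cA := fun a ha => Subtype.ext (h.cA a (mem_subgroupOf.1 ha))
  nA := fun c hc a ha => mem_subgroupOf.2 (h.nA c (congrArg Subtype.val hc) a (mem_subgroupOf.1 ha))
  iso := by
    obtain ⟨e⟩ := hA
    exact ⟨(subgroupOfEquivOfLe hAM).trans e⟩
  hr := hr

/-- the situation in `X` -/
theorem em_top (h : FX t A E) {r : ℕ} (hr : 6 ≤ r) (hA : Nonempty (A ≃* ↥(alternatingGroup (Fin r)))) : EM t A r :=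
  ⟨h.ne, h.sq, h.cA, h.nA, hA, hr⟩

end

theorem fac_absurd {r n : ℕ} (hr : 6 ≤ r) (hn : n < 6) (φ : ↥(alternatingGroup (Fin r)) →* ↥(alternatingGroup (Fin n)))
    (hφ : Function.Injective φ) : False := by
  have h1 := Nat.card_le_card_of_injective φ hφ
  have t1 : Nontrivial (Fin r) := Fin.nontrivial_iff_two_le.2 (by omega)
  have h2 := two_mul_nat_card_alternatingGroup (α := Fin r)
  have h3 : Nat.card ↥(alternatingGroup (Fin n)) ≤ n.factorial := by
    have h4 := Nat.card_le_card_of_injective _ (subtype_injective (alternatingGroup (Fin n)))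
    rwa [Nat.card_perm, Nat.card_eq_fintype_card (α := Fin n), Fintype.card_fin] at h4
  rw [Nat.card_perm, Nat.card_eq_fintype_card (α := Fin r), Fintype.card_fin] at h2
  have h5 : Nat.factorial 6 ≤ r.factorial := Nat.factorial_le hr
  have h6 : n.factorial ≤ Nat.factorial 5 := Nat.factorial_le (by omega)
  have f6 : Nat.factorial 6 = 720 := rfl
  have f5 : Nat.factorial 5 = 120 := rfl
  omega

section

/-- **At least six fixed points**, in a group without normal subgroups of odd order. -/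
theorem big_X (hCl : Cls.{u}) (hTC : TwoComm.{u}) (hSp : Spor.{u}) (hOS : OutSpor.{u})
    {Ω : Type} [DecidableEq Ω] [Fintype Ω] {s : Perm Ω} (hs : s * s = 1) (hsC : s ∈ CC s) (h1 : s ≠ 1)
    {k r : ℕ} (hk : s.support.card = 4 * k) (hr : Fintype.card {x // s x = x} = r) (h6 : 6 ≤ r)
    (hmod : r % 4 = 2 ∨ r % 4 = 3) {X : Type u} [Group X] [Finite X] (hno : ∀ H : Subgroup X, H.index ≠ 2)
    (hO : oddCore X = ⊥) {t : X} {E : Subgroup X} (f : ↥(CC s) ≃* ↥(centralizer ({t} : Set X)))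
    (hft : (f ⟨s, hsC⟩ : X) = t) (hFX : FX t (((AA s).map f.toMonoidHom).map (centralizer ({t} : Set X)).subtype) E)
    (M : Subgroup X) [hMn : M.Normal] [hMs : IsSimpleGroup M] (hMna : ∃ a ∈ M, ∃ b ∈ M, a * b ≠ b * a)
    (hMC : centralizer (M : Set X) = ⊥)
    (hAM : ((AA s).map f.toMonoidHom).map (centralizer ({t} : Set X)).subtype < M) :
    Nonempty (X ≃* ↥(alternatingGroup (Fin (Fintype.card Ω)))) := by
  have hna : ¬ IsMulCommutative M := by
    rintro ⟨⟨hc⟩⟩
    obtain ⟨a, ha, b, hb, hab⟩ := hMna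
    exact hab (congrArg Subtype.val (hc ⟨a, ha⟩ ⟨b, hb⟩))
  have htM : t ∈ M := t_mem hTC hno hFX M hna hMC
  have hAr : Nonempty (↥(((AA s).map f.toMonoidHom).map (centralizer ({t} : Set X)).subtype) ≃*
      ↥(alternatingGroup (Fin r))) := by
    have e1 := (altEquiv s).symm.trans (Equiv.altCongrHom (Fintype.equivFinOfCardEq hr))
    exact ⟨((Subgroup.equivMapOfInjective _ _ (subtype_injective _)).symm.trans
      ((AA s).equivMapOfInjective _ f.injective).symm).trans e1⟩
  have hEX := em_top hFX h6 hAr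
  have hEM := em_sub hFX h6 hAr hAM.le htM
  -- the alternating case
  have halt : ∀ n : ℕ, Nonempty (X ≃* ↥(alternatingGroup (Fin n))) →
      Nonempty (X ≃* ↥(alternatingGroup (Fin (Fintype.card Ω)))) := by
    rintro n ⟨g⟩
    exact AltAlt.alt_case hs (by rw [hr]; exact hEX) f g
  by_cases hsm : k = 1 ∧ r < 10
  · -- `A_10`, `A_11`
    have h4 : s.support.card = 4 := by rw [hk, hsm.1]
    have hcard : Fintype.card Ω = 10 ∨ Fintype.card Ω = 11 := by
      have := AltCard.card_fix s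
      have h5 : s.support.card ≤ Fintype.card Ω := Finset.card_le_univ _
      omega
    rcases TenMain.one_case hno hO hs hsC h4 hcard f hft M hMna hAM.le htM with h | h
    · exact halt 10 h
    · exact halt 11 h
  have hk1 : k ≠ 0 := by
    intro e0
    apply h1
    rw [← support_eq_empty_iff, ← Finset.card_eq_zero, hk, e0]
  have hbig : 2 ≤ k ∨ 10 ≤ r := by omega
  rcases OddHalf.Known.classify hna (hCl (X := M)) with hM | ⟨p, hp, hp2, hM⟩ | hM | hM
  · -- alternating
    obtain ⟨n, hn, ⟨g⟩⟩ := hM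
    have hn6 : 6 ≤ n := by
      obtain ⟨g'⟩ := hEM.iso
      by_contra hlt
      exact fac_absurd h6 (by omega) (g'.symm.toMonoidHom |> fun φ => g.toMonoidHom.comp ((Subgroup.subtype _).comp φ))
        (g.injective.comp ((subtype_injective _).comp g'.symm.injective))
    have htop := AltAlt.top_of_out hno M hMC (out_equiv g (out_alt hn6))
    exact halt n ⟨((Subgroup.topEquiv.symm).trans (MulEquiv.subgroupCongr htop.symm)).trans g⟩
  · -- odd characteristic
    exfalso
    by_cases hr6 : r = 6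
    · by_cases hk2 : k = 2
      · subst hr6
        exact OddSixTwo.main hs (by rw [hk, hk2]) hr f M
          (fun a b ha hb => hTC hno M hna hMC a b ha hb) htM hEM hp hp2 hM
      · exact OddSixThree.main hs (by omega) f M
          (fun a b ha hb => hTC hno M hna hMC a b ha hb) htM hp2 hM hFX.sq
    · exact hEM.not_odd (by omega) hp hp2 hM
  · exact (hEM.not_even hM).elim
  · -- sporadic
    exfalso
    have htop := AltAlt.top_of_out hno M hMC (hOS hM)
    have e0 : M ≃* X := (MulEquiv.subgroupCongr htop).trans Subgroup.topEquiv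
    have hXs : IsSimpleGroup X := e0.symm.isSimpleGroup
    refine hSp hs hk hr hmod hbig (X := X) ?_ (OddHalf.Known.isSporadic_congr e0 hM) hEX f
    rintro ⟨⟨hc⟩⟩
    obtain ⟨a, ha, b, hb, hab⟩ := hMna
    exact hab (hc a b)

/-- **At least six fixed points.** -/
theorem quot_big (hCl : Cls.{u}) (hTC : TwoComm.{u}) (hSp : Spor.{u}) (hOS : OutSpor.{u})
    {Ω : Type} [DecidableEq Ω] [Fintype Ω] {s : Perm Ω} (hs : s * s = 1) (hsC : s ∈ CC s) (h1 : s ≠ 1)
    {k r : ℕ} (hk : s.support.card = 4 * k) (hr : Fintype.card {x // s x = x} = r) (h6 : 6 ≤ r)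
    (hmod : r % 4 = 2 ∨ r % 4 = 3)
    {G : Type u} [Group G] [Finite G] (hG : ∀ H : Subgroup G, H.index ≠ 2) {z : G} (hz : orderOf z = 2)
    (e : ↥(centralizer ({z} : Set G)) ≃* ↥(CC s)) :
    Nonempty ((G ⧸ oddCore G) ≃* ↥(alternatingGroup (Fin (Fintype.card Ω)))) := by
  obtain ⟨f, E, hft, hFX, hfree, M, hMn, hMs, hMna, hMC, hAM⟩ :=
    setup hs hsC h1 (by rw [hk]; exact dvd_mul_right _ _) (by omega) hG hz e
  exact big_X hCl hTC hSp hOS hs hsC h1 hk hr h6 hmod (Red.quot_no_two _ hG) LFourA.Quot.oddCore_quot f hft hFX M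
    hMna hMC hAM

end

end Cfsg.Agent.H313.AltBig
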