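import Cfsg.Agent.H313.ModelCard
import Cfsg.Agent.Cit.Excl

/-!
# Consequences of `Red.Facts` for `C_H(t)` in a finite group `H`

* `exists_central` : `t` centralizes a Sylow 2-subgroup; `unique_central`: an involution centralizing a Sylow 2-subgroup
  is conjugate to `t`;
* `comp` : the image `K` of `L₁` is subnormal in `C_H(t)`, has `t` as only involution, no subgroup of index two;
* `not_alt` : `H` is no alternating group;
* `dvd_card` : `|L₁| |L₂|` divides `2 |H|`;
* `rep_case`: `H = Γ / Z(Γ)` with a matrix representation of `Γ`, `L₁ ≅ SL₂(F)`: the order of `C_H(t)`.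
-/

set_option autoImplicit false

namespace Cfsg.Agent.H313.Elim

open Subgroup Cfsg.Agent.H313.Red

section basic

variable {H : Type*} [Group H] [Finite H] {t : H} {τ s : ↥(centralizer ({t} : Set H))}
  {L₁ L₂ B P₁ P₂ : Subgroup ↥(centralizer ({t} : Set H))} (h : Facts τ s L₁ L₂ B P₁ P₂) (hτ : (τ : H) = t)

/-- the image of `L₁` in `H` -/
def KK (L : Subgroup ↥(centralizer ({t} : Set H))) : Subgroup H := L.map (centralizer ({t} : Set H)).subtype

omit [Finite H] in
theorem KK_le (L : Subgroup ↥(centralizer ({t} : Set H))) : KK L ≤ centralizer ({t} : Set H) := by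
  rintro _ ⟨x, _, rfl⟩
  exact x.2

omit [Finite H] in
theorem KK_subgroupOf (L : Subgroup ↥(centralizer ({t} : Set H))) : (KK L).subgroupOf (centralizer ({t} : Set H)) = L := by
  rw [KK, subgroupOf, comap_map_eq_self_of_injective (subtype_injective _)]

omit [Finite H] in
theorem equivKK (L : Subgroup ↥(centralizer ({t} : Set H))) : Nonempty (KK L ≃* L) :=
  ⟨(L.equivMapOfInjective _ (subtype_injective _)).symm⟩

include h

omit [Finite H] in
theorem B_normal : B.Normal := normal_of_index_eq_two h.index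

omit [Finite H] in
theorem isSubnormal : L₁.IsSubnormal := by
  refine IsSubnormal.step _ B h.L_le_B (B_normal h).isSubnormal ?_
  constructor
  intro n hn g
  exact mem_subgroupOf.2 (h.norm₁ _ g.2 _ (mem_subgroupOf.1 hn))

include hτ

omit [Finite H] in
theorem t_sq : t * t = 1 := by
  rw [← hτ]
  exact congrArg Subtype.val h.sq

omit [Finite H] in
theorem t_ne : t ≠ 1 := by
  rw [← hτ]
  intro h1
  exact h.ne (Subtype.ext h1)

omit [Finite H] in
theorem orderOf_t : orderOf t = 2 := orderOf_eq_prime (by rw [pow_two, t_sq h hτ]) (t_ne h hτ)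

omit [Finite H] in
theorem t_mem : t ∈ KK L₁ := ⟨τ, h.le₁ h.mem₁, hτ⟩

omit [Finite H] hτ in
theorem KK_subnormal : ((KK L₁).subgroupOf (centralizer ({t} : Set H))).IsSubnormal := by
  rw [KK_subgroupOf]
  exact isSubnormal h

omit [Finite H] in
theorem KK_uniq : ∀ x ∈ KK L₁, orderOf x = 2 → x = t := by
  rintro _ ⟨x, hx, rfl⟩ h2
  have h3 : x * x = 1 := by
    apply Subtype.ext
    have := pow_orderOf_eq_one ((centralizer ({t} : Set H)).subtype x)
    rw [h2, pow_two] at this
    exact this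
  rcases h.uniq₁ x hx h3 with h4 | h4
  · rw [h4, map_one, orderOf_one] at h2
    omega
  · rw [h4]; exact hτ

omit [Finite H] hτ in
theorem KK_no : ∀ Y ≤ KK L₁, Y.relIndex (KK L₁) ≠ 2 := by
  intro Y hY h2
  apply h.no₁ (Y.subgroupOf (centralizer ({t} : Set H)))
  have h3 : Y = (Y.subgroupOf (centralizer ({t} : Set H))).map (centralizer ({t} : Set H)).subtype := by
    rw [subgroupOf_map_subtype]
    exact (inf_eq_left.2 (hY.trans (KK_le _))).symm
  rw [h3, KK, relIndex_map_map_of_injective _ _ (subtype_injective _)] at h2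
  exact h2

omit [Finite H] in
/-- `H` is no alternating group -/
theorem not_alt {α : Type*} [Fintype α] [DecidableEq α] (e : H ≃* alternatingGroup α) : False :=
  Cfsg.Agent.Cit.Excl.no_alt e (orderOf_t h hτ) (KK_le L₁) (t_mem h hτ) (KK_subnormal h) (KK_uniq h hτ) (KK_no h)

theorem exists_central : ∃ S : Sylow 2 H, (∀ x ∈ S, x * t = t * x) ∧
    ∀ u, u * u = 1 → (∀ x ∈ S, x * u = u * x) → u = 1 ∨ u = t := by
  obtain ⟨S, h1, h2⟩ := h.exists_sylow
  refine ⟨S, (h.central hτ S S.2 h1 h2).1, ?_⟩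
  intro u hu hc
  have htS : t ∈ S := by rw [← hτ]; exact h1 τ h.mem₁
  exact h.only' hτ hu (hc t htS).symm (fun y hy => (hc y (h1 y hy)).symm) (fun y hy => (hc y (h2 y hy)).symm)

/-- an involution centralizing a Sylow 2-subgroup is conjugate to `t` -/
theorem unique_central {u : H} (hu : u * u = 1) (hu1 : u ≠ 1) (S : Sylow 2 H) (hS : ∀ x ∈ S, x * u = u * x) :
    ∃ g : H, g * u * g⁻¹ = t := by
  obtain ⟨S', h1, h2⟩ := exists_central h hτ
  have : Fact (Nat.Prime 2) := ⟨Nat.prime_two⟩
  obtain ⟨g, hg⟩ := MulAction.exists_smul_eq H S S'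
  refine ⟨g, ?_⟩
  rcases h2 (g * u * g⁻¹) (by
    calc g * u * g⁻¹ * (g * u * g⁻¹) = g * (u * u) * g⁻¹ := by group
      _ = 1 := by rw [hu]; group) (by
    intro x hx
    rw [← hg] at hx
    have h3 := hS _ ((Cit.LongTwo.smul_mem_iff S g x).1 hx)
    calc x * (g * u * g⁻¹) = g * ((g⁻¹ * x * g) * u) * g⁻¹ := by group
      _ = g * (u * (g⁻¹ * x * g)) * g⁻¹ := by rw [h3]
      _ = g * u * g⁻¹ * x := by group) with h3 | h3
  · exfalso
    apply hu1
    calc u = g⁻¹ * (g * u * g⁻¹) * g := by group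
      _ = 1 := by rw [h3]; group
  · exact h3

omit hτ in
theorem dvd_card (hc : ∀ a ∈ L₁, (∀ x ∈ L₁, x * a = a * x) → a * a = 1) :
    Nat.card L₁ * Nat.card L₂ ∣ 2 * Nat.card ↥(centralizer ({t} : Set H)) := by
  let f : L₁ × L₂ →* ↥(centralizer ({t} : Set H)) :=
    { toFun := fun p => (p.1 : ↥(centralizer ({t} : Set H))) * p.2
      map_one' := by simp
      map_mul' := by
        rintro ⟨a, b⟩ ⟨c, d⟩
        change (a : ↥(centralizer ({t} : Set H))) * c * (b * d) = a * b * (c * d)
        have h1 := h.comm c c.2 b b.2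
        calc (a : ↥(centralizer ({t} : Set H))) * c * (b * d) = a * (c * b) * d := by group
          _ = a * b * (c * d) := by rw [h1]; group }
  have hk : ∀ p : L₁ × L₂, p ∈ f.ker → p * p = 1 ∧ (p = 1 ∨ ((p.1 : ↥(centralizer ({t} : Set H))) = τ)) := by
    rintro ⟨⟨a, ha⟩, ⟨b, hb⟩⟩ hp
    have h3 : a * b = 1 := hp
    have h4 : a = b⁻¹ := eq_inv_of_mul_eq_one_left h3
    have haL : a ∈ L₂ := by rw [h4]; exact L₂.inv_mem hb
    have h5 := hc a ha (fun x hx => h.comm x hx a haL)
    have h6 : b * b = 1 := by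
      have h7 : b = a⁻¹ := eq_inv_of_mul_eq_one_right h3
      rw [h7, ← mul_inv_rev, h5, inv_one]
    refine ⟨Prod.ext (Subtype.ext h5) (Subtype.ext h6), ?_⟩
    rcases h.uniq₁ a ha h5 with h7 | h7
    · left
      subst h7
      rw [one_mul] at h3
      subst h3
      rfl
    · right; exact h7
  have h1 : Nat.card f.ker ∣ 2 := by
    classical
    have : Fact (Nat.Prime 2) := ⟨Nat.prime_two⟩
    have hle : Nat.card f.ker ≤ 2 := by
      have hinj : Function.Injective (fun p : f.ker => if p = 1 then (0 : Fin 2) else 1) := by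
        rintro ⟨p, hp⟩ ⟨q, hq⟩ hpq
        simp only at hpq
        by_cases h3 : (⟨p, hp⟩ : f.ker) = 1
        · rw [if_pos h3] at hpq
          by_cases h4 : (⟨q, hq⟩ : f.ker) = 1
          · rw [h3, h4]
          · rw [if_neg h4] at hpq
            exact absurd hpq (by decide)
        · rw [if_neg h3] at hpq
          by_cases h4 : (⟨q, hq⟩ : f.ker) = 1
          · rw [if_pos h4] at hpq
            exact absurd hpq (by decide)
          · have e1 := (hk p hp).2.resolve_left (fun h5 => h3 (Subtype.ext h5))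
            have e2 := (hk q hq).2.resolve_left (fun h5 => h4 (Subtype.ext h5))
            apply Subtype.ext
            have f1 : (p.1 : ↥(centralizer ({t} : Set H))) * p.2 = 1 := hp
            have f2 : (q.1 : ↥(centralizer ({t} : Set H))) * q.2 = 1 := hq
            rw [e1] at f1
            rw [e2] at f2
            refine Prod.ext (Subtype.ext (e1.trans e2.symm)) (Subtype.ext ?_)
            exact mul_left_cancel (f1.trans f2.symm)
      have := Nat.card_le_card_of_injective _ hinj
      simpa using this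
    have hpos : 0 < Nat.card f.ker := Nat.card_pos
    have h3 : Nat.card f.ker = 1 ∨ Nat.card f.ker = 2 := by omega
    rcases h3 with h3 | h3 <;> rw [h3]
    norm_num
  have h2 : Nat.card f.range ∣ Nat.card ↥(centralizer ({t} : Set H)) := card_subgroup_dvd_card _
  have h3 : Nat.card (L₁ × L₂) = Nat.card f.ker * Nat.card f.range := by
    rw [← index_ker, card_mul_index]
  rw [← Nat.card_prod, h3]
  exact mul_dvd_mul h1 h2

end basic

section rep

open Cfsg.Agent.Cit.LongBlock Cfsg.Agent.Cit.LongQuot Cfsg.Agent.Cit.LongMain Cfsg.Agent.Cit.LongConj Cfsg.Agent.Cit.LongAbs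

/-- the isomorphism of centralizers -/
theorem exists_cent {H H' : Type*} [Group H] [Group H'] (f : H ≃* H') (t : H) :
    ∃ e : ↥(centralizer ({t} : Set H)) ≃* ↥(centralizer ({f t} : Set H')), ∀ x, (e x : H') = f x := by
  have hm : (centralizer ({t} : Set H)).map f.toMonoidHom = centralizer ({f t} : Set H') := by
    ext y
    constructor
    · rintro ⟨x, hx, rfl⟩
      rw [mem_centralizer_singleton_iff]
      change f x * f t = f t * f x
      rw [← map_mul, ← map_mul, mem_centralizer_singleton_iff.1 hx]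
    · intro hy
      refine ⟨f.symm y, ?_, f.apply_symm_apply y⟩
      apply mem_centralizer_singleton_iff.2
      apply f.injective
      rw [map_mul, map_mul, f.apply_symm_apply]
      exact mem_centralizer_singleton_iff.1 hy
  refine ⟨((centralizer ({t} : Set H)).equivMapOfInjective f.toMonoidHom f.injective).trans (MulEquiv.subgroupCongr hm), ?_⟩
  intro x
  rfl

theorem ker_equiv {X Y : Type*} [Group X] [Group Y] (e : X ≃* Y) : Odd (Nat.card e.toMonoidHom.ker) := by
  have : e.toMonoidHom.ker = ⊥ := (MonoidHom.ker_eq_bot_iff _).2 e.injective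
  rw [this, Nat.card_congr (Equiv.refl _), card_bot]
  exact odd_one

/-- **`H = Γ / Z(Γ)`** -/
theorem rep_case {H : Type*} [Group H] [Finite H] {t : H} {τ s : ↥(centralizer ({t} : Set H))}
    {L₁ L₂ B P₁ P₂ : Subgroup ↥(centralizer ({t} : Set H))} (h : Facts τ s L₁ L₂ B P₁ P₂) (hτ : (τ : H) = t)
    {Γ : Type*} [Group Γ] [Finite Γ] {F₂ : Type*} [Field F₂] {κ : Type*} [Fintype κ] [DecidableEq κ] {R : Rep Γ F₂ κ}
    {F₁ : Type*} [Field F₁] [Fintype F₁] (hg : Good R F₁) (hsw : Swap R F₁)
    (htc : ∀ (S : Sylow 2 (Γ ⧸ center Γ)) (z : Γ ⧸ center Γ), z * z = 1 → z ≠ 1 → (∀ x ∈ S, x * z = z * x) →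
      ∃ g, g * z * g⁻¹ = z0 R) (f : H ≃* Γ ⧸ center Γ)
    {F : Type*} [Field F] [Fintype F] (ho : Odd (Fintype.card F))
    (e : L₁ ≃* Matrix.SpecialLinearGroup (Fin 2) F) :
    Nat.card (Matrix.SpecialLinearGroup (Fin 2) F) = Nat.card (Matrix.SpecialLinearGroup (Fin 2) F₁) ∧
      Nat.card ↥(centralizer ({t} : Set H)) = Nat.card (CC R) := by
  obtain ⟨e', he'⟩ := exists_cent f t
  have h' := h.map e'.toMonoidHom e'.surjective (ker_equiv e')
  have hτ' : ((e' τ : ↥(centralizer ({f t} : Set (Γ ⧸ center Γ)))) : Γ ⧸ center Γ) = f t := by rw [he', hτ]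
  obtain ⟨S, hS, -⟩ := exists_central h' hτ'
  obtain ⟨g, hgz⟩ := htc S (f t) (t_sq h' hτ') (t_ne h' hτ') hS
  have e1 : KK (L₁.map e'.toMonoidHom) ≃* Matrix.SpecialLinearGroup (Fin 2) F :=
    (Classical.choice (equivKK (L₁.map e'.toMonoidHom))).trans ((L₁.equivMapOfInjective e'.toMonoidHom e'.injective).symm.trans e)
  obtain ⟨g', hg', hD⟩ := conj_exact hg hsw hgz (KK_le _) (KK_subnormal h') (t_mem h' hτ') ho ⟨e1⟩
  constructor
  · obtain ⟨e2⟩ := hg.e1
    have hne := hg.ne
    rw [← Nat.card_congr e2.toEquiv, Nat.card_congr (D1Equiv R).toEquiv, ← Nat.card_congr e1.toEquiv, ← hD]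
    exact Nat.card_congr ((KK (L₁.map e'.toMonoidHom)).equivMapOfInjective _ (MulAut.conj g').injective).toEquiv
  · obtain ⟨e3, -⟩ := exists_cent (MulAut.conj g) (f t)
    have h5 : MulAut.conj g (f t) = z0 R := hgz
    rw [h5] at e3
    rw [Nat.card_congr e'.toEquiv, Nat.card_congr e3.toEquiv]

end rep

end Cfsg.Agent.H313.Elim
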