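import Cfsg.Agent.Cit.LongConj
import Cfsg.Agent.TypeLFive.SLTwoCore
import Cfsg.Agent.PLocal.SL2Gen

/-!
# `SL₂(q)`, `q` odd, as a subgroup `L` of a group: one involution, no subgroup of index two, normal subgroups
-/

set_option autoImplicit false

namespace Cfsg.Agent.H313.SLTwo

open Subgroup Matrix Cfsg.Agent.PLocal.SL2Gen Cfsg.Agent.Cit.LongAbs

/-- in `SL₂(3)` -/
theorem fact6 : ∀ x : Cit.LongSL3.S3, x ≠ 1 → x ≠ -1 → ∀ y : Cit.LongSL3.S3, y * y * (y * y) = 1 →
    ∃ u v : Cit.LongSL3.S3, y = (u * x * u⁻¹ * x⁻¹) * (v * x * v⁻¹ * x⁻¹) := by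
  decide +kernel

theorem fact7 : ∀ x : Cit.LongSL3.S3, (x * x * x) * (x * x * x) * ((x * x * x) * (x * x * x)) = 1 := by
  decide +kernel

theorem fact8 : ∀ x : Cit.LongSL3.S3, (x * x * (x * x)) * (x * x * (x * x)) = 1 → x * x * (x * x) = 1 := by
  decide +kernel

variable {F : Type*} [Field F]

theorem up_sq (t : F) : up t * up t = up (t + t) := (up_add t t).symm

/-- `SL₂(q)`, `q` odd, has no subgroup of index two -/
theorem sl_no (h2 : (2 : F) ≠ 0) (K : Subgroup (SpecialLinearGroup (Fin 2) F)) : K.index ≠ 2 := by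
  intro hK
  have h1 : K = ⊤ := by
    refine eq_top_of_forall K (fun t => ?_) (fun t => ?_)
    · have e : up t = up (t / 2) ^ 2 := by
        rw [pow_two, ← up_add]; congr 1; field_simp; ring
      rw [e]
      exact Subgroup.sq_mem_of_index_two hK _
    · have e : lo t = lo (t / 2) ^ 2 := by
        rw [pow_two, ← lo_add]; congr 1; field_simp; ring
      rw [e]
      exact Subgroup.sq_mem_of_index_two hK _
  rw [h1, index_top] at hK
  exact absurd hK (by norm_num)

theorem sl_nc (h2 : (2 : F) ≠ 0) : ∃ x y : SpecialLinearGroup (Fin 2) F, x * x * y ≠ y * (x * x) := by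
  refine ⟨up 1, lo 1, fun h => ?_⟩
  rw [up_sq] at h
  have h1 : (up (1 + 1 : F) * lo 1).1 0 0 = (lo 1 * up (1 + 1 : F)).1 0 0 := by rw [h]
  have e1 : (up (1 + 1 : F) * lo 1).1 = !![1, 1 + 1; 0, 1] * !![1, 0; 1, 1] := rfl
  have e2 : (lo 1 * up (1 + 1 : F)).1 = !![1, 0; 1, 1] * !![1, 1 + 1; 0, 1] := rfl
  rw [e1, e2] at h1
  simp [Matrix.mul_apply, Fin.sum_univ_two] at h1
  exact h2 (by linear_combination h1)

/-- facts on `SL₂`-like subgroups -/
structure SLike {X : Type*} [Group X] (L : Subgroup X) (τ : X) : Prop where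
  uniq : ∀ x ∈ L, x * x = 1 → x = 1 ∨ x = τ
  no : ∀ K : Subgroup X, K.relIndex L ≠ 2
  nrm : ∀ N : Subgroup X, N ≤ L → (∀ a ∈ L, ∀ x ∈ N, a * x * a⁻¹ ∈ N) → (∀ x ∈ N, x = 1 ∨ x = τ) ∨
    ((∀ a ∈ L, a * a * a ∈ N) ∧ ∀ P : Subgroup X, P ≤ L → IsPGroup 2 P → P ≤ N)
  nc : ∃ x ∈ L, ∃ y ∈ L, x * x * y ≠ y * (x * x)

theorem slike {X : Type*} [Group X] (L : Subgroup X) (τ : X) [Fintype F] (ho : Odd (Fintype.card F))
    (e : L ≃* SpecialLinearGroup (Fin 2) F) (hτ : τ ∈ L) (hτ1 : τ ≠ 1) (hτ2 : τ * τ = 1) : SLike L τ := by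
  have h2 : (2 : F) ≠ 0 := SignalizersComponents.SLQuasisimple.two_ne_zero_of_odd ho
  have uniq : ∀ x ∈ L, x * x = 1 → x = 1 ∨ x = τ := by
    intro x hx hxx
    by_cases h1 : x = 1
    · exact Or.inl h1
    · right
      have h3 : e ⟨x, hx⟩ = -1 := Cit.LongConj.eq_neg_one h2
        (by rw [← map_mul, ← map_one e]; congr 1; exact Subtype.ext hxx)
        (fun h => h1 (congrArg Subtype.val (e.injective (h.trans (map_one e).symm))))
      have h4 : e ⟨τ, hτ⟩ = -1 := Cit.LongConj.eq_neg_one h2
        (by rw [← map_mul, ← map_one e]; congr 1; exact Subtype.ext hτ2)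
        (fun h => hτ1 (congrArg Subtype.val (e.injective (h.trans (map_one e).symm))))
      exact congrArg Subtype.val (e.injective (h3.trans h4.symm))
  refine ⟨uniq, ?_, ?_, ?_⟩
  · intro K hK
    have h1 : ((K.subgroupOf L).comap e.symm.toMonoidHom).index = 2 := by
      rw [index_comap_of_surjective _ e.symm.surjective]
      exact hK
    exact sl_no h2 _ h1
  · intro N hN hn
    by_cases h3 : Fintype.card F = 3
    · obtain ⟨f⟩ := equiv_S3 h3
      by_cases hc : ∀ x ∈ N, x = 1 ∨ x = τ
      · exact Or.inl hc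
      · right
        push Not at hc
        obtain ⟨x, hx, hx1, hxτ⟩ := hc
        let g : L ≃* Cit.LongSL3.S3 := e.trans f
        have hxL := hN hx
        have hne : g ⟨x, hxL⟩ ≠ 1 := fun h => hx1 (congrArg Subtype.val (g.injective (h.trans (map_one g).symm)))
        have hne' : g ⟨x, hxL⟩ ≠ -1 := by
          intro h
          have h5 : g ⟨x, hxL⟩ * g ⟨x, hxL⟩ = 1 := by rw [h]; simp
          rw [← map_mul, ← map_one g] at h5
          have h6 : x * x = 1 := congrArg Subtype.val (g.injective h5)
          rcases uniq x hxL h6 with h7 | h7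
          · exact hx1 h7
          · exact hxτ h7
        have key : ∀ y ∈ L, y * y * (y * y) = 1 → y ∈ N := by
          intro y hy hy4
          obtain ⟨u, v, huv⟩ := fact6 _ hne hne' (g ⟨y, hy⟩)
            (by rw [← map_mul, ← map_mul, ← map_one g]; congr 1; exact Subtype.ext hy4)
          have h8 : (⟨y, hy⟩ : L) = (g.symm u * ⟨x, hxL⟩ * (g.symm u)⁻¹ * (⟨x, hxL⟩ : L)⁻¹) *
              (g.symm v * ⟨x, hxL⟩ * (g.symm v)⁻¹ * (⟨x, hxL⟩ : L)⁻¹) := by
            apply g.injective
            rw [huv]
            simp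
          have h9 : y = ((g.symm u : X) * x * (g.symm u : X)⁻¹ * x⁻¹) * ((g.symm v : X) * x * (g.symm v : X)⁻¹ * x⁻¹) :=
            congrArg Subtype.val h8
          rw [h9]
          exact N.mul_mem (N.mul_mem (hn _ (g.symm u).2 _ hx) (N.inv_mem hx))
            (N.mul_mem (hn _ (g.symm v).2 _ hx) (N.inv_mem hx))
        refine ⟨fun a ha => ?_, fun P hP hP2 a ha => ?_⟩
        · apply key _ (L.mul_mem (L.mul_mem ha ha) ha)
          have h5 := fact7 (g ⟨a, ha⟩)
          simp only [← map_mul] at h5
          rw [← map_one g] at h5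
          exact congrArg Subtype.val (g.injective h5)
        · have haL := hP ha
          apply key a haL
          have step : ∀ k : ℕ, ∀ y : L, y ^ 2 ^ k = 1 → y * y * (y * y) = 1 := by
            intro k
            induction k with
            | zero =>
              intro y hy
              have : y = 1 := by simpa using hy
              rw [this]; simp
            | succ k ih =>
              intro y hy
              have h5 : (y * y) ^ 2 ^ k = 1 := by rw [← pow_two, ← pow_mul, ← pow_succ']; exact hy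
              have h6 := ih _ h5
              apply g.injective
              rw [map_one, map_mul, map_mul]
              apply fact8
              have h7 := congrArg g h6
              rw [map_mul, map_mul, map_mul, map_one] at h7
              exact h7
          obtain ⟨k, hk⟩ := hP2 ⟨a, ha⟩
          have hk' : a ^ 2 ^ k = 1 := congrArg Subtype.val hk
          exact congrArg Subtype.val (step k ⟨a, haL⟩ (Subtype.ext hk'))
    · have h4 : 3 < Fintype.card F := by
        have h5 : 1 < Fintype.card F := Fintype.one_lt_card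
        obtain ⟨k, hk⟩ := ho
        omega
      have hN' : ((N.subgroupOf L).comap e.symm.toMonoidHom).Normal := by
        constructor
        intro x hx y
        rw [mem_comap, mem_subgroupOf] at hx ⊢
        have := hn _ (e.symm y).2 _ hx
        simpa using this
      rcases TypeLFive.SLTwoCore.normal_cases h4 _ hN' with h5 | h5
      · left
        intro x hx
        have hxL := hN hx
        have h6 : e ⟨x, hxL⟩ ∈ center (SpecialLinearGroup (Fin 2) F) := by
          apply h5
          rw [mem_comap, mem_subgroupOf]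
          simpa using hx
        have h7 : e ⟨x, hxL⟩ * e ⟨x, hxL⟩ = 1 := by
          rw [Matrix.SpecialLinearGroup.mem_center_iff] at h6
          obtain ⟨c, hc, hc'⟩ := h6
          rw [Fintype.card_fin] at hc
          apply Subtype.ext
          change (e ⟨x, hxL⟩).1 * (e ⟨x, hxL⟩).1 = 1
          rw [← hc', ← map_mul, ← pow_two, hc, map_one]
        rw [← map_mul, ← map_one e] at h7
        exact uniq x hxL (congrArg Subtype.val (e.injective h7))
      · right
        have h6 : ∀ x ∈ L, x ∈ N := by
          intro x hx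
          have h7 : e ⟨x, hx⟩ ∈ (N.subgroupOf L).comap e.symm.toMonoidHom := by rw [h5]; exact mem_top _
          rw [mem_comap, mem_subgroupOf] at h7
          simpa using h7
        exact ⟨fun a ha => h6 _ (L.mul_mem (L.mul_mem ha ha) ha), fun P hP _ a ha => h6 a (hP ha)⟩
  · obtain ⟨x, y, hxy⟩ := sl_nc h2
    refine ⟨e.symm x, (e.symm x).2, e.symm y, (e.symm y).2, fun h => hxy ?_⟩
    have h1 : e.symm x * e.symm x * e.symm y = e.symm y * (e.symm x * e.symm x) := Subtype.ext h
    simp only [← map_mul] at h1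
    exact e.symm.injective h1

end Cfsg.Agent.H313.SLTwo
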