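import Cfsg.Agent.H313.Red
import Cfsg.Agent.H313.SLTwo
import Cfsg.Agent.H313.Quot

/-!
# The centralizer of `diag(-1,-1,1,1)` in `PSL₄(q)` (and similar groups) satisfies `Red.Facts`
-/

set_option autoImplicit false

namespace Cfsg.Agent.H313.Model

open Subgroup Matrix Cfsg.Agent.Cit.LongAbs Cfsg.Agent.Cit.LongBlock Cfsg.Agent.Cit.LongQuot
  Cfsg.Agent.Cit.LongMain Cfsg.Agent.Cit.LongModel Cfsg.Agent.Cit.LongInst Cfsg.Agent.H313.SLTwo
  Cfsg.Agent.H313.Red Cfsg.Agent.Cit.LongTwo Cfsg.Agent.PLocal.SL2Gen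

variable {Γ : Type*} [Group Γ] {F : Type*} [Field F] {T : Set (F →+* F)}

section swap

variable {R : Rep Γ F (Fin 2)} {s : Γ} (hs : R.ρ s = fromBlocks 0 1 1 0)
include hs

theorem s_sq : s * s = 1 := by
  apply R.inj
  rw [map_mul, hs, fromBlocks_multiply, map_one, ← fromBlocks_one]
  simp

theorem s_inv : s⁻¹ = s := inv_eq_of_mul_eq_one_left (s_sq hs)

theorem s_conj {g : Γ} {P S} (hg : R.ρ g = fromBlocks P 0 0 S) : R.ρ (s * g * s⁻¹) = fromBlocks S 0 0 P := by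
  rw [s_inv hs, map_mul, map_mul, hs, hg, fromBlocks_multiply, fromBlocks_multiply]
  simp

theorem pr_s_mem : pr Γ s ∈ CC R := by
  rw [mem_CC]
  have h := s_conj hs R.t_eq
  apply R.mem_center_of_scalar (c := -1)
  rw [map_mul, h, R.t_inv, R.t_eq, fromBlocks_multiply, ← fromBlocks_one, fromBlocks_smul]
  simp

theorem not_comm_s (h2 : (2 : F) ≠ 0) : s * R.t ≠ R.t * s := by
  intro h
  have h1 := congrArg R.ρ h
  rw [map_mul, map_mul, hs, R.t_eq, fromBlocks_multiply, fromBlocks_multiply, fromBlocks_inj] at h1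
  have h3 := h1.2.1
  simp only [Matrix.zero_mul, Matrix.mul_zero, Matrix.mul_one, zero_add, add_zero, Matrix.neg_mul] at h3
  have h4 := congrFun (congrFun h3 0) 0
  simp only [Matrix.neg_apply, Matrix.one_apply_eq] at h4
  exact h2 (by linear_combination h4)

theorem pr_s_not (h2 : (2 : F) ≠ 0) : pr Γ s ∉ C0 R := by
  rintro ⟨g, hg, hgs⟩
  have hgt : g * R.t = R.t * g := mem_centralizer_singleton_iff.1 hg
  have h1 : g⁻¹ * s ∈ center Γ := QuotientGroup.eq.1 hgs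
  have h3 := mem_center_iff.1 h1 R.t
  apply not_comm_s hs h2
  calc s * R.t = g * ((g⁻¹ * s) * R.t) := by group
    _ = g * (R.t * (g⁻¹ * s)) := by rw [h3]
    _ = (g * R.t) * (g⁻¹ * s) := by group
    _ = (R.t * g) * (g⁻¹ * s) := by rw [hgt]
    _ = R.t * s := by group

theorem mem_or {x : Γ ⧸ center Γ} (hx : x ∈ CC R) : x ∈ C0 R ∨ x * pr Γ s ∈ C0 R := by
  obtain ⟨g, rfl⟩ := pr_surjective x
  rw [mem_CC] at hx
  obtain ⟨c, hc⟩ := R.cen _ hx
  have h1 : R.ρ (g * R.t * g⁻¹) = c • R.ρ R.t := by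
    have h3 : g * R.t * g⁻¹ = (g * R.t * g⁻¹ * R.t⁻¹) * R.t := by group
    rw [h3, map_mul, hc, smul_mul_assoc, one_mul]
  have h3 : c * c = 1 := by
    have h4 : R.ρ (g * R.t * g⁻¹) * R.ρ (g * R.t * g⁻¹) = 1 := by
      rw [← map_mul]
      have : g * R.t * g⁻¹ * (g * R.t * g⁻¹) = g * (R.t * R.t) * g⁻¹ := by group
      rw [this, R.t_sq]
      simp
    rw [h1, smul_mul_smul_comm, ← map_mul, R.t_sq, map_one] at h4
    have := congrFun (congrFun h4 (Sum.inl 0)) (Sum.inl 0)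
    simpa using this
  have h4 : (c - 1) * (c + 1) = 0 := by linear_combination h3
  rcases mul_eq_zero.1 h4 with h5 | h5
  · left
    have h6 : c = 1 := sub_eq_zero.1 h5
    rw [h6, one_smul] at h1
    have h7 := R.inj h1
    refine ⟨g, mem_centralizer_singleton_iff.2 ?_, rfl⟩
    rw [mul_inv_eq_iff_eq_mul] at h7
    exact h7
  · right
    have h6 : c = -1 := eq_neg_of_add_eq_zero_left h5
    refine ⟨g * s, mem_centralizer_singleton_iff.2 ?_, by rw [map_mul]⟩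
    apply R.inj
    have h7 : R.ρ (s * R.t * s⁻¹) = -R.ρ R.t := by
      rw [s_conj hs R.t_eq, R.t_eq, fromBlocks_neg]
      simp
    have h8 : g * s * R.t = (g * (s * R.t * s⁻¹) * g⁻¹) * (g * s) := by group
    rw [h8, map_mul, map_mul, map_mul, h7, mul_neg, neg_mul, ← map_mul, ← map_mul, h1, h6, map_mul]
    simp

end swap

section blocks

variable {R : Rep Γ F (Fin 2)}

theorem z0_sq : z0 R * z0 R = 1 := by rw [z0, ← map_mul, R.t_sq, map_one]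

theorem z0_ne (h2 : (2 : F) ≠ 0) : z0 R ≠ 1 := by
  intro h
  rw [z0, pr_eq_one] at h
  obtain ⟨c, hc⟩ := R.cen _ h
  rw [R.t_eq] at hc
  have e1 := congrFun (congrFun hc (Sum.inl 0)) (Sum.inl 0)
  have e2 := congrFun (congrFun hc (Sum.inr 0)) (Sum.inr 0)
  simp at e1 e2
  exact h2 (by linear_combination e2 - e1)

/-- `t` and the negative of it -/
theorem z0_mem2 (hR : Model R T) : z0 R ∈ D2 R := by
  obtain ⟨g, hg⟩ := (hR (fromBlocks 1 0 0 (-1))).2 (Cond.fromBlocks (Cond.one T) ⟨by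
    rw [det_neg, det_one, Fintype.card_fin]; simp, fun t _ => by
      ext i j
      fin_cases i <;> fin_cases j <;> simp [Matrix.mul_apply, Fin.sum_univ_two]⟩)
  refine ⟨g, ⟨_, hg⟩, ?_⟩
  have h5 : g * R.t⁻¹ ∈ center Γ := by
    apply R.mem_center_of_scalar (c := -1)
    rw [R.t_inv, map_mul, hg, R.t_eq, fromBlocks_multiply, ← fromBlocks_one, fromBlocks_smul]
    simp
  rw [← pr_eq_one, map_mul, map_inv, mul_inv_eq_one] at h5
  exact h5

theorem z0_mem1 : z0 R ∈ D1 R := ⟨R.t, R.t_mem, rfl⟩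

/-- elements of `B` have block diagonal preimages -/
theorem mem_C0 (h2 : (2 : F) ≠ 0) {x : Γ ⧸ center Γ} (hx : x ∈ C0 R) : ∃ g P S, pr Γ g = x ∧ R.ρ g = fromBlocks P 0 0 S := by
  obtain ⟨g, hg, rfl⟩ := hx
  obtain ⟨P, S, h⟩ := R.blocks_of_comm h2 (mem_centralizer_singleton_iff.1 hg)
  exact ⟨g, P, S, rfl, h⟩

theorem mem_sup (hR : Model R T) {g : Γ} {P S} (h : R.ρ g = fromBlocks P 0 0 S) (hP : P.det = 1)
    (hS : S.det = 1) : pr Γ g ∈ D1 R ⊔ D2 R := by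
  rw [D1, D2, ← Subgroup.map_sup]
  exact mem_map_of_mem _ (hR.toW.split.mem R h hP hS)

theorem det_mul_det (hR : Model R T) {g : Γ} {P S} (h : R.ρ g = fromBlocks P 0 0 S) : P.det * S.det = 1 := by
  have h1 : Cond T (R.ρ g) := (hR _).1 ⟨g, rfl⟩
  rw [h] at h1
  have := h1.1
  rwa [det_fromBlocks_zero₂₁] at this

/-- `B / D1 D2` is inverted by `s` -/
theorem s_inverts (hR : Model R T) (h2 : (2 : F) ≠ 0) {s : Γ} (hs : R.ρ s = fromBlocks 0 1 1 0) {b : Γ ⧸ center Γ}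
    (hb : b ∈ C0 R) : pr Γ s * b * (pr Γ s)⁻¹ * b ∈ D1 R ⊔ D2 R := by
  obtain ⟨g, P, S, rfl, hg⟩ := mem_C0 h2 hb
  have h1 := det_mul_det hR hg
  have h3 : R.ρ (s * g * s⁻¹ * g) = fromBlocks (S * P) 0 0 (P * S) := by
    rw [map_mul, s_conj hs hg, hg, fromBlocks_multiply]
    simp
  have h4 := mem_sup hR h3 (by rw [det_mul, mul_comm, h1]) (by rw [det_mul, h1])
  simpa using h4

/-- `B / D1 D2` is commutative -/
theorem comm_mem (hR : Model R T) (h2 : (2 : F) ≠ 0) {b c : Γ ⧸ center Γ}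
    (hb : b ∈ C0 R) (hc : c ∈ C0 R) : b * c * b⁻¹ * c⁻¹ ∈ D1 R ⊔ D2 R := by
  obtain ⟨g, P, S, rfl, hg⟩ := mem_C0 h2 hb
  obtain ⟨k, P', S', rfl, hk⟩ := mem_C0 h2 hc
  obtain ⟨P1, S1, e1, e2, -, e3, -⟩ := R.blocks_inv hg
  obtain ⟨P2, S2, f1, f2, -, f3, -⟩ := R.blocks_inv hk
  have h3 : R.ρ (g * k * g⁻¹ * k⁻¹) = fromBlocks (P * P' * P1 * P2) 0 0 (S * S' * S1 * S2) := by
    rw [map_mul, map_mul, map_mul, hg, hk, e1, f1, fromBlocks_multiply, fromBlocks_multiply, fromBlocks_multiply]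
    simp
  have d1 : P.det * P1.det = 1 := by rw [← det_mul, e2, det_one]
  have d2 : P'.det * P2.det = 1 := by rw [← det_mul, f2, det_one]
  have d3 : S.det * S1.det = 1 := by rw [← det_mul, e3, det_one]
  have d4 : S'.det * S2.det = 1 := by rw [← det_mul, f3, det_one]
  have h4 := mem_sup hR h3
    (by rw [det_mul, det_mul, det_mul]; linear_combination (P'.det * P2.det) * d1 + d2)
    (by rw [det_mul, det_mul, det_mul]; linear_combination (S'.det * S2.det) * d3 + d4)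
  simpa using h4

theorem s_conj12 {s : Γ} (hs : R.ρ s = fromBlocks 0 1 1 0) {a : Γ ⧸ center Γ} (ha : a ∈ D1 R) :
    pr Γ s * a * (pr Γ s)⁻¹ ∈ D2 R := by
  obtain ⟨g, ⟨P, hP⟩, rfl⟩ := ha
  exact ⟨s * g * s⁻¹, ⟨P, s_conj hs hP⟩, by simp⟩

theorem s_conj21 {s : Γ} (hs : R.ρ s = fromBlocks 0 1 1 0) {a : Γ ⧸ center Γ} (ha : a ∈ D2 R) :
    pr Γ s * a * (pr Γ s)⁻¹ ∈ D1 R := by
  obtain ⟨g, ⟨P, hP⟩, rfl⟩ := ha
  exact ⟨s * g * s⁻¹, ⟨P, s_conj hs hP⟩, by simp⟩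

end blocks

/-! ### the case of `SL₄` -/

section SL

variable {R : Rep Γ F (Fin 2)} (hR : Model R ∅) (h2 : (2 : F) ≠ 0)

/-- `diag(1,-1)` -/
def J (F : Type*) [Field F] : Matrix (Fin 2) (Fin 2) F := !![1, 0; 0, -1]

theorem J_sq : J F * J F = 1 := by
  ext i j
  fin_cases i <;> fin_cases j <;> simp [J, Matrix.mul_apply, Fin.sum_univ_two]

theorem J_det : (J F).det = -1 := by simp [J]

include hR in
theorem exists_h : ∃ h : Γ, R.ρ h = fromBlocks (J F) 0 0 (J F) := by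
  refine (hR _).2 ⟨?_, fun t ht => absurd ht (Set.notMem_empty t)⟩
  rw [det_fromBlocks_zero₂₁, J_det]
  ring

include hR h2 in
theorem D1_le_of {h : Γ} (hh : R.ρ h = fromBlocks (J F) 0 0 (J F)) (N : Subgroup (Γ ⧸ center Γ))
    (hN : ∀ u ∈ D1 R, pr Γ h * u * (pr Γ h)⁻¹ * u⁻¹ ∈ N) : D1 R ≤ N := by
  let K : Subgroup (SpecialLinearGroup (Fin 2) F) :=
    { carrier := {P | ∃ g, R.ρ g = fromBlocks P.1 0 0 1 ∧ pr Γ g ∈ N}
      one_mem' := ⟨1, by rw [map_one, ← fromBlocks_one]; rfl, by rw [map_one]; exact N.one_mem⟩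
      mul_mem' := by
        rintro P Q ⟨g, hg, hgN⟩ ⟨k, hk, hkN⟩
        refine ⟨g * k, ?_, by rw [map_mul]; exact N.mul_mem hgN hkN⟩
        rw [map_mul, hg, hk, fromBlocks_multiply]
        have : (P * Q).1 = P.1 * Q.1 := rfl
        rw [this]
        simp
      inv_mem' := by
        rintro P ⟨g, hg, hgN⟩
        refine ⟨g⁻¹, ?_, by rw [map_inv]; exact N.inv_mem hgN⟩
        obtain ⟨P', S', h', e1, e2, e3, e4⟩ := R.blocks_inv hg
        rw [h']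
        have h3 : P⁻¹.1 * P.1 = 1 := congrArg Subtype.val (inv_mul_cancel P)
        have h4 : P' = P⁻¹.1 := by
          calc P' = (P⁻¹.1 * P.1) * P' := by rw [h3, Matrix.one_mul]
            _ = P⁻¹.1 := by rw [Matrix.mul_assoc, e1, Matrix.mul_one]
        rw [h4, ← e3, Matrix.one_mul] }
  have hK : K = ⊤ := by
    have key : ∀ P Q : SpecialLinearGroup (Fin 2) F, J F * P.1 * J F = Q.1 → Q * P⁻¹ ∈ K := by
      intro P Q hPQ
      obtain ⟨g, hg⟩ := hR.toW.ex P.1 1 ⟨P.2, fun t ht => absurd ht (Set.notMem_empty t)⟩ (Cond.one _)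
      obtain ⟨P', S', h', e1, e2, e3, e4⟩ := R.blocks_inv hg
      obtain ⟨J', J'', hj, f1, f2, f3, f4⟩ := R.blocks_inv hh
      have hJ' : J' = J F := by
        calc J' = (J F * J F) * J' := by rw [J_sq, Matrix.one_mul]
          _ = J F := by rw [Matrix.mul_assoc, f1, Matrix.mul_one]
      have hJ'' : J'' = J F := by
        calc J'' = (J F * J F) * J'' := by rw [J_sq, Matrix.one_mul]
          _ = J F := by rw [Matrix.mul_assoc, f3, Matrix.mul_one]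
      have h3 : P⁻¹.1 * P.1 = 1 := congrArg Subtype.val (inv_mul_cancel P)
      have h4 : P' = P⁻¹.1 := by
        calc P' = (P⁻¹.1 * P.1) * P' := by rw [h3, Matrix.one_mul]
          _ = P⁻¹.1 := by rw [Matrix.mul_assoc, e1, Matrix.mul_one]
      have h5 : S' = 1 := by rw [← e3, Matrix.one_mul]
      refine ⟨h * g * h⁻¹ * g⁻¹, ?_, ?_⟩
      · rw [map_mul, map_mul, map_mul, hh, hg, hj, h', fromBlocks_multiply, fromBlocks_multiply, fromBlocks_multiply,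
          hJ', hJ'', h4, h5]
        have : (Q * P⁻¹).1 = Q.1 * P⁻¹.1 := rfl
        rw [this, ← hPQ]
        simp [J_sq]
      · have := hN (pr Γ g) ⟨g, ⟨P.1, hg⟩, rfl⟩
        simpa using this
    refine eq_top_of_forall K (fun t => ?_) (fun t => ?_)
    · have h3 := key (up (-(t / 2))) (up (t / 2)) (by
        have e1 : (up (-(t / 2)) : SpecialLinearGroup (Fin 2) F).1 = !![1, -(t / 2); 0, 1] := rfl
        have e2 : (up (t / 2) : SpecialLinearGroup (Fin 2) F).1 = !![1, t / 2; 0, 1] := rfl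
        rw [e1, e2]
        ext i j
        fin_cases i <;> fin_cases j <;> simp [J, Matrix.mul_apply, Fin.sum_univ_two])
      have h4 : up (t / 2) * (up (-(t / 2)))⁻¹ = up t := by
        rw [mul_inv_eq_iff_eq_mul, ← up_add]; congr 1; field_simp; ring
      rwa [h4] at h3
    · have h3 := key (lo (-(t / 2))) (lo (t / 2)) (by
        have e1 : (lo (-(t / 2)) : SpecialLinearGroup (Fin 2) F).1 = !![1, 0; -(t / 2), 1] := rfl
        have e2 : (lo (t / 2) : SpecialLinearGroup (Fin 2) F).1 = !![1, 0; t / 2, 1] := rfl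
        rw [e1, e2]
        ext i j
        fin_cases i <;> fin_cases j <;> simp [J, Matrix.mul_apply, Fin.sum_univ_two])
      have h4 : lo (t / 2) * (lo (-(t / 2)))⁻¹ = lo t := by
        rw [mul_inv_eq_iff_eq_mul, ← lo_add]; congr 1; field_simp; ring
      rwa [h4] at h3
  rintro _ ⟨g, ⟨P, hP⟩, rfl⟩
  have hPd : P.det = 1 := by
    have h1 : Cond ∅ (R.ρ g) := (hR _).1 ⟨g, rfl⟩
    rw [hP] at h1
    exact (cond_fromBlocks_left.1 h1).1
  have h3 : (⟨P, hPd⟩ : SpecialLinearGroup (Fin 2) F) ∈ K := by rw [hK]; trivial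
  obtain ⟨g', hg', hN'⟩ := h3
  have : g' = g := R.inj (hg'.trans hP.symm)
  rwa [this] at hN'

include hR h2 in
theorem D2_le_of {s h : Γ} (hs : R.ρ s = fromBlocks 0 1 1 0) (hh : R.ρ h = fromBlocks (J F) 0 0 (J F))
    (N : Subgroup (Γ ⧸ center Γ))
    (hN : ∀ u ∈ D2 R, pr Γ h * u * (pr Γ h)⁻¹ * u⁻¹ ∈ N) : D2 R ≤ N := by
  have hsh : s * h * s⁻¹ = h := by
    apply R.inj
    rw [s_conj hs hh, hh]
  have h1 := D1_le_of hR h2 hh (N.comap (MulAut.conj (pr Γ s)⁻¹).toMonoidHom) (by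
    intro u hu
    rw [mem_comap]
    change (pr Γ s)⁻¹ * (pr Γ h * u * (pr Γ h)⁻¹ * u⁻¹) * ((pr Γ s)⁻¹)⁻¹ ∈ N
    have h3 : (pr Γ s)⁻¹ * pr Γ h * pr Γ s = pr Γ h := by
      rw [← map_inv, ← map_mul, ← map_mul]
      congr 1
      rw [← hsh]
      group
      simp [hsh]
    have h4 : (pr Γ s)⁻¹ * (pr Γ h * u * (pr Γ h)⁻¹ * u⁻¹) * ((pr Γ s)⁻¹)⁻¹ =
        ((pr Γ s)⁻¹ * pr Γ h * pr Γ s) * ((pr Γ s)⁻¹ * u * pr Γ s) * ((pr Γ s)⁻¹ * pr Γ h * pr Γ s)⁻¹ *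
          ((pr Γ s)⁻¹ * u * pr Γ s)⁻¹ := by group
    rw [h4, h3]
    apply hN
    have h5 := s_conj12 hs hu
    have h6 : (pr Γ s)⁻¹ = pr Γ s := by rw [← map_inv, s_inv hs]
    rw [h6] at h5 ⊢
    exact h5)
  intro u hu
  have h3 := h1 (s_conj21 hs hu)
  rw [mem_comap] at h3
  change (pr Γ s)⁻¹ * (pr Γ s * u * (pr Γ s)⁻¹) * ((pr Γ s)⁻¹)⁻¹ ∈ N at h3
  have h4 : (pr Γ s)⁻¹ * (pr Γ s * u * (pr Γ s)⁻¹) * ((pr Γ s)⁻¹)⁻¹ = u := by group
  rwa [h4] at h3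

end SL

/-! ### the facts -/

section only

variable {R : Rep Γ F (Fin 2)} (hR : Model R T) {a b : F} (h2 : (2 : F) ≠ 0) (h : Quat T a b)
include h2 h

/-- commuting with the two quaternion pairs modulo the centre -/
theorem biscalar {x y x' y' : Γ} (hx : R.ρ x = fromBlocks (U1 F) 0 0 1) (hy : R.ρ y = fromBlocks (U2 a b) 0 0 1)
    (hx' : R.ρ x' = fromBlocks 1 0 0 (U1 F)) (hy' : R.ρ y' = fromBlocks 1 0 0 (U2 a b)) {g : Γ}
    (c1 : pr Γ g * pr Γ x = pr Γ x * pr Γ g) (c2 : pr Γ g * pr Γ y = pr Γ y * pr Γ g)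
    (c3 : pr Γ g * pr Γ x' = pr Γ x' * pr Γ g) (c4 : pr Γ g * pr Γ y' = pr Γ y' * pr Γ g) :
    ∃ c d : F, R.ρ g = fromBlocks (c • 1) 0 0 (d • 1) := by
  rw [pr_comm] at c1 c2 c3 c4
  have t1 : trace (R.ρ x) ≠ 0 := by rw [hx, trace_blocks, trace_U1]; simpa using h2
  have t2 : trace (R.ρ y) ≠ 0 := by rw [hy, trace_blocks, trace_U2]; simpa using h2
  have t3 : trace (R.ρ x') ≠ 0 := by rw [hx', trace_blocks, trace_U1]; simpa using h2
  have t4 : trace (R.ρ y') ≠ 0 := by rw [hy', trace_blocks, trace_U2]; simpa using h2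
  replace c1 := R.comm_of_trace c1 t1
  replace c2 := R.comm_of_trace c2 t2
  replace c3 := R.comm_of_trace c3 t3
  replace c4 := R.comm_of_trace c4 t4
  have ht : x * x = R.t := by
    apply R.inj
    rw [map_mul, hx, fromBlocks_multiply, R.t_eq]
    simp [U1_sq]
  have hgt : g * R.t = R.t * g := by
    rw [← ht]
    calc g * (x * x) = (g * x) * x := (mul_assoc _ _ _).symm
      _ = x * (g * x) := by rw [c1, mul_assoc, c1, ← mul_assoc]
      _ = x * x * g := by rw [c1, mul_assoc]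
  obtain ⟨P, S, hPS⟩ := R.blocks_of_comm h2 hgt
  have d1 := congrArg R.ρ c1
  have d2 := congrArg R.ρ c2
  have d3 := congrArg R.ρ c3
  have d4 := congrArg R.ρ c4
  rw [map_mul, map_mul, hPS, hx, fromBlocks_multiply, fromBlocks_multiply, fromBlocks_inj] at d1
  rw [map_mul, map_mul, hPS, hy, fromBlocks_multiply, fromBlocks_multiply, fromBlocks_inj] at d2
  rw [map_mul, map_mul, hPS, hx', fromBlocks_multiply, fromBlocks_multiply, fromBlocks_inj] at d3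
  rw [map_mul, map_mul, hPS, hy', fromBlocks_multiply, fromBlocks_multiply, fromBlocks_inj] at d4
  simp only [Matrix.zero_mul, Matrix.mul_zero, add_zero, zero_add] at d1 d2 d3 d4
  obtain ⟨c, hc⟩ := scalar_of_comm h2 h d1.1 d2.1
  obtain ⟨d, hd⟩ := scalar_of_comm h2 h d3.2.2.2 d4.2.2.2
  exact ⟨c, d, by rw [hPS, hc, hd]⟩

end only

theorem slike_subgroupOf {L : Type*} [Group L] {C D : Subgroup L} (hDC : D ≤ C) {F₁ : Type*} [Field F₁] [Fintype F₁]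
    (ho : Odd (Fintype.card F₁)) (e : D ≃* SpecialLinearGroup (Fin 2) F₁) {τ : C} (hτ : (τ : L) ∈ D) (hτ1 : τ ≠ 1)
    (hτ2 : τ * τ = 1) : SLike (D.subgroupOf C) τ :=
  slike _ τ ho ((subgroupOfEquivOfLe hDC).trans e) (mem_subgroupOf.2 hτ) hτ1 hτ2

/-- **Facts for `SL₄`** -/
theorem facts [Finite Γ] {R : Rep Γ F (Fin 2)} (hR : Model R ∅) [Fintype F] (ho : Odd (Fintype.card F)) :
    ∃ (s : CC R) (P₁ P₂ : Subgroup (CC R)), Facts (⟨z0 R, by simp [mem_centralizer_singleton_iff]⟩ : CC R) s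
      ((D1 R).subgroupOf (CC R)) ((D2 R).subgroupOf (CC R)) ((C0 R).subgroupOf (CC R)) P₁ P₂ := by
  have h2 : (2 : F) ≠ 0 := SignalizersComponents.SLQuasisimple.two_ne_zero_of_odd ho
  obtain ⟨a, b, hq⟩ := exists_quat F
  obtain ⟨s, hs⟩ := Cit.LongConj.Model.swap hR
  obtain ⟨h, hh⟩ := exists_h hR
  obtain ⟨e0⟩ := un_empty_equiv F (Fin 2)
  obtain ⟨f1⟩ := hR.toW.equiv1
  obtain ⟨f2⟩ := hR.toW.equiv2
  have e1 : D1 R ≃* SpecialLinearGroup (Fin 2) F := (D1Equiv R).symm.trans (f1.trans e0)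
  have e2 : D2 R ≃* SpecialLinearGroup (Fin 2) F := (D2Equiv R).symm.trans (f2.trans e0)
  obtain ⟨x, hx⟩ := hR.toW.ex _ _ (cond_U1 ∅) (Cond.one ∅)
  obtain ⟨y, hy⟩ := hR.toW.ex _ _ (cond_U2 hq) (Cond.one ∅)
  have hx' := s_conj hs hx
  have hy' := s_conj hs hy
  set Q : Subgroup (Γ ⧸ center Γ) := closure (pr Γ '' {x, y}) with hQ
  have hQp : IsPGroup 2 Q := map_pgroup (pair_pgroup hq hx hy)
  have hxQ : pr Γ x ∈ Q := subset_closure ⟨x, Or.inl rfl, rfl⟩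
  have hyQ : pr Γ y ∈ Q := subset_closure ⟨y, Or.inr rfl, rfl⟩
  have hQD : Q ≤ D1 R := by
    rw [hQ, closure_le]
    rintro _ ⟨u, rfl | rfl, rfl⟩
    · exact ⟨_, ⟨_, hx⟩, rfl⟩
    · exact ⟨_, ⟨_, hy⟩, rfl⟩
  set Q' : Subgroup (Γ ⧸ center Γ) := Q.map (MulAut.conj (pr Γ s)).toMonoidHom with hQ'
  have hQp' : IsPGroup 2 Q' := hQp.map _
  have hQD' : Q' ≤ D2 R := by
    rintro _ ⟨u, hu, rfl⟩
    exact s_conj12 hs (hQD hu)
  have hxx : pr Γ x * pr Γ x = z0 R := by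
    rw [z0, ← map_mul]
    congr 1
    apply R.inj
    rw [map_mul, hx, fromBlocks_multiply, R.t_eq]
    simp [U1_sq]
  have hzQ : z0 R ∈ Q := by rw [← hxx]; exact Q.mul_mem hxQ hxQ
  have hsC : pr Γ s ∈ CC R := pr_s_mem hs
  have hsz : pr Γ s * z0 R * (pr Γ s)⁻¹ = z0 R := by
    rw [mul_inv_eq_iff_eq_mul]
    exact mem_centralizer_singleton_iff.1 hsC
  have hzQ' : z0 R ∈ Q' := ⟨z0 R, hzQ, hsz⟩
  have D1C := (D1_le R).trans (C0_le R)
  have D2C := (D2_le R).trans (C0_le R)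
  set τ : CC R := ⟨z0 R, by simp [mem_centralizer_singleton_iff]⟩ with hτ
  have hτ1 : τ ≠ 1 := fun h => z0_ne h2 (congrArg Subtype.val h)
  have hτ2 : τ * τ = 1 := Subtype.ext z0_sq
  have S1 : SLike ((D1 R).subgroupOf (CC R)) τ := slike_subgroupOf D1C ho e1 (hQD hzQ) hτ1 hτ2
  have S2 : SLike ((D2 R).subgroupOf (CC R)) τ := slike_subgroupOf D2C ho e2 (hQD' hzQ') hτ1 hτ2
  have hp1 : pr Γ x ∈ CC R := D1C (hQD hxQ)
  have hx1 : pr Γ x ≠ 1 := by
    intro h3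
    rw [h3, one_mul] at hxx
    exact z0_ne h2 hxx.symm
  have hxz : pr Γ x ≠ z0 R := by
    intro h3
    rw [h3] at hxx
    exact z0_ne h2 (mul_eq_left.1 hxx)
  have big1 : ∃ p ∈ Q.subgroupOf (CC R), p ≠ 1 ∧ p ≠ τ :=
    ⟨⟨pr Γ x, hp1⟩, mem_subgroupOf.2 hxQ, fun h => hx1 (congrArg Subtype.val h), fun h => hxz (congrArg Subtype.val h)⟩
  have hx'Q : pr Γ (s * x * s⁻¹) ∈ Q' := ⟨pr Γ x, hxQ, by simp⟩
  have hy'Q : pr Γ (s * y * s⁻¹) ∈ Q' := ⟨pr Γ y, hyQ, by simp⟩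
  have big2 : ∃ p ∈ Q'.subgroupOf (CC R), p ≠ 1 ∧ p ≠ τ := by
    refine ⟨⟨pr Γ (s * x * s⁻¹), D2C (hQD' hx'Q)⟩, mem_subgroupOf.2 hx'Q, fun h => hx1 ?_, fun h => hxz ?_⟩
    · have h3 : pr Γ (s * x * s⁻¹) = 1 := congrArg Subtype.val h
      rw [map_mul, map_mul, map_inv, mul_inv_eq_one] at h3
      exact mul_eq_left.1 h3
    · have h3 : pr Γ (s * x * s⁻¹) = z0 R := congrArg Subtype.val h
      rw [← hsz, map_mul, map_mul, map_inv] at h3
      exact mul_left_cancel (mul_right_cancel h3)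
  have hidx : ((C0 R).subgroupOf (CC R)).index = 2 := by
    rw [index_eq_two_iff]
    refine ⟨⟨pr Γ s, hsC⟩, fun g => ?_⟩
    rw [mem_subgroupOf, mem_subgroupOf, coe_mul]
    rcases mem_or hs g.2 with h3 | h3
    · right
      refine ⟨h3, fun h4 => pr_s_not hs h2 ?_⟩
      exact ((C0 R).mul_mem_cancel_left h3).1 h4
    · left
      refine ⟨h3, fun h4 => pr_s_not hs h2 ?_⟩
      exact ((C0 R).mul_mem_cancel_left h4).1 h3
  have only : ∀ g : CC R, g * g = 1 → (∀ y ∈ Q.subgroupOf (CC R), g * y = y * g) →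
      (∀ y ∈ Q'.subgroupOf (CC R), g * y = y * g) → g = 1 ∨ g = τ := by
    rintro ⟨g, hg⟩ hgg k1 k2
    by_cases hg1 : (⟨g, hg⟩ : CC R) = 1
    · exact Or.inl hg1
    right
    obtain ⟨g, rfl⟩ := pr_surjective g
    have m1 : ∀ u ∈ Q, pr Γ g * u = u * pr Γ g := fun u hu =>
      congrArg Subtype.val (k1 ⟨u, D1C (hQD hu)⟩ (mem_subgroupOf.2 hu))
    have m2 : ∀ u ∈ Q', pr Γ g * u = u * pr Γ g := fun u hu =>
      congrArg Subtype.val (k2 ⟨u, D2C (hQD' hu)⟩ (mem_subgroupOf.2 hu))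
    obtain ⟨c, d, hcd⟩ := biscalar h2 hq hx hy hx' hy' (m1 _ hxQ) (m1 _ hyQ) (m2 _ hx'Q) (m2 _ hy'Q)
    exact Subtype.ext (eq_z0 R (congrArg Subtype.val hgg) (fun h => hg1 (Subtype.ext h)) hcd)
  have hsup : ∀ u : CC R, (u : Γ ⧸ center Γ) ∈ D1 R ⊔ D2 R →
      u ∈ (D1 R).subgroupOf (CC R) ⊔ (D2 R).subgroupOf (CC R) := by
    intro u hu
    rw [← subgroupOf_sup D1C D2C]
    exact mem_subgroupOf.2 hu
  have comm : ∀ a ∈ (D1 R).subgroupOf (CC R), ∀ b ∈ (D2 R).subgroupOf (CC R), a * b = b * a := fun a ha b hb =>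
    Subtype.ext (comm_D1_D2 R ha hb)
  have s_not : (⟨pr Γ s, hsC⟩ : CC R) ∉ (C0 R).subgroupOf (CC R) := fun h => pr_s_not hs h2 h
  have conj1 : ∀ a ∈ (D1 R).subgroupOf (CC R), (⟨pr Γ s, hsC⟩ : CC R) * a * (⟨pr Γ s, hsC⟩ : CC R)⁻¹ ∈
      (D2 R).subgroupOf (CC R) := fun a ha => s_conj12 hs ha
  have conj2 : ∀ a ∈ (D2 R).subgroupOf (CC R), (⟨pr Γ s, hsC⟩ : CC R) * a * (⟨pr Γ s, hsC⟩ : CC R)⁻¹ ∈
      (D1 R).subgroupOf (CC R) := fun a ha => s_conj21 hs ha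
  have norm1 : ∀ b ∈ (C0 R).subgroupOf (CC R), ∀ a ∈ (D1 R).subgroupOf (CC R), b * a * b⁻¹ ∈ (D1 R).subgroupOf (CC R) :=
    fun b hb a ha => D1_conj R h2 hb ha
  have norm2 : ∀ b ∈ (C0 R).subgroupOf (CC R), ∀ a ∈ (D2 R).subgroupOf (CC R), b * a * b⁻¹ ∈ (D2 R).subgroupOf (CC R) :=
    fun b hb a ha => D2_conj R h2 hb ha
  have le1 : Q.subgroupOf (CC R) ≤ (D1 R).subgroupOf (CC R) := fun u hu => hQD hu
  have le2 : Q'.subgroupOf (CC R) ≤ (D2 R).subgroupOf (CC R) := fun u hu => hQD' hu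
  have pg1 : IsPGroup 2 (Q.subgroupOf (CC R)) := hQp.of_equiv (subgroupOfEquivOfLe (hQD.trans D1C)).symm
  have pg2 : IsPGroup 2 (Q'.subgroupOf (CC R)) := hQp'.of_equiv (subgroupOfEquivOfLe (hQD'.trans D2C)).symm
  have nrm : ∀ {L P : Subgroup (CC R)}, SLike L τ → P ≤ L → IsPGroup 2 P → ∀ N : Subgroup (CC R), N ≤ L →
      (∀ a ∈ L, ∀ x ∈ N, a * x * a⁻¹ ∈ N) → (∀ x ∈ N, x = 1 ∨ x = τ) ∨ P ≤ N := by
    intro L P S hPL hP N hN hn
    rcases S.nrm N hN hn with h3 | h3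
    · exact Or.inl h3
    · exact Or.inr (h3.2 P hPL hP)
  have hhC : pr Γ h ∈ CC R := mem_CC_of_comm R (R.comm_t_of_blocks hh)
  refine ⟨⟨pr Γ s, hsC⟩, Q.subgroupOf (CC R), Q'.subgroupOf (CC R), ?_⟩
  exact {
    ne := hτ1
    sq := hτ2
    cen := fun x => Subtype.ext (mem_centralizer_singleton_iff.1 x.2)
    mem₁ := mem_subgroupOf.2 hzQ
    mem₂ := mem_subgroupOf.2 hzQ'
    comm := comm
    index := hidx
    s_not := s_not
    conj₁ := conj1
    conj₂ := conj2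
    norm₁ := norm1
    norm₂ := norm2
    le₁ := le1
    le₂ := le2
    pg₁ := pg1
    pg₂ := pg2
    uniq₁ := S1.uniq
    uniq₂ := S2.uniq
    no₁ := S1.no
    no₂ := S2.no
    nrm₁ := nrm S1 le1 pg1
    nrm₂ := nrm S2 le2 pg2
    nc₁ := S1.nc
    nc₂ := S2.nc
    big₁ := big1
    big₂ := big2
    only := only
    quot := fun N hN hP1 hP2 hno => Quot.quot (h := ⟨pr Γ h, hhC⟩) comm hidx s_not conj1 conj2 norm1 norm2
      (fun b hb => hsup _ (s_inverts hR h2 hs hb)) (fun b hb c hc => hsup _ (comm_mem hR h2 hb hc)) S1 S2 le1 le2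
      big1 big2 (Subtype.ext (by
        change pr Γ h * pr Γ h = 1
        rw [← map_mul]
        have : h * h = 1 := by
          apply R.inj
          rw [map_mul, hh, fromBlocks_multiply, map_one, ← fromBlocks_one]
          simp [J_sq]
        rw [this, map_one]))
      (fun N hN u hu => by
        have h3 := D1_le_of hR h2 hh (N.map (CC R).subtype) (fun u hu =>
          ⟨_, hN ⟨u, D1C hu⟩ hu, rfl⟩) hu
        obtain ⟨v, hv, hvu⟩ := h3
        have : v = u := Subtype.ext hvu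
        rwa [← this])
      (fun N hN u hu => by
        have h3 := D2_le_of hR h2 hs hh (N.map (CC R).subtype) (fun u hu =>
          ⟨_, hN ⟨u, D2C hu⟩ hu, rfl⟩) hu
        obtain ⟨v, hv, hvu⟩ := h3
        have : v = u := Subtype.ext hvu
        rwa [← this]) N hN hP1 hP2 hno }

end Cfsg.Agent.H313.Model
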