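import Cfsg.Agent.H313.Model
import Cfsg.Agent.ClassicalGeometry.PSL2Basic
import Cfsg.Agent.LieClassical.GUOrder

/-!
# The order of the centralizer of `diag(-1,-1,1,1)` in `PSL₄(q)`, `PSU₄(q)`
-/

set_option autoImplicit false

namespace Cfsg.Agent.H313.ModelCard

open Subgroup Matrix Cfsg.Agent.Cit.LongAbs Cfsg.Agent.Cit.LongBlock Cfsg.Agent.Cit.LongQuot
  Cfsg.Agent.Cit.LongMain Cfsg.Agent.Cit.LongModel Cfsg.Agent.Cit.LongInst Cfsg.Agent.H313.SLTwo
  Cfsg.Agent.H313.Model

variable {Γ : Type*} [Group Γ] {F : Type*} [Field F] {T : Set (F →+* F)}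

/-- the determinants of the blocks -/
def DT (T : Set (F →+* F)) : Subgroup Fˣ where
  carrier := {u | ∀ t ∈ T, (u : F) * t (u : F) = 1}
  one_mem' := fun t _ => by simp
  mul_mem' := by
    intro a b ha hb t ht
    have h1 := ha t ht
    have h2 := hb t ht
    rw [Units.val_mul, map_mul]
    linear_combination ((b : F) * t b) * h1 + h2
  inv_mem' := by
    intro a ha t ht
    have h1 := ha t ht
    have h2 : (a : F) ≠ 0 := a.ne_zero
    have h3 : t (a : F) ≠ 0 := by
      intro h
      rw [h, mul_zero] at h1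
      exact zero_ne_one h1
    rw [Units.val_inv_eq_inv_val, map_inv₀, ← mul_inv, h1, inv_one]

variable {R : Rep Γ F (Fin 2)} (hR : Model R T) (h2 : (2 : F) ≠ 0)

/-- determinant of the first block -/
noncomputable def del (R : Rep Γ F (Fin 2)) (h2 : (2 : F) ≠ 0) : centralizer {R.t} →* F where
  toFun g := (R.ρ g).toBlocks₁₁.det
  map_one' := by
    rw [Subgroup.coe_one, map_one, ← fromBlocks_one, toBlocks_fromBlocks₁₁, det_one]
  map_mul' := by
    intro g k
    obtain ⟨P, S, hP⟩ := R.blocks_of_comm h2 (mem_centralizer_singleton_iff.1 g.2)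
    obtain ⟨P', S', hP'⟩ := R.blocks_of_comm h2 (mem_centralizer_singleton_iff.1 k.2)
    rw [Subgroup.coe_mul, map_mul, hP, hP', fromBlocks_multiply, toBlocks_fromBlocks₁₁, toBlocks_fromBlocks₁₁,
      toBlocks_fromBlocks₁₁]
    simp

theorem del_apply {g : centralizer {R.t}} {P S} (h : R.ρ g = fromBlocks P 0 0 S) : del R h2 g = P.det := by
  change (R.ρ g).toBlocks₁₁.det = P.det
  rw [h, toBlocks_fromBlocks₁₁]

include hR

theorem del_range : (del R h2).toHomUnits.range = DT T := by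
  ext u
  constructor
  · rintro ⟨g, rfl⟩ t ht
    obtain ⟨P, S, hP⟩ := R.blocks_of_comm h2 (mem_centralizer_singleton_iff.1 g.2)
    have h3 : (((del R h2).toHomUnits g : Fˣ) : F) = P.det := del_apply h2 hP
    rw [h3]
    have h1 : Cond T (R.ρ g) := (hR _).1 ⟨g, rfl⟩
    have h4 := h1.2 t ht
    rw [hP, fromBlocks_transpose, fromBlocks_map, fromBlocks_multiply, ← fromBlocks_one, fromBlocks_inj] at h4
    have h5 := h4.1
    simp only [Matrix.transpose_zero, Matrix.zero_mul, add_zero] at h5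
    have h6 := congrArg det h5
    rw [det_mul, det_transpose, det_one] at h6
    have h7 : (P.map t).det = t P.det := (RingHom.map_det t P).symm
    rwa [h7] at h6
  · intro hu
    have h0 : (u : F) ≠ 0 := u.ne_zero
    have key : Cond T (fromBlocks (!![(u : F), 0; 0, 1]) 0 0 (!![(u : F)⁻¹, 0; 0, 1]) :
        Matrix (Fin 2 ⊕ Fin 2) (Fin 2 ⊕ Fin 2) F) := by
      refine ⟨?_, fun t ht => ?_⟩
      · rw [det_fromBlocks_zero₂₁, det_fin_two_of, det_fin_two_of]
        field_simp
        ring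
      · have hu' := hu t ht
        have h3 : t (u : F) ≠ 0 := by
          intro h
          rw [h, mul_zero] at hu'
          exact zero_ne_one hu'
        rw [fromBlocks_transpose, fromBlocks_map, fromBlocks_multiply, ← fromBlocks_one]
        congr 1
        · ext i j
          fin_cases i <;> fin_cases j <;> simp [Matrix.mul_apply, Fin.sum_univ_two, hu']
        · ext i j
          fin_cases i <;> fin_cases j <;> simp
        · ext i j
          fin_cases i <;> fin_cases j <;> simp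
        · ext i j
          fin_cases i <;> fin_cases j <;> simp [Matrix.mul_apply, Fin.sum_univ_two]
          rw [← mul_inv, hu', inv_one]
    obtain ⟨g, hg⟩ := (hR _).2 key
    have hgt := R.comm_t_of_blocks hg
    refine ⟨⟨g, mem_centralizer_singleton_iff.2 hgt⟩, ?_⟩
    apply Units.ext
    have h3 : (((del R h2).toHomUnits ⟨g, mem_centralizer_singleton_iff.2 hgt⟩ : Fˣ) : F) = _ := del_apply h2 hg
    rw [h3, det_fin_two_of]
    simp

theorem del_ker : Nat.card (del R h2).toHomUnits.ker = Nat.card R.E1 * Nat.card R.E2 := by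
  rw [← Nat.card_prod]
  symm
  have hab : ∀ {a b : Γ} {P S : Matrix (Fin 2) (Fin 2) F}, R.ρ a = fromBlocks P 0 0 1 → R.ρ b = fromBlocks 1 0 0 S →
      R.ρ (a * b) = fromBlocks P 0 0 S := by
    intro a b P S hP hS
    rw [map_mul, hP, hS, fromBlocks_multiply]
    simp
  have hm : ∀ p : R.E1 × R.E2, (p.1 : Γ) * p.2 ∈ centralizer {R.t} := by
    rintro ⟨⟨a, P, hP⟩, ⟨b, S, hS⟩⟩
    rw [mem_centralizer_singleton_iff]
    exact R.comm_t_of_blocks (hab hP hS)
  have hdet : ∀ g P, R.ρ g = fromBlocks P 0 0 1 → P.det = 1 := by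
    intro g P hP
    exact (hR.toW.left g P hP).1
  have hdet' : ∀ g P, R.ρ g = fromBlocks 1 0 0 P → P.det = 1 := by
    intro g P hP
    exact (hR.toW.right g P hP).1
  have hk : ∀ p : R.E1 × R.E2, (⟨(p.1 : Γ) * p.2, hm p⟩ : centralizer {R.t}) ∈ (del R h2).toHomUnits.ker := by
    rintro ⟨⟨a, P, hP⟩, ⟨b, S, hS⟩⟩
    rw [MonoidHom.mem_ker]
    apply Units.ext
    have h3 : (((del R h2).toHomUnits ⟨a * b, hm (⟨a, P, hP⟩, ⟨b, S, hS⟩)⟩ : Fˣ) : F) = P.det := by
      exact del_apply h2 (g := ⟨a * b, hm (⟨a, P, hP⟩, ⟨b, S, hS⟩)⟩) (hab hP hS)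
    rw [Units.val_one]
    exact h3.trans (hdet _ _ hP)
  refine Nat.card_eq_of_bijective (fun p : R.E1 × R.E2 => (⟨⟨(p.1 : Γ) * p.2, hm p⟩, hk p⟩ : (del R h2).toHomUnits.ker)) ⟨?_, ?_⟩
  · rintro ⟨⟨a, P, hP⟩, ⟨b, S, hS⟩⟩ ⟨⟨a', P', hP'⟩, ⟨b', S', hS'⟩⟩ h
    have h3 : a * b = a' * b' := congrArg (fun x : (del R h2).toHomUnits.ker => ((x : centralizer {R.t}) : Γ)) h
    have h4 := congrArg R.ρ h3
    rw [map_mul, map_mul, hP, hS, hP', hS', fromBlocks_multiply, fromBlocks_multiply, fromBlocks_inj] at h4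
    simp only [Matrix.zero_mul, Matrix.mul_zero, add_zero, zero_add, Matrix.one_mul, Matrix.mul_one] at h4
    obtain ⟨h5, -, -, h6⟩ := h4
    have ha : a = a' := R.inj (by rw [hP, hP', h5])
    have hb : b = b' := R.inj (by rw [hS, hS', h6])
    subst ha; subst hb
    rfl
  · rintro ⟨⟨g, hg⟩, hgk⟩
    obtain ⟨P, S, hP⟩ := R.blocks_of_comm h2 (mem_centralizer_singleton_iff.1 hg)
    rw [MonoidHom.mem_ker] at hgk
    have h3 : P.det = 1 := by
      have h4 : (((del R h2).toHomUnits ⟨g, hg⟩ : Fˣ) : F) = P.det := del_apply h2 hP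
      rw [hgk, Units.val_one] at h4
      exact h4.symm
    have h4 : S.det = 1 := by
      have := det_mul_det hR hP
      rwa [h3, one_mul] at this
    have h1 : Cond T (R.ρ g) := (hR _).1 ⟨g, rfl⟩
    rw [hP] at h1
    obtain ⟨c1, c2⟩ := (cond_fromBlocks h3 h4).1 h1
    obtain ⟨a, ha⟩ := hR.toW.ex P 1 c1 (Cond.one T)
    obtain ⟨b, hb⟩ := hR.toW.ex 1 S (Cond.one T) c2
    refine ⟨(⟨a, P, ha⟩, ⟨b, S, hb⟩), ?_⟩
    apply Subtype.ext; apply Subtype.ext
    change a * b = g
    apply R.inj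
    rw [map_mul, ha, hb, hP, fromBlocks_multiply]
    simp

include h2 in
theorem card_centralizer [Finite Γ] : Nat.card (centralizer {R.t}) = Nat.card (DT T) * (Nat.card R.E1 * Nat.card R.E2) := by
  rw [← del_ker hR h2, ← del_range hR h2, mul_comm, ← index_ker]
  exact (card_mul_index _).symm

include h2 in
theorem card_CC [Finite Γ] : Nat.card (CC R) * Nat.card (center Γ) =
    2 * (Nat.card (DT T) * (Nat.card R.E1 * Nat.card R.E2)) := by
  obtain ⟨s, hs⟩ := Cit.LongConj.Model.swap hR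
  have hsC : pr Γ s ∈ CC R := pr_s_mem hs
  have hidx : ((C0 R).subgroupOf (CC R)).index = 2 := by
    rw [index_eq_two_iff]
    refine ⟨⟨pr Γ s, hsC⟩, fun g => ?_⟩
    rw [mem_subgroupOf, mem_subgroupOf, coe_mul]
    rcases mem_or hs g.2 with h3 | h3
    · right
      refine ⟨h3, fun h4 => pr_s_not hs h2 ?_⟩
      exact ((C0 R).mul_mem_cancel_left h3).1 h4
    · left
      refine ⟨h3, fun h4 => pr_s_not hs h2 ?_⟩
      exact ((C0 R).mul_mem_cancel_left h4).1 h3
  have h1 : Nat.card (CC R) = 2 * Nat.card (C0 R) := by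
    have h3 := card_mul_index ((C0 R).subgroupOf (CC R))
    rw [hidx, Nat.card_congr (subgroupOfEquivOfLe (C0_le R)).toEquiv] at h3
    rw [← h3, mul_comm]
  have h3 : Nat.card (C0 R) * Nat.card (center Γ) = Nat.card (centralizer {R.t}) := by
    have hle : center Γ ≤ centralizer {R.t} := center_le_centralizer _
    have h4 : (center Γ).relIndex (centralizer {R.t}) = Nat.card (C0 R) := by
      have h5 := relIndex_ker (K := centralizer {R.t}) (pr Γ)
      rwa [QuotientGroup.ker_mk'] at h5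
    have h6 := card_mul_index ((center Γ).subgroupOf (centralizer {R.t}))
    rw [Nat.card_congr (subgroupOfEquivOfLe hle).toEquiv] at h6
    rw [← h4, relIndex, mul_comm, h6]
  rw [h1, mul_assoc, h3, card_centralizer hR h2]

omit hR in
/-- the scalar of a central element -/
noncomputable def cenHom (R : Rep Γ F (Fin 2)) : center Γ →* F where
  toFun g := R.ρ g (Sum.inl 0) (Sum.inl 0)
  map_one' := by simp
  map_mul' := by
    intro g k
    obtain ⟨c, hc⟩ := R.cen g g.2
    obtain ⟨d, hd⟩ := R.cen k k.2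
    rw [Subgroup.coe_mul, map_mul, hc, hd]
    simp [mul_comm]

omit hR in
theorem cenHom_apply {g : center Γ} {c : F} (h : R.ρ g = c • 1) : cenHom R g = c := by
  change R.ρ g (Sum.inl 0) (Sum.inl 0) = c
  rw [h]; simp

omit hR in
theorem cenHom_injective : Function.Injective (cenHom R) := by
  intro g k h
  obtain ⟨c, hc⟩ := R.cen g g.2
  obtain ⟨d, hd⟩ := R.cen k k.2
  rw [cenHom_apply hc, cenHom_apply hd] at h
  exact Subtype.ext (R.inj (by rw [hc, hd, h]))

theorem card_center_dvd [Finite Γ] : Nat.card (center Γ) ∣ 4 := by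
  have hinj : Function.Injective (cenHom R).toHomUnits := by
    intro g k h
    apply cenHom_injective (R := R)
    exact congrArg Units.val h
  have hcyc : IsCyclic (center Γ) := isCyclic_of_subgroup_isDomain (cenHom R) cenHom_injective
  obtain ⟨g, hg⟩ := hcyc.exists_generator
  have h1 : Nat.card (center Γ) = orderOf g := (orderOf_eq_card_of_forall_mem_zpowers hg).symm
  rw [h1]
  apply orderOf_dvd_of_pow_eq_one
  apply hinj
  rw [map_one, map_pow]
  obtain ⟨c, hc⟩ := R.cen g g.2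
  have h3 : Cond T (R.ρ g) := (hR _).1 ⟨g, rfl⟩
  have h4 := h3.1
  rw [hc, det_smul, det_one, mul_one] at h4
  apply Units.ext
  rw [Units.val_pow_eq_pow_val, Units.val_one]
  have h5 : (((cenHom R).toHomUnits g : Fˣ) : F) = c := cenHom_apply hc
  rw [h5]
  have h6 : Fintype.card (Fin 2 ⊕ Fin 2) = 4 := by simp
  rwa [h6] at h4

include h2 in
theorem two_dvd_card_center [Finite Γ] : 2 ∣ Nat.card (center Γ) := by
  obtain ⟨g, hg⟩ := (hR (fromBlocks (-1) 0 0 (-1))).2 (Cond.fromBlocks ⟨by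
    rw [det_neg, det_one, Fintype.card_fin]; simp, fun t _ => by
      ext i j
      fin_cases i <;> fin_cases j <;> simp [Matrix.mul_apply, Fin.sum_univ_two]⟩ ⟨by
    rw [det_neg, det_one, Fintype.card_fin]; simp, fun t _ => by
      ext i j
      fin_cases i <;> fin_cases j <;> simp [Matrix.mul_apply, Fin.sum_univ_two]⟩)
  have hg' : R.ρ g = (-1 : F) • 1 := by
    rw [hg, ← fromBlocks_one, fromBlocks_smul]; simp
  have hgc : g ∈ center Γ := R.mem_center_of_scalar hg'
  have h3 : orderOf (⟨g, hgc⟩ : center Γ) = 2 := by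
    apply orderOf_eq_prime
    · apply Subtype.ext
      apply R.inj
      change R.ρ (g ^ 2) = R.ρ 1
      rw [map_pow, hg', map_one, pow_two]
      simp
    · intro h
      have h4 : R.ρ g = 1 := by
        have : g = 1 := congrArg Subtype.val h
        rw [this, map_one]
      rw [hg'] at h4
      have h5 := congrFun (congrFun h4 (Sum.inl 0)) (Sum.inl 0)
      simp at h5
      apply h2
      linear_combination -h5
  rw [← h3]
  exact orderOf_dvd_natCard _

omit hR

theorem card_DT_empty [Fintype F] : Nat.card (DT (∅ : Set (F →+* F))) = Fintype.card F - 1 := by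
  have h1 : DT (∅ : Set (F →+* F)) = ⊤ := by
    rw [eq_top_iff]
    intro u _ t ht
    exact absurd ht (Set.notMem_empty t)
  rw [h1, Nat.card_congr Subgroup.topEquiv.toEquiv, Nat.card_units, Nat.card_eq_fintype_card]

theorem card_DT_su [Fintype F] {q : ℕ} (hF : Fintype.card F = q ^ 2) : Nat.card (DT ({cj hF} : Set (F →+* F))) = q + 1 := by
  rw [← Cfsg.Agent.LieClassical.GUOrder.card_ker_pow hF]
  congr 1
  have : DT ({cj hF} : Set (F →+* F)) = (powMonoidHom (q + 1) : Fˣ →* Fˣ).ker := by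
    ext u
    rw [MonoidHom.mem_ker, powMonoidHom_apply]
    constructor
    · intro h
      have h1 := h _ (Set.mem_singleton _)
      rw [cj_apply, ← pow_succ'] at h1
      exact Units.ext (by rw [Units.val_pow_eq_pow_val, h1, Units.val_one])
    · intro h t ht
      rw [Set.mem_singleton_iff.1 ht, cj_apply, ← pow_succ']
      have := congrArg Units.val h
      rwa [Units.val_pow_eq_pow_val, Units.val_one] at this
  rw [this]

/-- the order of the centralizer for `SL₄` -/
theorem card_sl [Fintype F] (ho : Odd (Fintype.card F)) {N : ℕ} (hN : N = Fintype.card F * (Fintype.card F ^ 2 - 1)) :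
    ∃ z, z ∣ 4 ∧ 2 ∣ z ∧ Nat.card (CC (slRep F 2)) * z = 2 * ((Fintype.card F - 1) * (N * N)) := by
  have h2 : (2 : F) ≠ 0 := SignalizersComponents.SLQuasisimple.two_ne_zero_of_odd ho
  have hR := slRep_model F 2
  refine ⟨_, card_center_dvd hR, two_dvd_card_center hR h2, ?_⟩
  rw [card_CC hR h2, card_DT_empty]
  obtain ⟨e0⟩ := un_empty_equiv F (Fin 2)
  obtain ⟨f1⟩ := hR.toW.equiv1
  obtain ⟨f2⟩ := hR.toW.equiv2
  rw [Nat.card_congr (f1.trans e0).toEquiv, Nat.card_congr (f2.trans e0).toEquiv,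
    Cfsg.Agent.ClassicalGeometry.PSL2Basic.card_SL2, hN]

/-- the order of the centralizer for `SU₄` -/
theorem card_su [Fintype F] {q : ℕ} (hF : Fintype.card F = q ^ 2) (ho : Odd (Fintype.card F)) {N : ℕ}
    (hN : N = q * (q ^ 2 - 1)) :
    ∃ z, z ∣ 4 ∧ 2 ∣ z ∧ Nat.card (CC (suRep hF 2 (by norm_num))) * z = 2 * ((q + 1) * (N * N)) := by
  have h2 : (2 : F) ≠ 0 := SignalizersComponents.SLQuasisimple.two_ne_zero_of_odd ho
  have hR := suRep_model hF 2 (by norm_num)
  refine ⟨_, card_center_dvd hR, two_dvd_card_center hR h2, ?_⟩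
  rw [card_CC hR h2, card_DT_su hF]
  obtain ⟨e0⟩ := un2_equiv hF
  obtain ⟨f1⟩ := hR.toW.equiv1
  obtain ⟨f2⟩ := hR.toW.equiv2
  rw [Nat.card_congr (f1.trans e0).toEquiv, Nat.card_congr (f2.trans e0).toEquiv,
    Cfsg.Agent.ClassicalGeometry.PSL2Basic.card_SL2, card_KK, hN]

/-- comparison -/
theorem compare {q a b k z z' N : ℕ} (hq : 3 ≤ q) (hN : 0 < N) (hz : z ∣ 4) (h2z : 2 ∣ z) (hz' : z' ∣ 4)
    (ha : a * z = 2 * ((q - 1) * (N * N))) (hb : b * z' = 2 * ((q + 1) * (N * N))) (hab : a = b * k) (hk : 0 < k) : q = 3 := by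
  have h1 : (q - 1) * z' = (q + 1) * (k * z) := by
    have h3 : (2 * (N * N)) * ((q - 1) * z') = (2 * (N * N)) * ((q + 1) * (k * z)) := by
      calc (2 * (N * N)) * ((q - 1) * z') = (2 * ((q - 1) * (N * N))) * z' := by ring
        _ = (b * z') * (k * z) := by rw [← ha, hab]; ring
        _ = (2 * (N * N)) * ((q + 1) * (k * z)) := by rw [hb]; ring
    exact Nat.eq_of_mul_eq_mul_left (by positivity) h3
  have hz4 : z ≤ 4 := Nat.le_of_dvd (by norm_num) hz
  have hz4' : z' ≤ 4 := Nat.le_of_dvd (by norm_num) hz'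
  obtain ⟨q', rfl⟩ : ∃ q', q = q' + 3 := ⟨q - 3, by omega⟩
  have e1 : q' + 3 - 1 = q' + 2 := by omega
  rw [e1] at h1
  have hz0 : z ≠ 0 := by rintro rfl; simp at hz
  have hz2 : 2 ≤ z := Nat.le_of_dvd (by omega) h2z
  have hkz : k * z < 4 := by
    by_contra h
    push Not at h
    have h3 : (q' + 3 + 1) * 4 ≤ (q' + 3 + 1) * (k * z) := Nat.mul_le_mul_left _ h
    have h4 : (q' + 2) * z' ≤ (q' + 2) * 4 := Nat.mul_le_mul_left _ hz4'
    omega
  have hk1 : k = 1 := by
    by_contra h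
    have : 2 ≤ k := by omega
    have : 2 * 2 ≤ k * z := Nat.mul_le_mul this hz2
    omega
  subst hk1
  rw [one_mul] at h1 hkz
  have : z = 2 := by omega
  subst this
  interval_cases z' <;> omega

end Cfsg.Agent.H313.ModelCard
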